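import Cfsg.Agent.Spor.Rub.D0

set_option autoImplicit false
set_option maxRecDepth 100000000
set_option Elab.async false

namespace Cfsg.Agent.Spor.Rub

theorem ok0 : Net.okb 11 n0 = true := by decide +kernel

theorem ok1 : Net.okb 11 n1 = true := by decide +kernel

theorem ok2 : Net.okb 11 n2 = true := by decide +kernel

theorem ok3 : Net.okb 11 n3 = true := by decide +kernel

theorem rel0 : T.rel 11 [1, 1] 0 11 = true := by decide +kernel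

theorem rel1 : T.rel 11 [6, 1, 2, 2, 3, 4, 1] 0 11 = true := by decide +kernel

theorem rel2 : T.rel 11 [7, 5, 7, 5, 7, 5, 7, 5] 0 11 = true := by decide +kernel

theorem rel3 : T.rel 11 [2, 5, 4, 4, 5, 7, 2, 2, 3, 4, 7, 5, 6, 3, 3, 6] 0 11 = true := by decide +kernel

theorem rel4 : T.rel 11 [5, 7, 5, 7, 7, 5, 6, 3, 6, 3, 3, 6] 0 11 = true := by decide +kernel

theorem rel5 : T.rel 11 [5, 7, 2, 5, 4, 4, 5, 7, 5, 7, 2, 2, 3, 4, 5, 7] 0 11 = true := by decide +kernel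

theorem rel6 : T.rel 11 [2, 5, 4, 4, 2, 5, 4, 4, 5, 7, 3, 6, 5, 7, 7, 5] 0 11 = true := by decide +kernel

theorem rel7 : T.rel 11 [2, 5, 4, 4, 2, 5, 4, 4, 2, 5, 4, 4, 2, 5, 4, 4] 0 11 = true := by decide +kernel

theorem rel8 : T.rel 11 [2, 5, 4, 4, 2, 5, 4, 4, 7, 5, 2, 5, 4, 4, 7, 5, 7, 5, 2, 5, 4, 4, 7, 5] 0 11 = true := by decide +kernel

theorem rel9 : T.rel 11 [2, 5, 4, 4, 7, 5, 2, 5, 4, 4, 7, 5, 2, 5, 4, 4, 7, 5, 2, 5, 4, 4, 7, 5] 0 11 = true := by decide +kernel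

theorem rel10 : T.rel 11 [3, 3, 3, 7, 6, 3] 0 11 = true := by decide +kernel

theorem rel11 : T.rel 11 [3, 2, 5, 4, 4, 5, 5, 7, 2, 2, 3, 4, 3, 6] 0 11 = true := by decide +kernel

theorem rel12 : T.rel 11 [3, 3, 2, 5, 4, 4, 6, 5, 3, 6, 6, 3, 3, 6, 2, 2, 3, 4] 0 11 = true := by decide +kernel

theorem rel13 : T.rel 11 [3, 7, 7, 7, 7, 5] 0 11 = true := by decide +kernel

theorem rel14 : T.rel 11 [2, 6, 4, 2, 5, 4, 4, 5, 7, 3, 2, 2, 3, 4] 0 11 = true := by decide +kernel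

theorem rel15 : T.rel 11 [2, 3, 3, 2, 6, 3, 2, 2, 3, 4, 7] 0 11 = true := by decide +kernel

theorem rel16 : T.rel 11 [2, 3, 6, 5, 4, 7, 2, 2, 3, 4, 5, 7, 7] 0 11 = true := by decide +kernel

theorem rel17 : T.rel 11 [2, 3, 4, 4, 1, 5, 1, 5, 4, 3, 2] 0 11 = true := by decide +kernel

theorem rel18 : T.rel 11 [1, 2, 1, 2, 1, 3, 4, 1, 4, 4, 1, 5, 2, 5, 1, 4, 1, 4, 1, 2, 3] 0 11 = true := by decide +kernel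

theorem rel19 : T.rel 11 [1, 2, 3, 2, 2, 1, 4, 4, 5, 4, 1, 2, 3, 7, 4, 6, 2, 5, 4] 0 11 = true := by decide +kernel

theorem hcov : T.treeCov (ones 1755) L 1 = true := by decide +kernel

theorem hg : lall (fun z => band (memL L z) (band (sub (ones 1755) (T.let z).cl) (T.closed (ones 1755) z))) gs = true := by decide +kernel

theorem rot1_1 : T.rot 1 [1] (sel (ones 1755) ip1 1) = true := by decide +kernel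

theorem rot1_1r : band (Rule.ok (2 * 1) EX RL ⟨1 :: [1], [], 18, false⟩) (lall (memL L) [1]) = true := by decide +kernel

theorem rot1_2 : T.rot 1 [2, 5, 4, 4, 1, 7] (sel (ones 1755) ip1 2) = true := by decide +kernel

theorem rot1_2r : band (Rule.ok (2 * 1) EX RL ⟨1 :: [2, 5, 4, 4, 1, 7], [], 18, false⟩) (lall (memL L) [2, 5, 4, 4, 1, 7]) = true := by decide +kernel

theorem rot1_3 : T.rot 1 [7, 1, 2, 5, 4, 4] (sel (ones 1755) ip1 3) = true := by decide +kernel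

theorem rot1_3r : band (Rule.ok (2 * 1) EX RL ⟨1 :: [7, 1, 2, 5, 4, 4], [], 18, false⟩) (lall (memL L) [7, 1, 2, 5, 4, 4]) = true := by decide +kernel

theorem rot1_4 : T.rot 1 [2, 2, 3, 4, 1, 6] (sel (ones 1755) ip1 4) = true := by decide +kernel

theorem rot1_4r : band (Rule.ok (2 * 1) EX RL ⟨1 :: [2, 2, 3, 4, 1, 6], [], 18, false⟩) (lall (memL L) [2, 2, 3, 4, 1, 6]) = true := by decide +kernel

theorem rot1_5 : T.rot 1 [6, 1, 2, 2, 3, 4] (sel (ones 1755) ip1 5) = true := by decide +kernel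

theorem rot1_5r : band (Rule.ok (2 * 1) EX RL ⟨1 :: [6, 1, 2, 2, 3, 4], [], 18, false⟩) (lall (memL L) [6, 1, 2, 2, 3, 4]) = true := by decide +kernel

theorem rot1_6 : T.rot 1 [5, 1, 5, 4, 3, 2, 2, 3, 4, 4] (sel (ones 1755) ip1 6) = true := by decide +kernel

theorem rot1_6r : band (Rule.ok (2 * 1) EX RL ⟨1 :: [5, 1, 5, 4, 3, 2, 2, 3, 4, 4], [3, 5, 2, 2], 15, true⟩) (lall (memL L) [5, 1, 5, 4, 3, 2, 2, 3, 4, 4]) = true := by decide +kernel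

theorem rot1_7 : T.rot 1 [5, 4, 3, 2, 2, 3, 4, 4, 1, 5] (sel (ones 1755) ip1 7) = true := by decide +kernel

theorem rot1_7r : band (Rule.ok (2 * 1) EX RL ⟨1 :: [5, 4, 3, 2, 2, 3, 4, 4, 1, 5], [2, 4, 3, 5, 0], 15, true⟩) (lall (memL L) [5, 4, 3, 2, 2, 3, 4, 4, 1, 5]) = true := by decide +kernel

theorem rot1_8 : T.rot 1 [3, 1, 2, 2, 5, 4, 4, 5, 2, 3] (sel (ones 1755) ip1 8) = true := by decide +kernel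

theorem rot1_8r : band (Rule.ok (2 * 1) EX RL ⟨1 :: [3, 1, 2, 2, 5, 4, 4, 5, 2, 3], [2, 4, 3, 5], 15, false⟩) (lall (memL L) [3, 1, 2, 2, 5, 4, 4, 5, 2, 3]) = true := by decide +kernel

theorem rot1_9 : T.rot 1 [2, 2, 5, 4, 4, 5, 2, 3, 1, 3] (sel (ones 1755) ip1 9) = true := by decide +kernel

theorem rot1_9r : band (Rule.ok (2 * 1) EX RL ⟨1 :: [2, 2, 5, 4, 4, 5, 2, 3, 1, 3], [3, 5, 2, 2, 0], 15, false⟩) (lall (memL L) [2, 2, 5, 4, 4, 5, 2, 3, 1, 3]) = true := by decide +kernel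

theorem rot1_10 : T.rot 1 [2, 3, 2, 2, 1, 4, 4, 5, 4, 1, 2, 3, 7, 4, 6, 2, 5, 4] (sel (ones 1755) ip1 10) = true := by decide +kernel

theorem rot1_10r : band (Rule.ok (2 * 1) EX RL ⟨1 :: [2, 3, 2, 2, 1, 4, 4, 5, 4, 1, 2, 3, 7, 4, 6, 2, 5, 4], [], 17, true⟩) (lall (memL L) [2, 3, 2, 2, 1, 4, 4, 5, 4, 1, 2, 3, 7, 4, 6, 2, 5, 4]) = true := by decide +kernel

theorem rot1_11 : T.rot 1 [4, 4, 5, 4, 1, 2, 3, 7, 4, 6, 2, 5, 4, 1, 2, 3, 2, 2] (sel (ones 1755) ip1 11) = true := by decide +kernel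

theorem rot1_11r : band (Rule.ok (2 * 1) EX RL ⟨1 :: [4, 4, 5, 4, 1, 2, 3, 7, 4, 6, 2, 5, 4, 1, 2, 3, 2, 2], [0, 3, 5, 3, 3], 17, true⟩) (lall (memL L) [4, 4, 5, 4, 1, 2, 3, 7, 4, 6, 2, 5, 4, 1, 2, 3, 2, 2]) = true := by decide +kernel

theorem rot1_12 : T.rot 1 [2, 3, 7, 4, 6, 2, 5, 4, 1, 2, 3, 2, 2, 1, 4, 4, 5, 4] (sel (ones 1755) ip1 12) = true := by decide +kernel

theorem rot1_12r : band (Rule.ok (2 * 1) EX RL ⟨1 :: [2, 3, 7, 4, 6, 2, 5, 4, 1, 2, 3, 2, 2, 1, 4, 4, 5, 4], [0, 3, 5, 3, 3, 0, 2, 2, 4, 2], 17, true⟩) (lall (memL L) [2, 3, 7, 4, 6, 2, 5, 4, 1, 2, 3, 2, 2, 1, 4, 4, 5, 4]) = true := by decide +kernel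

theorem rot1_13 : T.rot 1 [2, 3, 2, 2, 1, 4, 4, 5, 4, 1, 2, 3, 4, 7, 2, 6, 5, 4] (sel (ones 1755) ip1 13) = true := by decide +kernel

theorem rot1_13r : band (Rule.ok (2 * 1) EX RL ⟨1 :: [2, 3, 2, 2, 1, 4, 4, 5, 4, 1, 2, 3, 4, 7, 2, 6, 5, 4], [0, 3, 5, 3, 3, 0, 2, 2, 4, 2, 0], 17, false⟩) (lall (memL L) [2, 3, 2, 2, 1, 4, 4, 5, 4, 1, 2, 3, 4, 7, 2, 6, 5, 4]) = true := by decide +kernel

theorem rot1_14 : T.rot 1 [4, 4, 5, 4, 1, 2, 3, 4, 7, 2, 6, 5, 4, 1, 2, 3, 2, 2] (sel (ones 1755) ip1 14) = true := by decide +kernel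

theorem rot1_14r : band (Rule.ok (2 * 1) EX RL ⟨1 :: [4, 4, 5, 4, 1, 2, 3, 4, 7, 2, 6, 5, 4, 1, 2, 3, 2, 2], [0, 3, 5, 3, 3, 0], 17, false⟩) (lall (memL L) [4, 4, 5, 4, 1, 2, 3, 4, 7, 2, 6, 5, 4, 1, 2, 3, 2, 2]) = true := by decide +kernel

theorem rot1_15 : T.rot 1 [2, 3, 4, 7, 2, 6, 5, 4, 1, 2, 3, 2, 2, 1, 4, 4, 5, 4] (sel (ones 1755) ip1 15) = true := by decide +kernel

theorem rot1_15r : band (Rule.ok (2 * 1) EX RL ⟨1 :: [2, 3, 4, 7, 2, 6, 5, 4, 1, 2, 3, 2, 2, 1, 4, 4, 5, 4], [0], 17, false⟩) (lall (memL L) [2, 3, 4, 7, 2, 6, 5, 4, 1, 2, 3, 2, 2, 1, 4, 4, 5, 4]) = true := by decide +kernel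

theorem rot1_16 : T.rot 1 [2, 1, 2, 1, 3, 4, 1, 4, 4, 1, 5, 2, 5, 1, 4, 1, 4, 1, 2, 3] (sel (ones 1755) ip1 16) = true := by decide +kernel

theorem rot1_16r : band (Rule.ok (2 * 1) EX RL ⟨1 :: [2, 1, 2, 1, 3, 4, 1, 4, 4, 1, 5, 2, 5, 1, 4, 1, 4, 1, 2, 3], [], 16, true⟩) (lall (memL L) [2, 1, 2, 1, 3, 4, 1, 4, 4, 1, 5, 2, 5, 1, 4, 1, 4, 1, 2, 3]) = true := by decide +kernel

theorem rot1_17 : T.rot 1 [2, 1, 3, 4, 1, 4, 4, 1, 5, 2, 5, 1, 4, 1, 4, 1, 2, 3, 1, 2] (sel (ones 1755) ip1 17) = true := by decide +kernel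

theorem rot1_17r : band (Rule.ok (2 * 1) EX RL ⟨1 :: [2, 1, 3, 4, 1, 4, 4, 1, 5, 2, 5, 1, 4, 1, 4, 1, 2, 3, 1, 2], [0, 3], 16, true⟩) (lall (memL L) [2, 1, 3, 4, 1, 4, 4, 1, 5, 2, 5, 1, 4, 1, 4, 1, 2, 3, 1, 2]) = true := by decide +kernel

theorem rot1_18 : T.rot 1 [3, 4, 1, 4, 4, 1, 5, 2, 5, 1, 4, 1, 4, 1, 2, 3, 1, 2, 1, 2] (sel (ones 1755) ip1 18) = true := by decide +kernel

theorem rot1_18r : band (Rule.ok (2 * 1) EX RL ⟨1 :: [3, 4, 1, 4, 4, 1, 5, 2, 5, 1, 4, 1, 4, 1, 2, 3, 1, 2, 1, 2], [0, 3, 0, 3], 16, true⟩) (lall (memL L) [3, 4, 1, 4, 4, 1, 5, 2, 5, 1, 4, 1, 4, 1, 2, 3, 1, 2, 1, 2]) = true := by decide +kernel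

theorem rot1_19 : T.rot 1 [4, 4, 1, 5, 2, 5, 1, 4, 1, 4, 1, 2, 3, 1, 2, 1, 2, 1, 3, 4] (sel (ones 1755) ip1 19) = true := by decide +kernel

theorem rot1_19r : band (Rule.ok (2 * 1) EX RL ⟨1 :: [4, 4, 1, 5, 2, 5, 1, 4, 1, 4, 1, 2, 3, 1, 2, 1, 2, 1, 3, 4], [0, 3, 0, 3, 0, 5, 2], 16, true⟩) (lall (memL L) [4, 4, 1, 5, 2, 5, 1, 4, 1, 4, 1, 2, 3, 1, 2, 1, 2, 1, 3, 4]) = true := by decide +kernel

theorem rot1_20 : T.rot 1 [5, 2, 5, 1, 4, 1, 4, 1, 2, 3, 1, 2, 1, 2, 1, 3, 4, 1, 4, 4] (sel (ones 1755) ip1 20) = true := by decide +kernel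

theorem rot1_20r : band (Rule.ok (2 * 1) EX RL ⟨1 :: [5, 2, 5, 1, 4, 1, 4, 1, 2, 3, 1, 2, 1, 2, 1, 3, 4, 1, 4, 4], [0, 3, 0, 3, 0, 5, 2, 0, 2, 2], 16, true⟩) (lall (memL L) [5, 2, 5, 1, 4, 1, 4, 1, 2, 3, 1, 2, 1, 2, 1, 3, 4, 1, 4, 4]) = true := by decide +kernel

theorem rot1_21 : T.rot 1 [4, 1, 4, 1, 2, 3, 1, 2, 1, 2, 1, 3, 4, 1, 4, 4, 1, 5, 2, 5] (sel (ones 1755) ip1 21) = true := by decide +kernel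

theorem rot1_21r : band (Rule.ok (2 * 1) EX RL ⟨1 :: [4, 1, 4, 1, 2, 3, 1, 2, 1, 2, 1, 3, 4, 1, 4, 4, 1, 5, 2, 5], [4, 2, 0, 3, 0, 3, 0], 16, true⟩) (lall (memL L) [4, 1, 4, 1, 2, 3, 1, 2, 1, 2, 1, 3, 4, 1, 4, 4, 1, 5, 2, 5]) = true := by decide +kernel

theorem rot1_22 : T.rot 1 [4, 1, 2, 3, 1, 2, 1, 2, 1, 3, 4, 1, 4, 4, 1, 5, 2, 5, 1, 4] (sel (ones 1755) ip1 22) = true := by decide +kernel

theorem rot1_22r : band (Rule.ok (2 * 1) EX RL ⟨1 :: [4, 1, 2, 3, 1, 2, 1, 2, 1, 3, 4, 1, 4, 4, 1, 5, 2, 5, 1, 4], [4, 2, 0, 3, 0], 16, true⟩) (lall (memL L) [4, 1, 2, 3, 1, 2, 1, 2, 1, 3, 4, 1, 4, 4, 1, 5, 2, 5, 1, 4]) = true := by decide +kernel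

theorem rot1_23 : T.rot 1 [2, 3, 1, 2, 1, 2, 1, 3, 4, 1, 4, 4, 1, 5, 2, 5, 1, 4, 1, 4] (sel (ones 1755) ip1 23) = true := by decide +kernel

theorem rot1_23r : band (Rule.ok (2 * 1) EX RL ⟨1 :: [2, 3, 1, 2, 1, 2, 1, 3, 4, 1, 4, 4, 1, 5, 2, 5, 1, 4, 1, 4], [4, 2, 0], 16, true⟩) (lall (memL L) [2, 3, 1, 2, 1, 2, 1, 3, 4, 1, 4, 4, 1, 5, 2, 5, 1, 4, 1, 4]) = true := by decide +kernel

theorem rot1_24 : T.rot 1 [2, 1, 2, 1, 3, 4, 3, 1, 2, 2, 1, 2, 5, 1, 4, 1, 4, 1, 5, 4] (sel (ones 1755) ip1 24) = true := by decide +kernel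

theorem rot1_24r : band (Rule.ok (2 * 1) EX RL ⟨1 :: [2, 1, 2, 1, 3, 4, 3, 1, 2, 2, 1, 2, 5, 1, 4, 1, 4, 1, 5, 4], [4, 2], 16, false⟩) (lall (memL L) [2, 1, 2, 1, 3, 4, 3, 1, 2, 2, 1, 2, 5, 1, 4, 1, 4, 1, 5, 4]) = true := by decide +kernel

theorem rot1_25 : T.rot 1 [2, 1, 3, 4, 3, 1, 2, 2, 1, 2, 5, 1, 4, 1, 4, 1, 5, 4, 1, 2] (sel (ones 1755) ip1 25) = true := by decide +kernel

theorem rot1_25r : band (Rule.ok (2 * 1) EX RL ⟨1 :: [2, 1, 3, 4, 3, 1, 2, 2, 1, 2, 5, 1, 4, 1, 4, 1, 5, 4, 1, 2], [4, 2, 0, 3], 16, false⟩) (lall (memL L) [2, 1, 3, 4, 3, 1, 2, 2, 1, 2, 5, 1, 4, 1, 4, 1, 5, 4, 1, 2]) = true := by decide +kernel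

theorem rot1_26 : T.rot 1 [3, 4, 3, 1, 2, 2, 1, 2, 5, 1, 4, 1, 4, 1, 5, 4, 1, 2, 1, 2] (sel (ones 1755) ip1 26) = true := by decide +kernel

theorem rot1_26r : band (Rule.ok (2 * 1) EX RL ⟨1 :: [3, 4, 3, 1, 2, 2, 1, 2, 5, 1, 4, 1, 4, 1, 5, 4, 1, 2, 1, 2], [4, 2, 0, 3, 0, 3], 16, false⟩) (lall (memL L) [3, 4, 3, 1, 2, 2, 1, 2, 5, 1, 4, 1, 4, 1, 5, 4, 1, 2, 1, 2]) = true := by decide +kernel

theorem rot1_27 : T.rot 1 [2, 2, 1, 2, 5, 1, 4, 1, 4, 1, 5, 4, 1, 2, 1, 2, 1, 3, 4, 3] (sel (ones 1755) ip1 27) = true := by decide +kernel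

theorem rot1_27r : band (Rule.ok (2 * 1) EX RL ⟨1 :: [2, 2, 1, 2, 5, 1, 4, 1, 4, 1, 5, 4, 1, 2, 1, 2, 1, 3, 4, 3], [4, 2, 0, 3, 0, 3, 0, 5, 2, 5], 16, false⟩) (lall (memL L) [2, 2, 1, 2, 5, 1, 4, 1, 4, 1, 5, 4, 1, 2, 1, 2, 1, 3, 4, 3]) = true := by decide +kernel

theorem rot1_28 : T.rot 1 [2, 5, 1, 4, 1, 4, 1, 5, 4, 1, 2, 1, 2, 1, 3, 4, 3, 1, 2, 2] (sel (ones 1755) ip1 28) = true := by decide +kernel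

theorem rot1_28r : band (Rule.ok (2 * 1) EX RL ⟨1 :: [2, 5, 1, 4, 1, 4, 1, 5, 4, 1, 2, 1, 2, 1, 3, 4, 3, 1, 2, 2], [0, 3, 0, 3, 0, 5, 2, 0], 16, false⟩) (lall (memL L) [2, 5, 1, 4, 1, 4, 1, 5, 4, 1, 2, 1, 2, 1, 3, 4, 3, 1, 2, 2]) = true := by decide +kernel

theorem rot1_29 : T.rot 1 [4, 1, 4, 1, 5, 4, 1, 2, 1, 2, 1, 3, 4, 3, 1, 2, 2, 1, 2, 5] (sel (ones 1755) ip1 29) = true := by decide +kernel

theorem rot1_29r : band (Rule.ok (2 * 1) EX RL ⟨1 :: [4, 1, 4, 1, 5, 4, 1, 2, 1, 2, 1, 3, 4, 3, 1, 2, 2, 1, 2, 5], [0, 3, 0, 3, 0], 16, false⟩) (lall (memL L) [4, 1, 4, 1, 5, 4, 1, 2, 1, 2, 1, 3, 4, 3, 1, 2, 2, 1, 2, 5]) = true := by decide +kernel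

theorem rot1_30 : T.rot 1 [4, 1, 5, 4, 1, 2, 1, 2, 1, 3, 4, 3, 1, 2, 2, 1, 2, 5, 1, 4] (sel (ones 1755) ip1 30) = true := by decide +kernel

theorem rot1_30r : band (Rule.ok (2 * 1) EX RL ⟨1 :: [4, 1, 5, 4, 1, 2, 1, 2, 1, 3, 4, 3, 1, 2, 2, 1, 2, 5, 1, 4], [0, 3, 0], 16, false⟩) (lall (memL L) [4, 1, 5, 4, 1, 2, 1, 2, 1, 3, 4, 3, 1, 2, 2, 1, 2, 5, 1, 4]) = true := by decide +kernel

theorem rot1_31 : T.rot 1 [5, 4, 1, 2, 1, 2, 1, 3, 4, 3, 1, 2, 2, 1, 2, 5, 1, 4, 1, 4] (sel (ones 1755) ip1 31) = true := by decide +kernel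

theorem rot1_31r : band (Rule.ok (2 * 1) EX RL ⟨1 :: [5, 4, 1, 2, 1, 2, 1, 3, 4, 3, 1, 2, 2, 1, 2, 5, 1, 4, 1, 4], [0], 16, false⟩) (lall (memL L) [5, 4, 1, 2, 1, 2, 1, 3, 4, 3, 1, 2, 2, 1, 2, 5, 1, 4, 1, 4]) = true := by decide +kernel

theorem cov1 : T.cover 1 [(sel (ones 1755) ip1 1), (sel (ones 1755) ip1 2), (sel (ones 1755) ip1 3), (sel (ones 1755) ip1 4), (sel (ones 1755) ip1 5), (sel (ones 1755) ip1 6), (sel (ones 1755) ip1 7), (sel (ones 1755) ip1 8), (sel (ones 1755) ip1 9), (sel (ones 1755) ip1 10), (sel (ones 1755) ip1 11), (sel (ones 1755) ip1 12), (sel (ones 1755) ip1 13), (sel (ones 1755) ip1 14), (sel (ones 1755) ip1 15), (sel (ones 1755) ip1 16), (sel (ones 1755) ip1 17), (sel (ones 1755) ip1 18), (sel (ones 1755) ip1 19), (sel (ones 1755) ip1 20), (sel (ones 1755) ip1 21), (sel (ones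 1755) ip1 22), (sel (ones 1755) ip1 23), (sel (ones 1755) ip1 24), (sel (ones 1755) ip1 25), (sel (ones 1755) ip1 26), (sel (ones 1755) ip1 27), (sel (ones 1755) ip1 28), (sel (ones 1755) ip1 29), (sel (ones 1755) ip1 30), (sel (ones 1755) ip1 31)] = true := by decide +kernel

theorem tl1 : T.treeLt 11 1 = true := by decide +kernel

theorem rot2_1 : T.rot 2 [4] (sel (ones 1755) ip2 1) = true := by decide +kernel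

theorem rot2_1r : band (Rule.ok (2 * 1) EX RL ⟨2 :: [4], [], 18, false⟩) (lall (memL L) [4]) = true := by decide +kernel

theorem rot2_2 : T.rot 2 [5, 4, 4, 1, 7, 1] (sel (ones 1755) ip2 2) = true := by decide +kernel

theorem rot2_2r : band (Rule.ok (2 * 1) EX RL ⟨2 :: [5, 4, 4, 1, 7, 1], [], 18, false⟩) (lall (memL L) [5, 4, 4, 1, 7, 1]) = true := by decide +kernel

theorem rot2_3 : T.rot 2 [2, 3, 4, 1, 6, 1] (sel (ones 1755) ip2 3) = true := by decide +kernel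

theorem rot2_3r : band (Rule.ok (2 * 1) EX RL ⟨2 :: [2, 3, 4, 1, 6, 1], [], 18, false⟩) (lall (memL L) [2, 3, 4, 1, 6, 1]) = true := by decide +kernel

theorem rot2_4 : T.rot 2 [3, 4, 1, 6, 1, 2] (sel (ones 1755) ip2 4) = true := by decide +kernel

theorem rot2_4r : band (Rule.ok (2 * 1) EX RL ⟨2 :: [3, 4, 1, 6, 1, 2], [], 18, false⟩) (lall (memL L) [3, 4, 1, 6, 1, 2]) = true := by decide +kernel

theorem rot2_5 : T.rot 2 [3, 3, 2, 6, 3, 2, 2, 3, 4, 7] (sel (ones 1755) ip2 5) = true := by decide +kernel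

theorem rot2_5r : band (Rule.ok (2 * 1) EX RL ⟨2 :: [3, 3, 2, 6, 3, 2, 2, 3, 4, 7], [], 13, true⟩) (lall (memL L) [3, 3, 2, 6, 3, 2, 2, 3, 4, 7]) = true := by decide +kernel

theorem rot2_6 : T.rot 2 [6, 3, 2, 2, 3, 4, 7, 2, 3, 3] (sel (ones 1755) ip2 6) = true := by decide +kernel

theorem rot2_6r : band (Rule.ok (2 * 1) EX RL ⟨2 :: [6, 3, 2, 2, 3, 4, 7, 2, 3, 3], [3, 5, 5], 13, true⟩) (lall (memL L) [6, 3, 2, 2, 3, 4, 7, 2, 3, 3]) = true := by decide +kernel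

theorem rot2_7 : T.rot 2 [2, 3, 4, 7, 2, 3, 3, 2, 6, 3] (sel (ones 1755) ip2 7) = true := by decide +kernel

theorem rot2_7r : band (Rule.ok (2 * 1) EX RL ⟨2 :: [2, 3, 4, 7, 2, 3, 3, 2, 6, 3], [0, 3, 4, 2, 2, 0, 3, 4, 2, 2], 13, true⟩) (lall (memL L) [2, 3, 4, 7, 2, 3, 3, 2, 6, 3]) = true := by decide +kernel

theorem rot2_8 : T.rot 2 [3, 4, 7, 2, 3, 3, 2, 6, 3, 2] (sel (ones 1755) ip2 8) = true := by decide +kernel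

theorem rot2_8r : band (Rule.ok (2 * 1) EX RL ⟨2 :: [3, 4, 7, 2, 3, 3, 2, 6, 3, 2], [0, 3, 4, 2, 2, 0, 3, 4, 2], 13, true⟩) (lall (memL L) [3, 4, 7, 2, 3, 3, 2, 6, 3, 2]) = true := by decide +kernel

theorem rot2_9 : T.rot 2 [5, 4, 4, 5, 7, 4, 5, 5, 4, 6] (sel (ones 1755) ip2 9) = true := by decide +kernel

theorem rot2_9r : band (Rule.ok (2 * 1) EX RL ⟨2 :: [5, 4, 4, 5, 7, 4, 5, 5, 4, 6], [0, 3, 4, 2, 2, 0], 13, false⟩) (lall (memL L) [5, 4, 4, 5, 7, 4, 5, 5, 4, 6]) = true := by decide +kernel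

theorem rot2_10 : T.rot 2 [3, 4, 4, 1, 5, 1, 5, 4, 3, 2] (sel (ones 1755) ip2 10) = true := by decide +kernel

theorem rot2_10r : band (Rule.ok (2 * 1) EX RL ⟨2 :: [3, 4, 4, 1, 5, 1, 5, 4, 3, 2], [], 15, true⟩) (lall (memL L) [3, 4, 4, 1, 5, 1, 5, 4, 3, 2]) = true := by decide +kernel

theorem rot2_11 : T.rot 2 [2, 3, 4, 4, 1, 5, 1, 5, 4, 3] (sel (ones 1755) ip2 11) = true := by decide +kernel

theorem rot2_11r : band (Rule.ok (2 * 1) EX RL ⟨2 :: [2, 3, 4, 4, 1, 5, 1, 5, 4, 3], [2], 15, true⟩) (lall (memL L) [2, 3, 4, 4, 1, 5, 1, 5, 4, 3]) = true := by decide +kernel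

theorem rot2_12 : T.rot 2 [3, 1, 3, 1, 2, 2, 5, 4, 4, 5] (sel (ones 1755) ip2 12) = true := by decide +kernel

theorem rot2_12r : band (Rule.ok (2 * 1) EX RL ⟨2 :: [3, 1, 3, 1, 2, 2, 5, 4, 4, 5], [2, 4], 15, false⟩) (lall (memL L) [3, 1, 3, 1, 2, 2, 5, 4, 4, 5]) = true := by decide +kernel

theorem rot2_13 : T.rot 2 [2, 5, 4, 4, 5, 2, 3, 1, 3, 1] (sel (ones 1755) ip2 13) = true := by decide +kernel

theorem rot2_13r : band (Rule.ok (2 * 1) EX RL ⟨2 :: [2, 5, 4, 4, 5, 2, 3, 1, 3, 1], [3, 5, 2, 2], 15, false⟩) (lall (memL L) [2, 5, 4, 4, 5, 2, 3, 1, 3, 1]) = true := by decide +kernel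

theorem rot2_14 : T.rot 2 [5, 4, 4, 5, 2, 3, 1, 3, 1, 2] (sel (ones 1755) ip2 14) = true := by decide +kernel

theorem rot2_14r : band (Rule.ok (2 * 1) EX RL ⟨2 :: [5, 4, 4, 5, 2, 3, 1, 3, 1, 2], [3, 5, 2], 15, false⟩) (lall (memL L) [5, 4, 4, 5, 2, 3, 1, 3, 1, 2]) = true := by decide +kernel

theorem rot2_15 : T.rot 2 [3, 6, 5, 4, 7, 2, 2, 3, 4, 5, 7, 7] (sel (ones 1755) ip2 15) = true := by decide +kernel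

theorem rot2_15r : band (Rule.ok (2 * 1) EX RL ⟨2 :: [3, 6, 5, 4, 7, 2, 2, 3, 4, 5, 7, 7], [], 14, true⟩) (lall (memL L) [3, 6, 5, 4, 7, 2, 2, 3, 4, 5, 7, 7]) = true := by decide +kernel

theorem rot2_16 : T.rot 2 [2, 3, 4, 5, 7, 7, 2, 3, 6, 5, 4, 7] (sel (ones 1755) ip2 16) = true := by decide +kernel

theorem rot2_16r : band (Rule.ok (2 * 1) EX RL ⟨2 :: [2, 3, 4, 5, 7, 7, 2, 3, 6, 5, 4, 7], [0, 3, 4, 2, 4, 2, 2, 0, 5, 3, 4, 2, 2], 14, true⟩) (lall (memL L) [2, 3, 4, 5, 7, 7, 2, 3, 6, 5, 4, 7]) = true := by decide +kernel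

theorem rot2_17 : T.rot 2 [3, 4, 5, 7, 7, 2, 3, 6, 5, 4, 7, 2] (sel (ones 1755) ip2 17) = true := by decide +kernel

theorem rot2_17r : band (Rule.ok (2 * 1) EX RL ⟨2 :: [3, 4, 5, 7, 7, 2, 3, 6, 5, 4, 7, 2], [0, 3, 4, 2, 4, 2, 2, 0, 5, 3, 4, 2], 14, true⟩) (lall (memL L) [3, 4, 5, 7, 7, 2, 3, 6, 5, 4, 7, 2]) = true := by decide +kernel

theorem rot2_18 : T.rot 2 [5, 4, 4, 6, 2, 3, 7, 5, 4, 6, 6, 3] (sel (ones 1755) ip2 18) = true := by decide +kernel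

theorem rot2_18r : band (Rule.ok (2 * 1) EX RL ⟨2 :: [5, 4, 4, 6, 2, 3, 7, 5, 4, 6, 6, 3], [0, 3, 4, 2, 4, 2, 2, 0, 5], 14, false⟩) (lall (memL L) [5, 4, 4, 6, 2, 3, 7, 5, 4, 6, 6, 3]) = true := by decide +kernel

theorem rot2_19 : T.rot 2 [3, 7, 5, 4, 6, 6, 3, 2, 5, 4, 4, 6] (sel (ones 1755) ip2 19) = true := by decide +kernel

theorem rot2_19r : band (Rule.ok (2 * 1) EX RL ⟨2 :: [3, 7, 5, 4, 6, 6, 3, 2, 5, 4, 4, 6], [3, 5, 0, 3, 4, 2, 2, 0, 4, 2], 14, false⟩) (lall (memL L) [3, 7, 5, 4, 6, 6, 3, 2, 5, 4, 4, 6]) = true := by decide +kernel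

theorem rot2_20 : T.rot 2 [5, 4, 4, 5, 5, 7, 2, 2, 3, 4, 3, 6, 3] (sel (ones 1755) ip2 20) = true := by decide +kernel

theorem rot2_20r : band (Rule.ok (2 * 1) EX RL ⟨2 :: [5, 4, 4, 5, 5, 7, 2, 2, 3, 4, 3, 6, 3], [5], 9, true⟩) (lall (memL L) [5, 4, 4, 5, 5, 7, 2, 2, 3, 4, 3, 6, 3]) = true := by decide +kernel

theorem rot2_21 : T.rot 2 [2, 3, 4, 3, 6, 3, 2, 5, 4, 4, 5, 5, 7] (sel (ones 1755) ip2 21) = true := by decide +kernel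

theorem rot2_21r : band (Rule.ok (2 * 1) EX RL ⟨2 :: [2, 3, 4, 3, 6, 3, 2, 5, 4, 4, 5, 5, 7], [0, 3, 3, 5, 2, 0, 4, 3, 4, 2, 2], 9, true⟩) (lall (memL L) [2, 3, 4, 3, 6, 3, 2, 5, 4, 4, 5, 5, 7]) = true := by decide +kernel

theorem rot2_22 : T.rot 2 [3, 4, 3, 6, 3, 2, 5, 4, 4, 5, 5, 7, 2] (sel (ones 1755) ip2 22) = true := by decide +kernel

theorem rot2_22r : band (Rule.ok (2 * 1) EX RL ⟨2 :: [3, 4, 3, 6, 3, 2, 5, 4, 4, 5, 5, 7, 2], [0, 3, 3, 5, 2, 0, 4, 3, 4, 2], 9, true⟩) (lall (memL L) [3, 4, 3, 6, 3, 2, 5, 4, 4, 5, 5, 7, 2]) = true := by decide +kernel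

theorem rot2_23 : T.rot 2 [5, 4, 4, 6, 3, 3, 2, 2, 3, 4, 5, 7, 5] (sel (ones 1755) ip2 23) = true := by decide +kernel

theorem rot2_23r : band (Rule.ok (2 * 1) EX RL ⟨2 :: [5, 4, 4, 6, 3, 3, 2, 2, 3, 4, 5, 7, 5], [0, 3, 3, 5, 2, 0, 4], 9, false⟩) (lall (memL L) [5, 4, 4, 6, 3, 3, 2, 2, 3, 4, 5, 7, 5]) = true := by decide +kernel

theorem rot2_24 : T.rot 2 [2, 3, 4, 5, 7, 5, 2, 5, 4, 4, 6, 3, 3] (sel (ones 1755) ip2 24) = true := by decide +kernel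

theorem rot2_24r : band (Rule.ok (2 * 1) EX RL ⟨2 :: [2, 3, 4, 5, 7, 5, 2, 5, 4, 4, 6, 3, 3], [5, 3, 4, 2, 2], 9, false⟩) (lall (memL L) [2, 3, 4, 5, 7, 5, 2, 5, 4, 4, 6, 3, 3]) = true := by decide +kernel

theorem rot2_25 : T.rot 2 [3, 4, 5, 7, 5, 2, 5, 4, 4, 6, 3, 3, 2] (sel (ones 1755) ip2 25) = true := by decide +kernel

theorem rot2_25r : band (Rule.ok (2 * 1) EX RL ⟨2 :: [3, 4, 5, 7, 5, 2, 5, 4, 4, 6, 3, 3, 2], [5, 3, 4, 2], 9, false⟩) (lall (memL L) [3, 4, 5, 7, 5, 2, 5, 4, 4, 6, 3, 3, 2]) = true := by decide +kernel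

theorem rot2_26 : T.rot 2 [2, 3, 4, 2, 6, 4, 2, 5, 4, 4, 5, 7, 3] (sel (ones 1755) ip2 26) = true := by decide +kernel

theorem rot2_26r : band (Rule.ok (2 * 1) EX RL ⟨2 :: [2, 3, 4, 2, 6, 4, 2, 5, 4, 4, 5, 7, 3], [3, 4, 2, 2], 12, true⟩) (lall (memL L) [2, 3, 4, 2, 6, 4, 2, 5, 4, 4, 5, 7, 3]) = true := by decide +kernel

theorem rot2_27 : T.rot 2 [3, 4, 2, 6, 4, 2, 5, 4, 4, 5, 7, 3, 2] (sel (ones 1755) ip2 27) = true := by decide +kernel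

theorem rot2_27r : band (Rule.ok (2 * 1) EX RL ⟨2 :: [3, 4, 2, 6, 4, 2, 5, 4, 4, 5, 7, 3, 2], [3, 4, 2], 12, true⟩) (lall (memL L) [3, 4, 2, 6, 4, 2, 5, 4, 4, 5, 7, 3, 2]) = true := by decide +kernel

theorem rot2_28 : T.rot 2 [2, 3, 4, 2, 7, 4, 2, 5, 4, 4, 5, 6, 3] (sel (ones 1755) ip2 28) = true := by decide +kernel

theorem rot2_28r : band (Rule.ok (2 * 1) EX RL ⟨2 :: [2, 3, 4, 2, 7, 4, 2, 5, 4, 4, 5, 6, 3], [3, 0, 3, 4, 2, 2, 0, 4, 2, 2], 12, false⟩) (lall (memL L) [2, 3, 4, 2, 7, 4, 2, 5, 4, 4, 5, 6, 3]) = true := by decide +kernel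

theorem rot2_29 : T.rot 2 [3, 4, 2, 7, 4, 2, 5, 4, 4, 5, 6, 3, 2] (sel (ones 1755) ip2 29) = true := by decide +kernel

theorem rot2_29r : band (Rule.ok (2 * 1) EX RL ⟨2 :: [3, 4, 2, 7, 4, 2, 5, 4, 4, 5, 6, 3, 2], [3, 0, 3, 4, 2, 2, 0, 4, 2], 12, false⟩) (lall (memL L) [3, 4, 2, 7, 4, 2, 5, 4, 4, 5, 6, 3, 2]) = true := by decide +kernel

theorem rot2_30 : T.rot 2 [5, 4, 4, 5, 7, 2, 2, 3, 4, 7, 5, 6, 3, 3, 6] (sel (ones 1755) ip2 30) = true := by decide +kernel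

theorem rot2_30r : band (Rule.ok (2 * 1) EX RL ⟨2 :: [5, 4, 4, 5, 7, 2, 2, 3, 4, 7, 5, 6, 3, 3, 6], [], 1, true⟩) (lall (memL L) [5, 4, 4, 5, 7, 2, 2, 3, 4, 7, 5, 6, 3, 3, 6]) = true := by decide +kernel

theorem rot2_31 : T.rot 2 [2, 3, 4, 7, 5, 6, 3, 3, 6, 2, 5, 4, 4, 5, 7] (sel (ones 1755) ip2 31) = true := by decide +kernel

theorem rot2_31r : band (Rule.ok (2 * 1) EX RL ⟨2 :: [2, 3, 4, 7, 5, 6, 3, 3, 6, 2, 5, 4, 4, 5, 7], [3, 4, 2, 2, 4, 0, 3, 3, 5, 2, 0], 1, true⟩) (lall (memL L) [2, 3, 4, 7, 5, 6, 3, 3, 6, 2, 5, 4, 4, 5, 7]) = true := by decide +kernel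

theorem rot2_32 : T.rot 2 [3, 4, 7, 5, 6, 3, 3, 6, 2, 5, 4, 4, 5, 7, 2] (sel (ones 1755) ip2 32) = true := by decide +kernel

theorem rot2_32r : band (Rule.ok (2 * 1) EX RL ⟨2 :: [3, 4, 7, 5, 6, 3, 3, 6, 2, 5, 4, 4, 5, 7, 2], [3, 4, 2, 2, 4, 0, 3, 3, 5, 2, 0, 3], 1, true⟩) (lall (memL L) [3, 4, 7, 5, 6, 3, 3, 6, 2, 5, 4, 4, 5, 7, 2]) = true := by decide +kernel

theorem rot2_33 : T.rot 2 [5, 4, 4, 6, 3, 2, 2, 3, 4, 7, 5, 5, 7, 3, 6] (sel (ones 1755) ip2 33) = true := by decide +kernel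

theorem rot2_33r : band (Rule.ok (2 * 1) EX RL ⟨2 :: [5, 4, 4, 6, 3, 2, 2, 3, 4, 7, 5, 5, 7, 3, 6], [3, 4, 2, 2, 4, 0, 3, 3, 5, 2, 0, 3, 3, 5, 2], 1, false⟩) (lall (memL L) [5, 4, 4, 6, 3, 2, 2, 3, 4, 7, 5, 5, 7, 3, 6]) = true := by decide +kernel

theorem rot2_34 : T.rot 2 [2, 3, 4, 7, 5, 5, 7, 3, 6, 2, 5, 4, 4, 6, 3] (sel (ones 1755) ip2 34) = true := by decide +kernel

theorem rot2_34r : band (Rule.ok (2 * 1) EX RL ⟨2 :: [2, 3, 4, 7, 5, 5, 7, 3, 6, 2, 5, 4, 4, 6, 3], [3, 4, 2, 2], 1, false⟩) (lall (memL L) [2, 3, 4, 7, 5, 5, 7, 3, 6, 2, 5, 4, 4, 6, 3]) = true := by decide +kernel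

theorem rot2_35 : T.rot 2 [3, 4, 7, 5, 5, 7, 3, 6, 2, 5, 4, 4, 6, 3, 2] (sel (ones 1755) ip2 35) = true := by decide +kernel

theorem rot2_35r : band (Rule.ok (2 * 1) EX RL ⟨2 :: [3, 4, 7, 5, 5, 7, 3, 6, 2, 5, 4, 4, 6, 3, 2], [3, 4, 2], 1, false⟩) (lall (memL L) [3, 4, 7, 5, 5, 7, 3, 6, 2, 5, 4, 4, 6, 3, 2]) = true := by decide +kernel

theorem rot2_36 : T.rot 2 [5, 4, 4, 5, 7, 5, 7, 2, 2, 3, 4, 5, 7, 5, 7] (sel (ones 1755) ip2 36) = true := by decide +kernel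

theorem rot2_36r : band (Rule.ok (2 * 1) EX RL ⟨2 :: [5, 4, 4, 5, 7, 5, 7, 2, 2, 3, 4, 5, 7, 5, 7], [4, 0, 3, 3, 5, 2, 0], 3, true⟩) (lall (memL L) [5, 4, 4, 5, 7, 5, 7, 2, 2, 3, 4, 5, 7, 5, 7]) = true := by decide +kernel

theorem rot2_37 : T.rot 2 [3, 4, 5, 7, 5, 7, 2, 5, 4, 4, 5, 7, 5, 7, 2] (sel (ones 1755) ip2 37) = true := by decide +kernel

theorem rot2_37r : band (Rule.ok (2 * 1) EX RL ⟨2 :: [3, 4, 5, 7, 5, 7, 2, 5, 4, 4, 5, 7, 5, 7, 2], [0, 3, 4, 2, 2, 0, 5, 3, 4, 2], 3, true⟩) (lall (memL L) [3, 4, 5, 7, 5, 7, 2, 5, 4, 4, 5, 7, 5, 7, 2]) = true := by decide +kernel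

theorem rot2_38 : T.rot 2 [5, 4, 4, 6, 3, 6, 3, 2, 2, 3, 4, 6, 3, 6, 3] (sel (ones 1755) ip2 38) = true := by decide +kernel

theorem rot2_38r : band (Rule.ok (2 * 1) EX RL ⟨2 :: [5, 4, 4, 6, 3, 6, 3, 2, 2, 3, 4, 6, 3, 6, 3], [0, 3, 4, 2, 2, 0, 5], 3, false⟩) (lall (memL L) [5, 4, 4, 6, 3, 6, 3, 2, 2, 3, 4, 6, 3, 6, 3]) = true := by decide +kernel

theorem rot2_39 : T.rot 2 [2, 3, 4, 6, 3, 6, 3, 2, 5, 4, 4, 6, 3, 6, 3] (sel (ones 1755) ip2 39) = true := by decide +kernel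

theorem rot2_39r : band (Rule.ok (2 * 1) EX RL ⟨2 :: [2, 3, 4, 6, 3, 6, 3, 2, 5, 4, 4, 6, 3, 6, 3], [4, 0, 3, 3, 5, 2, 0, 3, 4, 2, 2], 3, false⟩) (lall (memL L) [2, 3, 4, 6, 3, 6, 3, 2, 5, 4, 4, 6, 3, 6, 3]) = true := by decide +kernel

theorem rot2_40 : T.rot 2 [3, 4, 6, 3, 6, 3, 2, 5, 4, 4, 6, 3, 6, 3, 2] (sel (ones 1755) ip2 40) = true := by decide +kernel

theorem rot2_40r : band (Rule.ok (2 * 1) EX RL ⟨2 :: [3, 4, 6, 3, 6, 3, 2, 5, 4, 4, 6, 3, 6, 3, 2], [4, 0, 3, 3, 5, 2, 0, 3, 4, 2], 3, false⟩) (lall (memL L) [3, 4, 6, 3, 6, 3, 2, 5, 4, 4, 6, 3, 6, 3, 2]) = true := by decide +kernel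

theorem rot2_41 : T.rot 2 [5, 4, 4, 2, 5, 4, 4, 5, 7, 3, 6, 5, 7, 7, 5] (sel (ones 1755) ip2 41) = true := by decide +kernel

theorem rot2_41r : band (Rule.ok (2 * 1) EX RL ⟨2 :: [5, 4, 4, 2, 5, 4, 4, 5, 7, 3, 6, 5, 7, 7, 5], [], 4, true⟩) (lall (memL L) [5, 4, 4, 2, 5, 4, 4, 5, 7, 3, 6, 5, 7, 7, 5]) = true := by decide +kernel

theorem rot2_42 : T.rot 2 [2, 3, 4, 2, 2, 3, 4, 3, 6, 6, 3, 7, 5, 6, 3] (sel (ones 1755) ip2 42) = true := by decide +kernel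

theorem rot2_42r : band (Rule.ok (2 * 1) EX RL ⟨2 :: [2, 3, 4, 2, 2, 3, 4, 3, 6, 6, 3, 7, 5, 6, 3], [3, 4, 2, 4, 2, 2], 4, false⟩) (lall (memL L) [2, 3, 4, 2, 2, 3, 4, 3, 6, 6, 3, 7, 5, 6, 3]) = true := by decide +kernel

theorem rot2_43 : T.rot 2 [3, 4, 2, 2, 3, 4, 3, 6, 6, 3, 7, 5, 6, 3, 2] (sel (ones 1755) ip2 43) = true := by decide +kernel

theorem rot2_43r : band (Rule.ok (2 * 1) EX RL ⟨2 :: [3, 4, 2, 2, 3, 4, 3, 6, 6, 3, 7, 5, 6, 3, 2], [3, 4, 2, 4, 2], 4, false⟩) (lall (memL L) [3, 4, 2, 2, 3, 4, 3, 6, 6, 3, 7, 5, 6, 3, 2]) = true := by decide +kernel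

theorem rot2_44 : T.rot 2 [3, 4, 3, 6, 6, 3, 7, 5, 6, 3, 2, 2, 3, 4, 2] (sel (ones 1755) ip2 44) = true := by decide +kernel

theorem rot2_44r : band (Rule.ok (2 * 1) EX RL ⟨2 :: [3, 4, 3, 6, 6, 3, 7, 5, 6, 3, 2, 2, 3, 4, 2], [3, 4, 2], 4, false⟩) (lall (memL L) [3, 4, 3, 6, 6, 3, 7, 5, 6, 3, 2, 2, 3, 4, 2]) = true := by decide +kernel

theorem rot2_45 : T.rot 2 [3, 4, 2, 2, 3, 4, 2, 2, 3, 4, 2, 2, 3, 4, 2] (sel (ones 1755) ip2 45) = true := by decide +kernel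

theorem rot2_45r : band (Rule.ok (2 * 1) EX RL ⟨2 :: [3, 4, 2, 2, 3, 4, 2, 2, 3, 4, 2, 2, 3, 4, 2], [3], 5, false⟩) (lall (memL L) [3, 4, 2, 2, 3, 4, 2, 2, 3, 4, 2, 2, 3, 4, 2]) = true := by decide +kernel

theorem rot2_46 : T.rot 2 [5, 4, 4, 6, 5, 3, 6, 6, 3, 3, 6, 2, 2, 3, 4, 3, 3] (sel (ones 1755) ip2 46) = true := by decide +kernel

theorem rot2_46r : band (Rule.ok (2 * 1) EX RL ⟨2 :: [5, 4, 4, 6, 5, 3, 6, 6, 3, 3, 6, 2, 2, 3, 4, 3, 3], [5, 5], 10, true⟩) (lall (memL L) [5, 4, 4, 6, 5, 3, 6, 6, 3, 3, 6, 2, 2, 3, 4, 3, 3]) = true := by decide +kernel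

theorem rot2_47 : T.rot 2 [2, 3, 4, 3, 3, 2, 5, 4, 4, 6, 5, 3, 6, 6, 3, 3, 6] (sel (ones 1755) ip2 47) = true := by decide +kernel

theorem rot2_47r : band (Rule.ok (2 * 1) EX RL ⟨2 :: [2, 3, 4, 3, 3, 2, 5, 4, 4, 6, 5, 3, 6, 6, 3, 3, 6], [3, 4, 2, 2], 10, true⟩) (lall (memL L) [2, 3, 4, 3, 3, 2, 5, 4, 4, 6, 5, 3, 6, 6, 3, 3, 6]) = true := by decide +kernel

theorem rot2_48 : T.rot 2 [3, 4, 3, 3, 2, 5, 4, 4, 6, 5, 3, 6, 6, 3, 3, 6, 2] (sel (ones 1755) ip2 48) = true := by decide +kernel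

theorem rot2_48r : band (Rule.ok (2 * 1) EX RL ⟨2 :: [3, 4, 3, 3, 2, 5, 4, 4, 6, 5, 3, 6, 6, 3, 3, 6, 2], [3, 4, 2], 10, true⟩) (lall (memL L) [3, 4, 3, 3, 2, 5, 4, 4, 6, 5, 3, 6, 6, 3, 3, 6, 2]) = true := by decide +kernel

theorem rot2_49 : T.rot 2 [5, 4, 4, 7, 5, 5, 7, 7, 5, 3, 7, 2, 2, 3, 4, 5, 5] (sel (ones 1755) ip2 49) = true := by decide +kernel

theorem rot2_49r : band (Rule.ok (2 * 1) EX RL ⟨2 :: [5, 4, 4, 7, 5, 5, 7, 7, 5, 3, 7, 2, 2, 3, 4, 5, 5], [], 10, false⟩) (lall (memL L) [5, 4, 4, 7, 5, 5, 7, 7, 5, 3, 7, 2, 2, 3, 4, 5, 5]) = true := by decide +kernel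

theorem rot2_50 : T.rot 2 [2, 3, 4, 5, 5, 2, 5, 4, 4, 7, 5, 5, 7, 7, 5, 3, 7] (sel (ones 1755) ip2 50) = true := by decide +kernel

theorem rot2_50r : band (Rule.ok (2 * 1) EX RL ⟨2 :: [2, 3, 4, 5, 5, 2, 5, 4, 4, 7, 5, 5, 7, 7, 5, 3, 7], [5, 5, 3, 4, 2, 2], 10, false⟩) (lall (memL L) [2, 3, 4, 5, 5, 2, 5, 4, 4, 7, 5, 5, 7, 7, 5, 3, 7]) = true := by decide +kernel

theorem rot2_51 : T.rot 2 [3, 2, 2, 1, 4, 4, 5, 4, 1, 2, 3, 7, 4, 6, 2, 5, 4, 1] (sel (ones 1755) ip2 51) = true := by decide +kernel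

theorem rot2_51r : band (Rule.ok (2 * 1) EX RL ⟨2 :: [3, 2, 2, 1, 4, 4, 5, 4, 1, 2, 3, 7, 4, 6, 2, 5, 4, 1], [0], 17, true⟩) (lall (memL L) [3, 2, 2, 1, 4, 4, 5, 4, 1, 2, 3, 7, 4, 6, 2, 5, 4, 1]) = true := by decide +kernel

theorem rot2_52 : T.rot 2 [2, 1, 4, 4, 5, 4, 1, 2, 3, 7, 4, 6, 2, 5, 4, 1, 2, 3] (sel (ones 1755) ip2 52) = true := by decide +kernel

theorem rot2_52r : band (Rule.ok (2 * 1) EX RL ⟨2 :: [2, 1, 4, 4, 5, 4, 1, 2, 3, 7, 4, 6, 2, 5, 4, 1, 2, 3], [0, 3, 5], 17, true⟩) (lall (memL L) [2, 1, 4, 4, 5, 4, 1, 2, 3, 7, 4, 6, 2, 5, 4, 1, 2, 3]) = true := by decide +kernel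

theorem rot2_53 : T.rot 2 [1, 4, 4, 5, 4, 1, 2, 3, 7, 4, 6, 2, 5, 4, 1, 2, 3, 2] (sel (ones 1755) ip2 53) = true := by decide +kernel

theorem rot2_53r : band (Rule.ok (2 * 1) EX RL ⟨2 :: [1, 4, 4, 5, 4, 1, 2, 3, 7, 4, 6, 2, 5, 4, 1, 2, 3, 2], [0, 3, 5, 3], 17, true⟩) (lall (memL L) [1, 4, 4, 5, 4, 1, 2, 3, 7, 4, 6, 2, 5, 4, 1, 2, 3, 2]) = true := by decide +kernel

theorem rot2_54 : T.rot 2 [5, 4, 1, 2, 3, 2, 2, 1, 4, 4, 5, 4, 1, 2, 3, 7, 4, 6] (sel (ones 1755) ip2 54) = true := by decide +kernel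

theorem rot2_54r : band (Rule.ok (2 * 1) EX RL ⟨2 :: [5, 4, 1, 2, 3, 2, 2, 1, 4, 4, 5, 4, 1, 2, 3, 7, 4, 6], [3, 5, 2], 17, true⟩) (lall (memL L) [5, 4, 1, 2, 3, 2, 2, 1, 4, 4, 5, 4, 1, 2, 3, 7, 4, 6]) = true := by decide +kernel

theorem rot2_55 : T.rot 2 [3, 4, 7, 2, 6, 5, 4, 1, 2, 3, 2, 2, 1, 4, 4, 5, 4, 1] (sel (ones 1755) ip2 55) = true := by decide +kernel

theorem rot2_55r : band (Rule.ok (2 * 1) EX RL ⟨2 :: [3, 4, 7, 2, 6, 5, 4, 1, 2, 3, 2, 2, 1, 4, 4, 5, 4, 1], [], 17, false⟩) (lall (memL L) [3, 4, 7, 2, 6, 5, 4, 1, 2, 3, 2, 2, 1, 4, 4, 5, 4, 1]) = true := by decide +kernel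

theorem rot2_56 : T.rot 2 [6, 5, 4, 1, 2, 3, 2, 2, 1, 4, 4, 5, 4, 1, 2, 3, 4, 7] (sel (ones 1755) ip2 56) = true := by decide +kernel

theorem rot2_56r : band (Rule.ok (2 * 1) EX RL ⟨2 :: [6, 5, 4, 1, 2, 3, 2, 2, 1, 4, 4, 5, 4, 1, 2, 3, 4, 7], [3, 5, 2, 0, 3, 3, 5, 2, 0], 17, false⟩) (lall (memL L) [6, 5, 4, 1, 2, 3, 2, 2, 1, 4, 4, 5, 4, 1, 2, 3, 4, 7]) = true := by decide +kernel

theorem rot2_57 : T.rot 2 [3, 2, 2, 1, 4, 4, 5, 4, 1, 2, 3, 4, 7, 2, 6, 5, 4, 1] (sel (ones 1755) ip2 57) = true := by decide +kernel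

theorem rot2_57r : band (Rule.ok (2 * 1) EX RL ⟨2 :: [3, 2, 2, 1, 4, 4, 5, 4, 1, 2, 3, 4, 7, 2, 6, 5, 4, 1], [0, 3, 5, 3, 3, 0, 2, 2, 4, 2], 17, false⟩) (lall (memL L) [3, 2, 2, 1, 4, 4, 5, 4, 1, 2, 3, 4, 7, 2, 6, 5, 4, 1]) = true := by decide +kernel

theorem rot2_58 : T.rot 2 [1, 4, 4, 5, 4, 1, 2, 3, 4, 7, 2, 6, 5, 4, 1, 2, 3, 2] (sel (ones 1755) ip2 58) = true := by decide +kernel

theorem rot2_58r : band (Rule.ok (2 * 1) EX RL ⟨2 :: [1, 4, 4, 5, 4, 1, 2, 3, 4, 7, 2, 6, 5, 4, 1, 2, 3, 2], [0, 3, 5, 3, 3, 0, 2], 17, false⟩) (lall (memL L) [1, 4, 4, 5, 4, 1, 2, 3, 4, 7, 2, 6, 5, 4, 1, 2, 3, 2]) = true := by decide +kernel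

theorem rot2_59 : T.rot 2 [1, 2, 1, 3, 4, 1, 4, 4, 1, 5, 2, 5, 1, 4, 1, 4, 1, 2, 3, 1] (sel (ones 1755) ip2 59) = true := by decide +kernel

theorem rot2_59r : band (Rule.ok (2 * 1) EX RL ⟨2 :: [1, 2, 1, 3, 4, 1, 4, 4, 1, 5, 2, 5, 1, 4, 1, 4, 1, 2, 3, 1], [0], 16, true⟩) (lall (memL L) [1, 2, 1, 3, 4, 1, 4, 4, 1, 5, 2, 5, 1, 4, 1, 4, 1, 2, 3, 1]) = true := by decide +kernel

theorem rot2_60 : T.rot 2 [1, 3, 4, 1, 4, 4, 1, 5, 2, 5, 1, 4, 1, 4, 1, 2, 3, 1, 2, 1] (sel (ones 1755) ip2 60) = true := by decide +kernel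

theorem rot2_60r : band (Rule.ok (2 * 1) EX RL ⟨2 :: [1, 3, 4, 1, 4, 4, 1, 5, 2, 5, 1, 4, 1, 4, 1, 2, 3, 1, 2, 1], [0, 3, 0], 16, true⟩) (lall (memL L) [1, 3, 4, 1, 4, 4, 1, 5, 2, 5, 1, 4, 1, 4, 1, 2, 3, 1, 2, 1]) = true := by decide +kernel

theorem rot2_61 : T.rot 2 [5, 1, 4, 1, 4, 1, 2, 3, 1, 2, 1, 2, 1, 3, 4, 1, 4, 4, 1, 5] (sel (ones 1755) ip2 61) = true := by decide +kernel

theorem rot2_61r : band (Rule.ok (2 * 1) EX RL ⟨2 :: [5, 1, 4, 1, 4, 1, 2, 3, 1, 2, 1, 2, 1, 3, 4, 1, 4, 4, 1, 5], [4, 2, 0, 3, 0, 3, 0, 5, 2], 16, true⟩) (lall (memL L) [5, 1, 4, 1, 4, 1, 2, 3, 1, 2, 1, 2, 1, 3, 4, 1, 4, 4, 1, 5]) = true := by decide +kernel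

theorem rot2_62 : T.rot 2 [3, 1, 2, 1, 2, 1, 3, 4, 1, 4, 4, 1, 5, 2, 5, 1, 4, 1, 4, 1] (sel (ones 1755) ip2 62) = true := by decide +kernel

theorem rot2_62r : band (Rule.ok (2 * 1) EX RL ⟨2 :: [3, 1, 2, 1, 2, 1, 3, 4, 1, 4, 4, 1, 5, 2, 5, 1, 4, 1, 4, 1], [4, 2], 16, true⟩) (lall (memL L) [3, 1, 2, 1, 2, 1, 3, 4, 1, 4, 4, 1, 5, 2, 5, 1, 4, 1, 4, 1]) = true := by decide +kernel

theorem rot2_63 : T.rot 2 [1, 2, 1, 3, 4, 3, 1, 2, 2, 1, 2, 5, 1, 4, 1, 4, 1, 5, 4, 1] (sel (ones 1755) ip2 63) = true := by decide +kernel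

theorem rot2_63r : band (Rule.ok (2 * 1) EX RL ⟨2 :: [1, 2, 1, 3, 4, 3, 1, 2, 2, 1, 2, 5, 1, 4, 1, 4, 1, 5, 4, 1], [4, 2, 0], 16, false⟩) (lall (memL L) [1, 2, 1, 3, 4, 3, 1, 2, 2, 1, 2, 5, 1, 4, 1, 4, 1, 5, 4, 1]) = true := by decide +kernel

theorem rot2_64 : T.rot 2 [1, 3, 4, 3, 1, 2, 2, 1, 2, 5, 1, 4, 1, 4, 1, 5, 4, 1, 2, 1] (sel (ones 1755) ip2 64) = true := by decide +kernel

theorem rot2_64r : band (Rule.ok (2 * 1) EX RL ⟨2 :: [1, 3, 4, 3, 1, 2, 2, 1, 2, 5, 1, 4, 1, 4, 1, 5, 4, 1, 2, 1], [4, 2, 0, 3, 0], 16, false⟩) (lall (memL L) [1, 3, 4, 3, 1, 2, 2, 1, 2, 5, 1, 4, 1, 4, 1, 5, 4, 1, 2, 1]) = true := by decide +kernel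

theorem rot2_65 : T.rot 2 [2, 1, 2, 5, 1, 4, 1, 4, 1, 5, 4, 1, 2, 1, 2, 1, 3, 4, 3, 1] (sel (ones 1755) ip2 65) = true := by decide +kernel

theorem rot2_65r : band (Rule.ok (2 * 1) EX RL ⟨2 :: [2, 1, 2, 5, 1, 4, 1, 4, 1, 5, 4, 1, 2, 1, 2, 1, 3, 4, 3, 1], [0, 3, 0, 3, 0, 5, 2, 0, 2, 2], 16, false⟩) (lall (memL L) [2, 1, 2, 5, 1, 4, 1, 4, 1, 5, 4, 1, 2, 1, 2, 1, 3, 4, 3, 1]) = true := by decide +kernel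

theorem rot2_66 : T.rot 2 [1, 2, 5, 1, 4, 1, 4, 1, 5, 4, 1, 2, 1, 2, 1, 3, 4, 3, 1, 2] (sel (ones 1755) ip2 66) = true := by decide +kernel

theorem rot2_66r : band (Rule.ok (2 * 1) EX RL ⟨2 :: [1, 2, 5, 1, 4, 1, 4, 1, 5, 4, 1, 2, 1, 2, 1, 3, 4, 3, 1, 2], [0, 3, 0, 3, 0, 5, 2, 0, 2], 16, false⟩) (lall (memL L) [1, 2, 5, 1, 4, 1, 4, 1, 5, 4, 1, 2, 1, 2, 1, 3, 4, 3, 1, 2]) = true := by decide +kernel

theorem rot2_67 : T.rot 2 [5, 1, 4, 1, 4, 1, 5, 4, 1, 2, 1, 2, 1, 3, 4, 3, 1, 2, 2, 1] (sel (ones 1755) ip2 67) = true := by decide +kernel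

theorem rot2_67r : band (Rule.ok (2 * 1) EX RL ⟨2 :: [5, 1, 4, 1, 4, 1, 5, 4, 1, 2, 1, 2, 1, 3, 4, 3, 1, 2, 2, 1], [0, 3, 0, 3, 0, 5, 2], 16, false⟩) (lall (memL L) [5, 1, 4, 1, 4, 1, 5, 4, 1, 2, 1, 2, 1, 3, 4, 3, 1, 2, 2, 1]) = true := by decide +kernel

theorem rot2_68 : T.rot 2 [5, 4, 4, 2, 5, 4, 4, 7, 5, 2, 5, 4, 4, 7, 5, 7, 5, 2, 5, 4, 4, 7, 5] (sel (ones 1755) ip2 68) = true := by decide +kernel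

theorem rot2_68r : band (Rule.ok (2 * 1) EX RL ⟨2 :: [5, 4, 4, 2, 5, 4, 4, 7, 5, 2, 5, 4, 4, 7, 5, 7, 5, 2, 5, 4, 4, 7, 5], [], 6, true⟩) (lall (memL L) [5, 4, 4, 2, 5, 4, 4, 7, 5, 2, 5, 4, 4, 7, 5, 7, 5, 2, 5, 4, 4, 7, 5]) = true := by decide +kernel

theorem rot2_69 : T.rot 2 [5, 4, 4, 7, 5, 7, 5, 2, 5, 4, 4, 7, 5, 2, 5, 4, 4, 2, 5, 4, 4, 7, 5] (sel (ones 1755) ip2 69) = true := by decide +kernel

theorem rot2_69r : band (Rule.ok (2 * 1) EX RL ⟨2 :: [5, 4, 4, 7, 5, 7, 5, 2, 5, 4, 4, 7, 5, 2, 5, 4, 4, 2, 5, 4, 4, 7, 5], [3, 4, 2, 4, 2, 2, 0, 3, 3, 5, 2, 0, 4], 6, true⟩) (lall (memL L) [5, 4, 4, 7, 5, 7, 5, 2, 5, 4, 4, 7, 5, 2, 5, 4, 4, 2, 5, 4, 4, 7, 5]) = true := by decide +kernel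

theorem rot2_70 : T.rot 2 [5, 4, 4, 7, 5, 2, 5, 4, 4, 2, 5, 4, 4, 7, 5, 2, 5, 4, 4, 7, 5, 7, 5] (sel (ones 1755) ip2 70) = true := by decide +kernel

theorem rot2_70r : band (Rule.ok (2 * 1) EX RL ⟨2 :: [5, 4, 4, 7, 5, 2, 5, 4, 4, 2, 5, 4, 4, 7, 5, 2, 5, 4, 4, 7, 5, 7, 5], [5, 0, 3, 4, 2, 2, 0, 3, 3, 5, 2], 6, true⟩) (lall (memL L) [5, 4, 4, 7, 5, 2, 5, 4, 4, 2, 5, 4, 4, 7, 5, 2, 5, 4, 4, 7, 5, 7, 5]) = true := by decide +kernel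

theorem rot2_71 : T.rot 2 [2, 3, 4, 3, 6, 3, 6, 2, 2, 3, 4, 3, 6, 2, 2, 3, 4, 2, 2, 3, 4, 3, 6] (sel (ones 1755) ip2 71) = true := by decide +kernel

theorem rot2_71r : band (Rule.ok (2 * 1) EX RL ⟨2 :: [2, 3, 4, 3, 6, 3, 6, 2, 2, 3, 4, 3, 6, 2, 2, 3, 4, 2, 2, 3, 4, 3, 6], [5, 0, 3, 4, 2, 2, 0], 6, false⟩) (lall (memL L) [2, 3, 4, 3, 6, 3, 6, 2, 2, 3, 4, 3, 6, 2, 2, 3, 4, 2, 2, 3, 4, 3, 6]) = true := by decide +kernel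

theorem rot2_72 : T.rot 2 [3, 4, 3, 6, 3, 6, 2, 2, 3, 4, 3, 6, 2, 2, 3, 4, 2, 2, 3, 4, 3, 6, 2] (sel (ones 1755) ip2 72) = true := by decide +kernel

theorem rot2_72r : band (Rule.ok (2 * 1) EX RL ⟨2 :: [3, 4, 3, 6, 3, 6, 2, 2, 3, 4, 3, 6, 2, 2, 3, 4, 2, 2, 3, 4, 3, 6, 2], [5, 0, 3, 4, 2, 2, 0, 3], 6, false⟩) (lall (memL L) [3, 4, 3, 6, 3, 6, 2, 2, 3, 4, 3, 6, 2, 2, 3, 4, 2, 2, 3, 4, 3, 6, 2]) = true := by decide +kernel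

theorem rot2_73 : T.rot 2 [2, 3, 4, 3, 6, 2, 2, 3, 4, 2, 2, 3, 4, 3, 6, 2, 2, 3, 4, 3, 6, 3, 6] (sel (ones 1755) ip2 73) = true := by decide +kernel

theorem rot2_73r : band (Rule.ok (2 * 1) EX RL ⟨2 :: [2, 3, 4, 3, 6, 2, 2, 3, 4, 2, 2, 3, 4, 3, 6, 2, 2, 3, 4, 3, 6, 3, 6], [3, 4, 2, 4, 2, 2, 0, 3, 3, 5, 2, 0, 4, 3, 4, 2, 2], 6, false⟩) (lall (memL L) [2, 3, 4, 3, 6, 2, 2, 3, 4, 2, 2, 3, 4, 3, 6, 2, 2, 3, 4, 3, 6, 3, 6]) = true := by decide +kernel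

theorem rot2_74 : T.rot 2 [3, 4, 3, 6, 2, 2, 3, 4, 2, 2, 3, 4, 3, 6, 2, 2, 3, 4, 3, 6, 3, 6, 2] (sel (ones 1755) ip2 74) = true := by decide +kernel

theorem rot2_74r : band (Rule.ok (2 * 1) EX RL ⟨2 :: [3, 4, 3, 6, 2, 2, 3, 4, 2, 2, 3, 4, 3, 6, 2, 2, 3, 4, 3, 6, 3, 6, 2], [3, 4, 2, 4, 2, 2, 0, 3, 3, 5, 2, 0, 4, 3, 4, 2], 6, false⟩) (lall (memL L) [3, 4, 3, 6, 2, 2, 3, 4, 2, 2, 3, 4, 3, 6, 2, 2, 3, 4, 3, 6, 3, 6, 2]) = true := by decide +kernel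

theorem rot2_75 : T.rot 2 [2, 3, 4, 2, 2, 3, 4, 3, 6, 2, 2, 3, 4, 3, 6, 3, 6, 2, 2, 3, 4, 3, 6] (sel (ones 1755) ip2 75) = true := by decide +kernel

theorem rot2_75r : band (Rule.ok (2 * 1) EX RL ⟨2 :: [2, 3, 4, 2, 2, 3, 4, 3, 6, 2, 2, 3, 4, 3, 6, 3, 6, 2, 2, 3, 4, 3, 6], [3, 4, 2, 4, 2, 2], 6, false⟩) (lall (memL L) [2, 3, 4, 2, 2, 3, 4, 3, 6, 2, 2, 3, 4, 3, 6, 3, 6, 2, 2, 3, 4, 3, 6]) = true := by decide +kernel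

theorem rot2_76 : T.rot 2 [3, 4, 2, 2, 3, 4, 3, 6, 2, 2, 3, 4, 3, 6, 3, 6, 2, 2, 3, 4, 3, 6, 2] (sel (ones 1755) ip2 76) = true := by decide +kernel

theorem rot2_76r : band (Rule.ok (2 * 1) EX RL ⟨2 :: [3, 4, 2, 2, 3, 4, 3, 6, 2, 2, 3, 4, 3, 6, 3, 6, 2, 2, 3, 4, 3, 6, 2], [3, 4, 2, 4, 2], 6, false⟩) (lall (memL L) [3, 4, 2, 2, 3, 4, 3, 6, 2, 2, 3, 4, 3, 6, 3, 6, 2, 2, 3, 4, 3, 6, 2]) = true := by decide +kernel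

theorem rot2_77 : T.rot 2 [3, 4, 3, 6, 2, 2, 3, 4, 3, 6, 3, 6, 2, 2, 3, 4, 3, 6, 2, 2, 3, 4, 2] (sel (ones 1755) ip2 77) = true := by decide +kernel

theorem rot2_77r : band (Rule.ok (2 * 1) EX RL ⟨2 :: [3, 4, 3, 6, 2, 2, 3, 4, 3, 6, 3, 6, 2, 2, 3, 4, 3, 6, 2, 2, 3, 4, 2], [3, 4, 2], 6, false⟩) (lall (memL L) [3, 4, 3, 6, 2, 2, 3, 4, 3, 6, 3, 6, 2, 2, 3, 4, 3, 6, 2, 2, 3, 4, 2]) = true := by decide +kernel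

theorem rot2_78 : T.rot 2 [3, 4, 3, 6, 2, 2, 3, 4, 3, 6, 2, 2, 3, 4, 3, 6, 2, 2, 3, 4, 3, 6, 2] (sel (ones 1755) ip2 78) = true := by decide +kernel

theorem rot2_78r : band (Rule.ok (2 * 1) EX RL ⟨2 :: [3, 4, 3, 6, 2, 2, 3, 4, 3, 6, 2, 2, 3, 4, 3, 6, 2, 2, 3, 4, 3, 6, 2], [3, 4, 2], 7, false⟩) (lall (memL L) [3, 4, 3, 6, 2, 2, 3, 4, 3, 6, 2, 2, 3, 4, 3, 6, 2, 2, 3, 4, 3, 6, 2]) = true := by decide +kernel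

theorem cov2 : T.cover 2 [(sel (ones 1755) ip2 1), (sel (ones 1755) ip2 2), (sel (ones 1755) ip2 3), (sel (ones 1755) ip2 4), (sel (ones 1755) ip2 5), (sel (ones 1755) ip2 6), (sel (ones 1755) ip2 7), (sel (ones 1755) ip2 8), (sel (ones 1755) ip2 9), (sel (ones 1755) ip2 10), (sel (ones 1755) ip2 11), (sel (ones 1755) ip2 12), (sel (ones 1755) ip2 13), (sel (ones 1755) ip2 14), (sel (ones 1755) ip2 15), (sel (ones 1755) ip2 16), (sel (ones 1755) ip2 17), (sel (ones 1755) ip2 18), (sel (ones 1755) ip2 19), (sel (ones 1755) ip2 20), (sel (ones 1755) ip2 21), (sel (ones 1755) ip2 22), (sel (ones 1755) ip2 23), (sel (ones 1755) ip2 24), (sel (ones 1755) ip2 25), (sel (ones 1755) ip2 26), (sel (ones 1755) ip2 27), (sel (ones 1755) ip2 28), (sel (ones 1755) ip2 29), (sel (ones 1755) ip2 30), (sel (ones 1755)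 ip2 31), (sel (ones 1755) ip2 32), (sel (ones 1755) ip2 33), (sel (ones 1755) ip2 34), (sel (ones 1755) ip2 35), (sel (ones 1755) ip2 36), (sel (ones 1755) ip2 37), (sel (ones 1755) ip2 38), (sel (ones 1755) ip2 39), (sel (ones 1755) ip2 40), (sel (ones 1755) ip2 41), (sel (ones 1755) ip2 42), (sel (ones 1755) ip2 43), (sel (ones 1755) ip2 44), (sel (ones 1755) ip2 45), (sel (ones 1755) ip2 46), (sel (ones 1755) ip2 47), (sel (ones 1755) ip2 48), (sel (ones 1755) ip2 49), (sel (ones 1755) ip2 50), (sel (ones 1755) ip2 51), (sel (ones 1755) ip2 52), (sel (ones 1755) ip2 53), (sel (ones 1755) ip2 54), (sel (ones 1755) ip2 55), (sel (ones 1755) ip2 56), (sel (ones 1755) ip2 57), (sel (ones 1755) ip2 58), (sel (ones 1755) ip2 59), (sel (ones 1755) ip2 60), (sel (ones 1755) ip2 61), (sel (ones 1755) ip2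 62), (sel (ones 1755) ip2 63), (sel (ones 1755) ip2 64), (sel (ones 1755) ip2 65), (sel (ones 1755) ip2 66), (sel (ones 1755) ip2 67), (sel (ones 1755) ip2 68), (sel (ones 1755) ip2 69), (sel (ones 1755) ip2 70), (sel (ones 1755) ip2 71), (sel (ones 1755) ip2 72), (sel (ones 1755) ip2 73), (sel (ones 1755) ip2 74), (sel (ones 1755) ip2 75), (sel (ones 1755) ip2 76), (sel (ones 1755) ip2 77), (sel (ones 1755) ip2 78), 1] = true := by decide +kernel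

theorem tl2 : T.treeLt 11 2 = true := by decide +kernel

theorem rot3_1 : T.rot 3 [5] (sel (ones 1755) ip3 1) = true := by decide +kernel

theorem rot3_1r : band (Rule.ok (2 * 1) EX RL ⟨3 :: [5], [], 18, false⟩) (lall (memL L) [5]) = true := by decide +kernel

theorem rot3_2 : T.rot 3 [3, 3, 7, 6, 3] (sel (ones 1755) ip3 2) = true := by decide +kernel

theorem rot3_2r : band (Rule.ok (2 * 1) EX RL ⟨3 :: [3, 3, 7, 6, 3], [], 8, true⟩) (lall (memL L) [3, 3, 7, 6, 3]) = true := by decide +kernel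

theorem rot3_3 : T.rot 3 [3, 7, 6, 3, 3] (sel (ones 1755) ip3 3) = true := by decide +kernel

theorem rot3_3r : band (Rule.ok (2 * 1) EX RL ⟨3 :: [3, 7, 6, 3, 3], [], 8, true⟩) (lall (memL L) [3, 7, 6, 3, 3]) = true := by decide +kernel

theorem rot3_4 : T.rot 3 [7, 6, 3, 3, 3] (sel (ones 1755) ip3 4) = true := by decide +kernel

theorem rot3_4r : band (Rule.ok (2 * 1) EX RL ⟨3 :: [7, 6, 3, 3, 3], [], 8, true⟩) (lall (memL L) [7, 6, 3, 3, 3]) = true := by decide +kernel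

theorem rot3_5 : T.rot 3 [3, 3, 3, 7, 6] (sel (ones 1755) ip3 5) = true := by decide +kernel

theorem rot3_5r : band (Rule.ok (2 * 1) EX RL ⟨3 :: [3, 3, 3, 7, 6], [], 8, true⟩) (lall (memL L) [3, 3, 3, 7, 6]) = true := by decide +kernel

theorem rot3_6 : T.rot 3 [4, 1, 6, 1, 2, 2] (sel (ones 1755) ip3 6) = true := by decide +kernel

theorem rot3_6r : band (Rule.ok (2 * 1) EX RL ⟨3 :: [4, 1, 6, 1, 2, 2], [], 18, false⟩) (lall (memL L) [4, 1, 6, 1, 2, 2]) = true := by decide +kernel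

theorem rot3_7 : T.rot 3 [6, 3, 6, 3, 6, 3, 6] (sel (ones 1755) ip3 7) = true := by decide +kernel

theorem rot3_7r : band (Rule.ok (2 * 1) EX RL ⟨3 :: [6, 3, 6, 3, 6, 3, 6], [], 0, false⟩) (lall (memL L) [6, 3, 6, 3, 6, 3, 6]) = true := by decide +kernel

theorem rot3_8 : T.rot 3 [3, 2, 6, 3, 2, 2, 3, 4, 7, 2] (sel (ones 1755) ip3 8) = true := by decide +kernel

theorem rot3_8r : band (Rule.ok (2 * 1) EX RL ⟨3 :: [3, 2, 6, 3, 2, 2, 3, 4, 7, 2], [3], 13, true⟩) (lall (memL L) [3, 2, 6, 3, 2, 2, 3, 4, 7, 2]) = true := by decide +kernel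

theorem rot3_9 : T.rot 3 [2, 6, 3, 2, 2, 3, 4, 7, 2, 3] (sel (ones 1755) ip3 9) = true := by decide +kernel

theorem rot3_9r : band (Rule.ok (2 * 1) EX RL ⟨3 :: [2, 6, 3, 2, 2, 3, 4, 7, 2, 3], [3, 5], 13, true⟩) (lall (memL L) [2, 6, 3, 2, 2, 3, 4, 7, 2, 3]) = true := by decide +kernel

theorem rot3_10 : T.rot 3 [2, 2, 3, 4, 7, 2, 3, 3, 2, 6] (sel (ones 1755) ip3 10) = true := by decide +kernel

theorem rot3_10r : band (Rule.ok (2 * 1) EX RL ⟨3 :: [2, 2, 3, 4, 7, 2, 3, 3, 2, 6], [3, 5, 5, 3, 0, 3, 4, 2, 2, 0], 13, true⟩) (lall (memL L) [2, 2, 3, 4, 7, 2, 3, 3, 2, 6]) = true := by decide +kernel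

theorem rot3_11 : T.rot 3 [4, 7, 2, 3, 3, 2, 6, 3, 2, 2] (sel (ones 1755) ip3 11) = true := by decide +kernel

theorem rot3_11r : band (Rule.ok (2 * 1) EX RL ⟨3 :: [4, 7, 2, 3, 3, 2, 6, 3, 2, 2], [0, 3, 4, 2, 2, 0, 3, 4], 13, true⟩) (lall (memL L) [4, 7, 2, 3, 3, 2, 6, 3, 2, 2]) = true := by decide +kernel

theorem rot3_12 : T.rot 3 [4, 4, 1, 5, 1, 5, 4, 3, 2, 2] (sel (ones 1755) ip3 12) = true := by decide +kernel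

theorem rot3_12r : band (Rule.ok (2 * 1) EX RL ⟨3 :: [4, 4, 1, 5, 1, 5, 4, 3, 2, 2], [3], 15, true⟩) (lall (memL L) [4, 4, 1, 5, 1, 5, 4, 3, 2, 2]) = true := by decide +kernel

theorem rot3_13 : T.rot 3 [2, 2, 3, 4, 4, 1, 5, 1, 5, 4] (sel (ones 1755) ip3 13) = true := by decide +kernel

theorem rot3_13r : band (Rule.ok (2 * 1) EX RL ⟨3 :: [2, 2, 3, 4, 4, 1, 5, 1, 5, 4], [2, 4], 15, true⟩) (lall (memL L) [2, 2, 3, 4, 4, 1, 5, 1, 5, 4]) = true := by decide +kernel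

theorem rot3_14 : T.rot 3 [1, 3, 1, 2, 2, 5, 4, 4, 5, 2] (sel (ones 1755) ip3 14) = true := by decide +kernel

theorem rot3_14r : band (Rule.ok (2 * 1) EX RL ⟨3 :: [1, 3, 1, 2, 2, 5, 4, 4, 5, 2], [2, 4, 3], 15, false⟩) (lall (memL L) [1, 3, 1, 2, 2, 5, 4, 4, 5, 2]) = true := by decide +kernel

theorem rot3_15 : T.rot 3 [1, 2, 2, 5, 4, 4, 5, 2, 3, 1] (sel (ones 1755) ip3 15) = true := by decide +kernel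

theorem rot3_15r : band (Rule.ok (2 * 1) EX RL ⟨3 :: [1, 2, 2, 5, 4, 4, 5, 2, 3, 1], [2, 4, 3, 5, 0], 15, false⟩) (lall (memL L) [1, 2, 2, 5, 4, 4, 5, 2, 3, 1]) = true := by decide +kernel

theorem rot3_16 : T.rot 3 [6, 3, 3, 6, 5, 7, 5, 7, 7, 5, 6] (sel (ones 1755) ip3 16) = true := by decide +kernel

theorem rot3_16r : band (Rule.ok (2 * 1) EX RL ⟨3 :: [6, 3, 3, 6, 5, 7, 5, 7, 7, 5, 6], [0, 3, 3, 5, 2, 0, 4, 4, 0, 3, 3, 5, 2, 0, 4], 2, true⟩) (lall (memL L) [6, 3, 3, 6, 5, 7, 5, 7, 7, 5, 6]) = true := by decide +kernel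

theorem rot3_17 : T.rot 3 [3, 6, 5, 7, 5, 7, 7, 5, 6, 3, 6] (sel (ones 1755) ip3 17) = true := by decide +kernel

theorem rot3_17r : band (Rule.ok (2 * 1) EX RL ⟨3 :: [3, 6, 5, 7, 5, 7, 7, 5, 6, 3, 6], [0, 3, 3, 5, 2, 0, 4, 4], 2, true⟩) (lall (memL L) [3, 6, 5, 7, 5, 7, 7, 5, 6, 3, 6]) = true := by decide +kernel

theorem rot3_18 : T.rot 3 [6, 5, 7, 5, 7, 7, 5, 6, 3, 6, 3] (sel (ones 1755) ip3 18) = true := by decide +kernel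

theorem rot3_18r : band (Rule.ok (2 * 1) EX RL ⟨3 :: [6, 5, 7, 5, 7, 7, 5, 6, 3, 6, 3], [0, 3, 3, 5, 2, 0, 4], 2, true⟩) (lall (memL L) [6, 5, 7, 5, 7, 7, 5, 6, 3, 6, 3]) = true := by decide +kernel

theorem rot3_19 : T.rot 3 [6, 6, 3, 6, 3, 7, 5, 5, 7, 5, 7] (sel (ones 1755) ip3 19) = true := by decide +kernel

theorem rot3_19r : band (Rule.ok (2 * 1) EX RL ⟨3 :: [6, 6, 3, 6, 3, 7, 5, 5, 7, 5, 7], [4, 0, 3, 3, 5, 2, 0, 4, 0, 3, 3, 5, 3, 5, 2, 0, 4], 2, false⟩) (lall (memL L) [6, 6, 3, 6, 3, 7, 5, 5, 7, 5, 7]) = true := by decide +kernel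

theorem rot3_20 : T.rot 3 [6, 3, 7, 5, 5, 7, 5, 7, 3, 6, 6] (sel (ones 1755) ip3 20) = true := by decide +kernel

theorem rot3_20r : band (Rule.ok (2 * 1) EX RL ⟨3 :: [6, 3, 7, 5, 5, 7, 5, 7, 3, 6, 6], [4, 0, 3, 3, 5, 2, 0, 4], 2, false⟩) (lall (memL L) [6, 3, 7, 5, 5, 7, 5, 7, 3, 6, 6]) = true := by decide +kernel

theorem rot3_21 : T.rot 3 [7, 5, 5, 7, 5, 7, 3, 6, 6, 3, 6] (sel (ones 1755) ip3 21) = true := by decide +kernel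

theorem rot3_21r : band (Rule.ok (2 * 1) EX RL ⟨3 :: [7, 5, 5, 7, 5, 7, 3, 6, 6, 3, 6], [4], 2, false⟩) (lall (memL L) [7, 5, 5, 7, 5, 7, 3, 6, 6, 3, 6]) = true := by decide +kernel

theorem rot3_22 : T.rot 3 [6, 5, 4, 7, 2, 2, 3, 4, 5, 7, 7, 2] (sel (ones 1755) ip3 22) = true := by decide +kernel

theorem rot3_22r : band (Rule.ok (2 * 1) EX RL ⟨3 :: [6, 5, 4, 7, 2, 2, 3, 4, 5, 7, 7, 2], [3], 14, true⟩) (lall (memL L) [6, 5, 4, 7, 2, 2, 3, 4, 5, 7, 7, 2]) = true := by decide +kernel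

theorem rot3_23 : T.rot 3 [4, 5, 7, 7, 2, 3, 6, 5, 4, 7, 2, 2] (sel (ones 1755) ip3 23) = true := by decide +kernel

theorem rot3_23r : band (Rule.ok (2 * 1) EX RL ⟨3 :: [4, 5, 7, 7, 2, 3, 6, 5, 4, 7, 2, 2], [0, 3, 4, 2, 4, 2, 2, 0, 5, 3, 4], 14, true⟩) (lall (memL L) [4, 5, 7, 7, 2, 3, 6, 5, 4, 7, 2, 2]) = true := by decide +kernel

theorem rot3_24 : T.rot 3 [2, 5, 4, 4, 6, 2, 3, 7, 5, 4, 6, 6] (sel (ones 1755) ip3 24) = true := by decide +kernel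

theorem rot3_24r : band (Rule.ok (2 * 1) EX RL ⟨3 :: [2, 5, 4, 4, 6, 2, 3, 7, 5, 4, 6, 6], [0, 3, 4, 2, 4, 2, 2, 0], 14, false⟩) (lall (memL L) [2, 5, 4, 4, 6, 2, 3, 7, 5, 4, 6, 6]) = true := by decide +kernel

theorem rot3_25 : T.rot 3 [7, 5, 4, 6, 6, 3, 2, 5, 4, 4, 6, 2] (sel (ones 1755) ip3 25) = true := by decide +kernel

theorem rot3_25r : band (Rule.ok (2 * 1) EX RL ⟨3 :: [7, 5, 4, 6, 6, 3, 2, 5, 4, 4, 6, 2], [3, 5, 0, 3, 4, 2, 2, 0, 4], 14, false⟩) (lall (memL L) [7, 5, 4, 6, 6, 3, 2, 5, 4, 4, 6, 2]) = true := by decide +kernel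

theorem rot3_26 : T.rot 3 [2, 5, 4, 4, 5, 5, 7, 2, 2, 3, 4, 3, 6] (sel (ones 1755) ip3 26) = true := by decide +kernel

theorem rot3_26r : band (Rule.ok (2 * 1) EX RL ⟨3 :: [2, 5, 4, 4, 5, 5, 7, 2, 2, 3, 4, 3, 6], [], 9, true⟩) (lall (memL L) [2, 5, 4, 4, 5, 5, 7, 2, 2, 3, 4, 3, 6]) = true := by decide +kernel

theorem rot3_27 : T.rot 3 [4, 3, 6, 3, 2, 5, 4, 4, 5, 5, 7, 2, 2] (sel (ones 1755) ip3 27) = true := by decide +kernel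

theorem rot3_27r : band (Rule.ok (2 * 1) EX RL ⟨3 :: [4, 3, 6, 3, 2, 5, 4, 4, 5, 5, 7, 2, 2], [0, 3, 3, 5, 2, 0, 4, 3, 4], 9, true⟩) (lall (memL L) [4, 3, 6, 3, 2, 5, 4, 4, 5, 5, 7, 2, 2]) = true := by decide +kernel

theorem rot3_28 : T.rot 3 [6, 3, 2, 5, 4, 4, 5, 5, 7, 2, 2, 3, 4] (sel (ones 1755) ip3 28) = true := by decide +kernel

theorem rot3_28r : band (Rule.ok (2 * 1) EX RL ⟨3 :: [6, 3, 2, 5, 4, 4, 5, 5, 7, 2, 2, 3, 4], [0, 3, 3, 5, 2, 0, 4], 9, true⟩) (lall (memL L) [6, 3, 2, 5, 4, 4, 5, 5, 7, 2, 2, 3, 4]) = true := by decide +kernel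

theorem rot3_29 : T.rot 3 [3, 2, 2, 3, 4, 5, 7, 5, 2, 5, 4, 4, 6] (sel (ones 1755) ip3 29) = true := by decide +kernel

theorem rot3_29r : band (Rule.ok (2 * 1) EX RL ⟨3 :: [3, 2, 2, 3, 4, 5, 7, 5, 2, 5, 4, 4, 6], [5, 3, 4, 2, 2, 4, 4], 9, false⟩) (lall (memL L) [3, 2, 2, 3, 4, 5, 7, 5, 2, 5, 4, 4, 6]) = true := by decide +kernel

theorem rot3_30 : T.rot 3 [2, 2, 3, 4, 5, 7, 5, 2, 5, 4, 4, 6, 3] (sel (ones 1755) ip3 30) = true := by decide +kernel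

theorem rot3_30r : band (Rule.ok (2 * 1) EX RL ⟨3 :: [2, 2, 3, 4, 5, 7, 5, 2, 5, 4, 4, 6, 3], [5, 3, 4, 2, 2, 4], 9, false⟩) (lall (memL L) [2, 2, 3, 4, 5, 7, 5, 2, 5, 4, 4, 6, 3]) = true := by decide +kernel

theorem rot3_31 : T.rot 3 [4, 5, 7, 5, 2, 5, 4, 4, 6, 3, 3, 2, 2] (sel (ones 1755) ip3 31) = true := by decide +kernel

theorem rot3_31r : band (Rule.ok (2 * 1) EX RL ⟨3 :: [4, 5, 7, 5, 2, 5, 4, 4, 6, 3, 3, 2, 2], [5, 3, 4], 9, false⟩) (lall (memL L) [4, 5, 7, 5, 2, 5, 4, 4, 6, 3, 3, 2, 2]) = true := by decide +kernel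

theorem rot3_32 : T.rot 3 [2, 2, 3, 4, 2, 6, 4, 2, 5, 4, 4, 5, 7] (sel (ones 1755) ip3 32) = true := by decide +kernel

theorem rot3_32r : band (Rule.ok (2 * 1) EX RL ⟨3 :: [2, 2, 3, 4, 2, 6, 4, 2, 5, 4, 4, 5, 7], [3, 4, 2, 2, 4], 12, true⟩) (lall (memL L) [2, 2, 3, 4, 2, 6, 4, 2, 5, 4, 4, 5, 7]) = true := by decide +kernel

theorem rot3_33 : T.rot 3 [4, 2, 6, 4, 2, 5, 4, 4, 5, 7, 3, 2, 2] (sel (ones 1755) ip3 33) = true := by decide +kernel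

theorem rot3_33r : band (Rule.ok (2 * 1) EX RL ⟨3 :: [4, 2, 6, 4, 2, 5, 4, 4, 5, 7, 3, 2, 2], [3, 4], 12, true⟩) (lall (memL L) [4, 2, 6, 4, 2, 5, 4, 4, 5, 7, 3, 2, 2]) = true := by decide +kernel

theorem rot3_34 : T.rot 3 [2, 2, 3, 4, 2, 7, 4, 2, 5, 4, 4, 5, 6] (sel (ones 1755) ip3 34) = true := by decide +kernel

theorem rot3_34r : band (Rule.ok (2 * 1) EX RL ⟨3 :: [2, 2, 3, 4, 2, 7, 4, 2, 5, 4, 4, 5, 6], [3, 0, 3, 4, 2, 2, 0, 4, 2, 2, 4], 12, false⟩) (lall (memL L) [2, 2, 3, 4, 2, 7, 4, 2, 5, 4, 4, 5, 6]) = true := by decide +kernel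

theorem rot3_35 : T.rot 3 [4, 2, 7, 4, 2, 5, 4, 4, 5, 6, 3, 2, 2] (sel (ones 1755) ip3 35) = true := by decide +kernel

theorem rot3_35r : band (Rule.ok (2 * 1) EX RL ⟨3 :: [4, 2, 7, 4, 2, 5, 4, 4, 5, 6, 3, 2, 2], [3, 0, 3, 4, 2, 2, 0, 4], 12, false⟩) (lall (memL L) [4, 2, 7, 4, 2, 5, 4, 4, 5, 6, 3, 2, 2]) = true := by decide +kernel

theorem rot3_36 : T.rot 3 [4, 7, 5, 6, 3, 3, 6, 2, 5, 4, 4, 5, 7, 2, 2] (sel (ones 1755) ip3 36) = true := by decide +kernel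

theorem rot3_36r : band (Rule.ok (2 * 1) EX RL ⟨3 :: [4, 7, 5, 6, 3, 3, 6, 2, 5, 4, 4, 5, 7, 2, 2], [3, 4, 2, 2, 4, 0, 3, 3, 5, 2, 0, 3, 3], 1, true⟩) (lall (memL L) [4, 7, 5, 6, 3, 3, 6, 2, 5, 4, 4, 5, 7, 2, 2]) = true := by decide +kernel

theorem rot3_37 : T.rot 3 [3, 6, 2, 5, 4, 4, 5, 7, 2, 2, 3, 4, 7, 5, 6] (sel (ones 1755) ip3 37) = true := by decide +kernel

theorem rot3_37r : band (Rule.ok (2 * 1) EX RL ⟨3 :: [3, 6, 2, 5, 4, 4, 5, 7, 2, 2, 3, 4, 7, 5, 6], [0, 3, 3, 5, 2, 0, 4, 4], 1, true⟩) (lall (memL L) [3, 6, 2, 5, 4, 4, 5, 7, 2, 2, 3, 4, 7, 5, 6]) = true := by decide +kernel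

theorem rot3_38 : T.rot 3 [6, 2, 5, 4, 4, 5, 7, 2, 2, 3, 4, 7, 5, 6, 3] (sel (ones 1755) ip3 38) = true := by decide +kernel

theorem rot3_38r : band (Rule.ok (2 * 1) EX RL ⟨3 :: [6, 2, 5, 4, 4, 5, 7, 2, 2, 3, 4, 7, 5, 6, 3], [0, 3, 3, 5, 2, 0, 4], 1, true⟩) (lall (memL L) [6, 2, 5, 4, 4, 5, 7, 2, 2, 3, 4, 7, 5, 6, 3]) = true := by decide +kernel

theorem rot3_39 : T.rot 3 [6, 2, 5, 4, 4, 6, 3, 2, 2, 3, 4, 7, 5, 5, 7] (sel (ones 1755) ip3 39) = true := by decide +kernel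

theorem rot3_39r : band (Rule.ok (2 * 1) EX RL ⟨3 :: [6, 2, 5, 4, 4, 6, 3, 2, 2, 3, 4, 7, 5, 5, 7], [0, 3, 3, 5, 2, 0, 4, 4, 0, 3, 3, 5, 2, 0], 1, false⟩) (lall (memL L) [6, 2, 5, 4, 4, 6, 3, 2, 2, 3, 4, 7, 5, 5, 7]) = true := by decide +kernel

theorem rot3_40 : T.rot 3 [2, 2, 3, 4, 7, 5, 5, 7, 3, 6, 2, 5, 4, 4, 6] (sel (ones 1755) ip3 40) = true := by decide +kernel

theorem rot3_40r : band (Rule.ok (2 * 1) EX RL ⟨3 :: [2, 2, 3, 4, 7, 5, 5, 7, 3, 6, 2, 5, 4, 4, 6], [3, 4, 2, 2, 4], 1, false⟩) (lall (memL L) [2, 2, 3, 4, 7, 5, 5, 7, 3, 6, 2, 5, 4, 4, 6]) = true := by decide +kernel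

theorem rot3_41 : T.rot 3 [4, 7, 5, 5, 7, 3, 6, 2, 5, 4, 4, 6, 3, 2, 2] (sel (ones 1755) ip3 41) = true := by decide +kernel

theorem rot3_41r : band (Rule.ok (2 * 1) EX RL ⟨3 :: [4, 7, 5, 5, 7, 3, 6, 2, 5, 4, 4, 6, 3, 2, 2], [3, 4], 1, false⟩) (lall (memL L) [4, 7, 5, 5, 7, 3, 6, 2, 5, 4, 4, 6, 3, 2, 2]) = true := by decide +kernel

theorem rot3_42 : T.rot 3 [4, 5, 7, 5, 7, 2, 5, 4, 4, 5, 7, 5, 7, 2, 2] (sel (ones 1755) ip3 42) = true := by decide +kernel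

theorem rot3_42r : band (Rule.ok (2 * 1) EX RL ⟨3 :: [4, 5, 7, 5, 7, 2, 5, 4, 4, 5, 7, 5, 7, 2, 2], [0, 3, 4, 2, 2, 0, 5, 3, 4], 3, true⟩) (lall (memL L) [4, 5, 7, 5, 7, 2, 5, 4, 4, 5, 7, 5, 7, 2, 2]) = true := by decide +kernel

theorem rot3_43 : T.rot 3 [2, 5, 4, 4, 6, 3, 6, 3, 2, 2, 3, 4, 6, 3, 6] (sel (ones 1755) ip3 43) = true := by decide +kernel

theorem rot3_43r : band (Rule.ok (2 * 1) EX RL ⟨3 :: [2, 5, 4, 4, 6, 3, 6, 3, 2, 2, 3, 4, 6, 3, 6], [0, 3, 4, 2, 2, 0], 3, false⟩) (lall (memL L) [2, 5, 4, 4, 6, 3, 6, 3, 2, 2, 3, 4, 6, 3, 6]) = true := by decide +kernel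

theorem rot3_44 : T.rot 3 [6, 3, 2, 2, 3, 4, 6, 3, 6, 3, 2, 5, 4, 4, 6] (sel (ones 1755) ip3 44) = true := by decide +kernel

theorem rot3_44r : band (Rule.ok (2 * 1) EX RL ⟨3 :: [6, 3, 2, 2, 3, 4, 6, 3, 6, 3, 2, 5, 4, 4, 6], [0, 3, 4, 2, 2, 0, 5, 3, 4, 2, 2, 0, 3, 4, 2, 2, 0], 3, false⟩) (lall (memL L) [6, 3, 2, 2, 3, 4, 6, 3, 6, 3, 2, 5, 4, 4, 6]) = true := by decide +kernel

theorem rot3_45 : T.rot 3 [2, 2, 3, 4, 6, 3, 6, 3, 2, 5, 4, 4, 6, 3, 6] (sel (ones 1755) ip3 45) = true := by decide +kernel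

theorem rot3_45r : band (Rule.ok (2 * 1) EX RL ⟨3 :: [2, 2, 3, 4, 6, 3, 6, 3, 2, 5, 4, 4, 6, 3, 6], [4, 0, 3, 3, 5, 2, 0, 3, 4, 2, 2, 4], 3, false⟩) (lall (memL L) [2, 2, 3, 4, 6, 3, 6, 3, 2, 5, 4, 4, 6, 3, 6]) = true := by decide +kernel

theorem rot3_46 : T.rot 3 [4, 6, 3, 6, 3, 2, 5, 4, 4, 6, 3, 6, 3, 2, 2] (sel (ones 1755) ip3 46) = true := by decide +kernel

theorem rot3_46r : band (Rule.ok (2 * 1) EX RL ⟨3 :: [4, 6, 3, 6, 3, 2, 5, 4, 4, 6, 3, 6, 3, 2, 2], [4, 0, 3, 3, 5, 2, 0, 3, 4], 3, false⟩) (lall (memL L) [4, 6, 3, 6, 3, 2, 5, 4, 4, 6, 3, 6, 3, 2, 2]) = true := by decide +kernel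

theorem rot3_47 : T.rot 3 [6, 5, 7, 7, 5, 2, 5, 4, 4, 2, 5, 4, 4, 5, 7] (sel (ones 1755) ip3 47) = true := by decide +kernel

theorem rot3_47r : band (Rule.ok (2 * 1) EX RL ⟨3 :: [6, 5, 7, 7, 5, 2, 5, 4, 4, 2, 5, 4, 4, 5, 7], [3, 4, 2, 4, 2, 2, 4, 0, 3, 3, 5, 2, 0], 4, true⟩) (lall (memL L) [6, 5, 7, 7, 5, 2, 5, 4, 4, 2, 5, 4, 4, 5, 7]) = true := by decide +kernel

theorem rot3_48 : T.rot 3 [6, 6, 3, 7, 5, 6, 3, 2, 2, 3, 4, 2, 2, 3, 4] (sel (ones 1755) ip3 48) = true := by decide +kernel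

theorem rot3_48r : band (Rule.ok (2 * 1) EX RL ⟨3 :: [6, 6, 3, 7, 5, 6, 3, 2, 2, 3, 4, 2, 2, 3, 4], [], 4, false⟩) (lall (memL L) [6, 6, 3, 7, 5, 6, 3, 2, 2, 3, 4, 2, 2, 3, 4]) = true := by decide +kernel

theorem rot3_49 : T.rot 3 [7, 5, 6, 3, 2, 2, 3, 4, 2, 2, 3, 4, 3, 6, 6] (sel (ones 1755) ip3 49) = true := by decide +kernel

theorem rot3_49r : band (Rule.ok (2 * 1) EX RL ⟨3 :: [7, 5, 6, 3, 2, 2, 3, 4, 2, 2, 3, 4, 3, 6, 6], [5, 0, 3, 4, 2, 4, 2, 2, 0], 4, false⟩) (lall (memL L) [7, 5, 6, 3, 2, 2, 3, 4, 2, 2, 3, 4, 3, 6, 6]) = true := by decide +kernel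

theorem rot3_50 : T.rot 3 [4, 2, 2, 3, 4, 3, 6, 6, 3, 7, 5, 6, 3, 2, 2] (sel (ones 1755) ip3 50) = true := by decide +kernel

theorem rot3_50r : band (Rule.ok (2 * 1) EX RL ⟨3 :: [4, 2, 2, 3, 4, 3, 6, 6, 3, 7, 5, 6, 3, 2, 2], [3, 4, 2, 4], 4, false⟩) (lall (memL L) [4, 2, 2, 3, 4, 3, 6, 6, 3, 7, 5, 6, 3, 2, 2]) = true := by decide +kernel

theorem rot3_51 : T.rot 3 [4, 3, 6, 6, 3, 7, 5, 6, 3, 2, 2, 3, 4, 2, 2] (sel (ones 1755) ip3 51) = true := by decide +kernel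

theorem rot3_51r : band (Rule.ok (2 * 1) EX RL ⟨3 :: [4, 3, 6, 6, 3, 7, 5, 6, 3, 2, 2, 3, 4, 2, 2], [3, 4], 4, false⟩) (lall (memL L) [4, 3, 6, 6, 3, 7, 5, 6, 3, 2, 2, 3, 4, 2, 2]) = true := by decide +kernel

theorem rot3_52 : T.rot 3 [4, 2, 2, 3, 4, 2, 2, 3, 4, 2, 2, 3, 4, 2, 2] (sel (ones 1755) ip3 52) = true := by decide +kernel

theorem rot3_52r : band (Rule.ok (2 * 1) EX RL ⟨3 :: [4, 2, 2, 3, 4, 2, 2, 3, 4, 2, 2, 3, 4, 2, 2], [3, 4], 5, false⟩) (lall (memL L) [4, 2, 2, 3, 4, 2, 2, 3, 4, 2, 2, 3, 4, 2, 2]) = true := by decide +kernel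

theorem rot3_53 : T.rot 3 [3, 2, 5, 4, 4, 6, 5, 3, 6, 6, 3, 3, 6, 2, 2, 3, 4] (sel (ones 1755) ip3 53) = true := by decide +kernel

theorem rot3_53r : band (Rule.ok (2 * 1) EX RL ⟨3 :: [3, 2, 5, 4, 4, 6, 5, 3, 6, 6, 3, 3, 6, 2, 2, 3, 4], [], 10, true⟩) (lall (memL L) [3, 2, 5, 4, 4, 6, 5, 3, 6, 6, 3, 3, 6, 2, 2, 3, 4]) = true := by decide +kernel

theorem rot3_54 : T.rot 3 [2, 5, 4, 4, 6, 5, 3, 6, 6, 3, 3, 6, 2, 2, 3, 4, 3] (sel (ones 1755) ip3 54) = true := by decide +kernel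

theorem rot3_54r : band (Rule.ok (2 * 1) EX RL ⟨3 :: [2, 5, 4, 4, 6, 5, 3, 6, 6, 3, 3, 6, 2, 2, 3, 4, 3], [5], 10, true⟩) (lall (memL L) [2, 5, 4, 4, 6, 5, 3, 6, 6, 3, 3, 6, 2, 2, 3, 4, 3]) = true := by decide +kernel

theorem rot3_55 : T.rot 3 [3, 6, 2, 2, 3, 4, 3, 3, 2, 5, 4, 4, 6, 5, 3, 6, 6] (sel (ones 1755) ip3 55) = true := by decide +kernel

theorem rot3_55r : band (Rule.ok (2 * 1) EX RL ⟨3 :: [3, 6, 2, 2, 3, 4, 3, 3, 2, 5, 4, 4, 6, 5, 3, 6, 6], [3, 4, 2, 2, 0, 3, 3, 5, 2, 0, 4, 4], 10, true⟩) (lall (memL L) [3, 6, 2, 2, 3, 4, 3, 3, 2, 5, 4, 4, 6, 5, 3, 6, 6]) = true := by decide +kernel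

theorem rot3_56 : T.rot 3 [6, 2, 2, 3, 4, 3, 3, 2, 5, 4, 4, 6, 5, 3, 6, 6, 3] (sel (ones 1755) ip3 56) = true := by decide +kernel

theorem rot3_56r : band (Rule.ok (2 * 1) EX RL ⟨3 :: [6, 2, 2, 3, 4, 3, 3, 2, 5, 4, 4, 6, 5, 3, 6, 6, 3], [3, 4, 2, 2, 0, 3, 3, 5, 2, 0, 4], 10, true⟩) (lall (memL L) [6, 2, 2, 3, 4, 3, 3, 2, 5, 4, 4, 6, 5, 3, 6, 6, 3]) = true := by decide +kernel

theorem rot3_57 : T.rot 3 [4, 3, 3, 2, 5, 4, 4, 6, 5, 3, 6, 6, 3, 3, 6, 2, 2] (sel (ones 1755) ip3 57) = true := by decide +kernel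

theorem rot3_57r : band (Rule.ok (2 * 1) EX RL ⟨3 :: [4, 3, 3, 2, 5, 4, 4, 6, 5, 3, 6, 6, 3, 3, 6, 2, 2], [3, 4], 10, true⟩) (lall (memL L) [4, 3, 3, 2, 5, 4, 4, 6, 5, 3, 6, 6, 3, 3, 6, 2, 2]) = true := by decide +kernel

theorem rot3_58 : T.rot 3 [4, 5, 5, 2, 5, 4, 4, 7, 5, 5, 7, 7, 5, 3, 7, 2, 2] (sel (ones 1755) ip3 58) = true := by decide +kernel

theorem rot3_58r : band (Rule.ok (2 * 1) EX RL ⟨3 :: [4, 5, 5, 2, 5, 4, 4, 7, 5, 5, 7, 7, 5, 3, 7, 2, 2], [5, 5, 3, 4], 10, false⟩) (lall (memL L) [4, 5, 5, 2, 5, 4, 4, 7, 5, 5, 7, 7, 5, 3, 7, 2, 2]) = true := by decide +kernel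

theorem rot3_59 : T.rot 3 [2, 2, 1, 4, 4, 5, 4, 1, 2, 3, 7, 4, 6, 2, 5, 4, 1, 2] (sel (ones 1755) ip3 59) = true := by decide +kernel

theorem rot3_59r : band (Rule.ok (2 * 1) EX RL ⟨3 :: [2, 2, 1, 4, 4, 5, 4, 1, 2, 3, 7, 4, 6, 2, 5, 4, 1, 2], [0, 3], 17, true⟩) (lall (memL L) [2, 2, 1, 4, 4, 5, 4, 1, 2, 3, 7, 4, 6, 2, 5, 4, 1, 2]) = true := by decide +kernel

theorem rot3_60 : T.rot 3 [7, 4, 6, 2, 5, 4, 1, 2, 3, 2, 2, 1, 4, 4, 5, 4, 1, 2] (sel (ones 1755) ip3 60) = true := by decide +kernel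

theorem rot3_60r : band (Rule.ok (2 * 1) EX RL ⟨3 :: [7, 4, 6, 2, 5, 4, 1, 2, 3, 2, 2, 1, 4, 4, 5, 4, 1, 2], [0, 3, 5, 3, 3, 0, 2, 2, 4, 2, 0, 3], 17, true⟩) (lall (memL L) [7, 4, 6, 2, 5, 4, 1, 2, 3, 2, 2, 1, 4, 4, 5, 4, 1, 2]) = true := by decide +kernel

theorem rot3_61 : T.rot 3 [4, 7, 2, 6, 5, 4, 1, 2, 3, 2, 2, 1, 4, 4, 5, 4, 1, 2] (sel (ones 1755) ip3 61) = true := by decide +kernel

theorem rot3_61r : band (Rule.ok (2 * 1) EX RL ⟨3 :: [4, 7, 2, 6, 5, 4, 1, 2, 3, 2, 2, 1, 4, 4, 5, 4, 1, 2], [3], 17, false⟩) (lall (memL L) [4, 7, 2, 6, 5, 4, 1, 2, 3, 2, 2, 1, 4, 4, 5, 4, 1, 2]) = true := by decide +kernel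

theorem rot3_62 : T.rot 3 [2, 2, 1, 4, 4, 5, 4, 1, 2, 3, 4, 7, 2, 6, 5, 4, 1, 2] (sel (ones 1755) ip3 62) = true := by decide +kernel

theorem rot3_62r : band (Rule.ok (2 * 1) EX RL ⟨3 :: [2, 2, 1, 4, 4, 5, 4, 1, 2, 3, 4, 7, 2, 6, 5, 4, 1, 2], [0, 3, 5, 3, 3, 0, 2, 2, 4], 17, false⟩) (lall (memL L) [2, 2, 1, 4, 4, 5, 4, 1, 2, 3, 4, 7, 2, 6, 5, 4, 1, 2]) = true := by decide +kernel

theorem rot3_63 : T.rot 3 [4, 1, 4, 4, 1, 5, 2, 5, 1, 4, 1, 4, 1, 2, 3, 1, 2, 1, 2, 1] (sel (ones 1755) ip3 63) = true := by decide +kernel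

theorem rot3_63r : band (Rule.ok (2 * 1) EX RL ⟨3 :: [4, 1, 4, 4, 1, 5, 2, 5, 1, 4, 1, 4, 1, 2, 3, 1, 2, 1, 2, 1], [0, 3, 0, 3, 0], 16, true⟩) (lall (memL L) [4, 1, 4, 4, 1, 5, 2, 5, 1, 4, 1, 4, 1, 2, 3, 1, 2, 1, 2, 1]) = true := by decide +kernel

theorem rot3_64 : T.rot 3 [1, 2, 1, 2, 1, 3, 4, 1, 4, 4, 1, 5, 2, 5, 1, 4, 1, 4, 1, 2] (sel (ones 1755) ip3 64) = true := by decide +kernel

theorem rot3_64r : band (Rule.ok (2 * 1) EX RL ⟨3 :: [1, 2, 1, 2, 1, 3, 4, 1, 4, 4, 1, 5, 2, 5, 1, 4, 1, 4, 1, 2], [4], 16, true⟩) (lall (memL L) [1, 2, 1, 2, 1, 3, 4, 1, 4, 4, 1, 5, 2, 5, 1, 4, 1, 4, 1, 2]) = true := by decide +kernel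

theorem rot3_65 : T.rot 3 [4, 3, 1, 2, 2, 1, 2, 5, 1, 4, 1, 4, 1, 5, 4, 1, 2, 1, 2, 1] (sel (ones 1755) ip3 65) = true := by decide +kernel

theorem rot3_65r : band (Rule.ok (2 * 1) EX RL ⟨3 :: [4, 3, 1, 2, 2, 1, 2, 5, 1, 4, 1, 4, 1, 5, 4, 1, 2, 1, 2, 1], [4, 2, 0, 3, 0, 3, 0], 16, false⟩) (lall (memL L) [4, 3, 1, 2, 2, 1, 2, 5, 1, 4, 1, 4, 1, 5, 4, 1, 2, 1, 2, 1]) = true := by decide +kernel

theorem rot3_66 : T.rot 3 [1, 2, 2, 1, 2, 5, 1, 4, 1, 4, 1, 5, 4, 1, 2, 1, 2, 1, 3, 4] (sel (ones 1755) ip3 66) = true := by decide +kernel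

theorem rot3_66r : band (Rule.ok (2 * 1) EX RL ⟨3 :: [1, 2, 2, 1, 2, 5, 1, 4, 1, 4, 1, 5, 4, 1, 2, 1, 2, 1, 3, 4], [4, 2, 0, 3, 0, 3, 0, 5, 2], 16, false⟩) (lall (memL L) [1, 2, 2, 1, 2, 5, 1, 4, 1, 4, 1, 5, 4, 1, 2, 1, 2, 1, 3, 4]) = true := by decide +kernel

theorem rot3_67 : T.rot 3 [6, 2, 2, 3, 4, 3, 6, 3, 6, 2, 2, 3, 4, 3, 6, 2, 2, 3, 4, 2, 2, 3, 4] (sel (ones 1755) ip3 67) = true := by decide +kernel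

theorem rot3_67r : band (Rule.ok (2 * 1) EX RL ⟨3 :: [6, 2, 2, 3, 4, 3, 6, 3, 6, 2, 2, 3, 4, 3, 6, 2, 2, 3, 4, 2, 2, 3, 4], [], 6, false⟩) (lall (memL L) [6, 2, 2, 3, 4, 3, 6, 3, 6, 2, 2, 3, 4, 3, 6, 2, 2, 3, 4, 2, 2, 3, 4]) = true := by decide +kernel

theorem rot3_68 : T.rot 3 [4, 3, 6, 3, 6, 2, 2, 3, 4, 3, 6, 2, 2, 3, 4, 2, 2, 3, 4, 3, 6, 2, 2] (sel (ones 1755) ip3 68) = true := by decide +kernel

theorem rot3_68r : band (Rule.ok (2 * 1) EX RL ⟨3 :: [4, 3, 6, 3, 6, 2, 2, 3, 4, 3, 6, 2, 2, 3, 4, 2, 2, 3, 4, 3, 6, 2, 2], [5, 0, 3, 4, 2, 2, 0, 3, 3], 6, false⟩) (lall (memL L) [4, 3, 6, 3, 6, 2, 2, 3, 4, 3, 6, 2, 2, 3, 4, 2, 2, 3, 4, 3, 6, 2, 2]) = true := by decide +kernel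

theorem rot3_69 : T.rot 3 [6, 3, 6, 2, 2, 3, 4, 3, 6, 2, 2, 3, 4, 2, 2, 3, 4, 3, 6, 2, 2, 3, 4] (sel (ones 1755) ip3 69) = true := by decide +kernel

theorem rot3_69r : band (Rule.ok (2 * 1) EX RL ⟨3 :: [6, 3, 6, 2, 2, 3, 4, 3, 6, 2, 2, 3, 4, 2, 2, 3, 4, 3, 6, 2, 2, 3, 4], [5, 0, 3, 4, 2, 2, 0, 3, 3, 5, 2], 6, false⟩) (lall (memL L) [6, 3, 6, 2, 2, 3, 4, 3, 6, 2, 2, 3, 4, 2, 2, 3, 4, 3, 6, 2, 2, 3, 4]) = true := by decide +kernel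

theorem rot3_70 : T.rot 3 [6, 2, 2, 3, 4, 3, 6, 2, 2, 3, 4, 2, 2, 3, 4, 3, 6, 2, 2, 3, 4, 3, 6] (sel (ones 1755) ip3 70) = true := by decide +kernel

theorem rot3_70r : band (Rule.ok (2 * 1) EX RL ⟨3 :: [6, 2, 2, 3, 4, 3, 6, 2, 2, 3, 4, 2, 2, 3, 4, 3, 6, 2, 2, 3, 4, 3, 6], [5, 0, 3, 4, 2, 2, 0, 3, 3, 5, 2, 5, 0, 3, 4, 2, 2, 0], 6, false⟩) (lall (memL L) [6, 2, 2, 3, 4, 3, 6, 2, 2, 3, 4, 2, 2, 3, 4, 3, 6, 2, 2, 3, 4, 3, 6]) = true := by decide +kernel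

theorem rot3_71 : T.rot 3 [4, 3, 6, 2, 2, 3, 4, 2, 2, 3, 4, 3, 6, 2, 2, 3, 4, 3, 6, 3, 6, 2, 2] (sel (ones 1755) ip3 71) = true := by decide +kernel

theorem rot3_71r : band (Rule.ok (2 * 1) EX RL ⟨3 :: [4, 3, 6, 2, 2, 3, 4, 2, 2, 3, 4, 3, 6, 2, 2, 3, 4, 3, 6, 3, 6, 2, 2], [3, 4, 2, 4, 2, 2, 0, 3, 3, 5, 2, 0, 4, 3, 4], 6, false⟩) (lall (memL L) [4, 3, 6, 2, 2, 3, 4, 2, 2, 3, 4, 3, 6, 2, 2, 3, 4, 3, 6, 3, 6, 2, 2]) = true := by decide +kernel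

theorem rot3_72 : T.rot 3 [6, 2, 2, 3, 4, 2, 2, 3, 4, 3, 6, 2, 2, 3, 4, 3, 6, 3, 6, 2, 2, 3, 4] (sel (ones 1755) ip3 72) = true := by decide +kernel

theorem rot3_72r : band (Rule.ok (2 * 1) EX RL ⟨3 :: [6, 2, 2, 3, 4, 2, 2, 3, 4, 3, 6, 2, 2, 3, 4, 3, 6, 3, 6, 2, 2, 3, 4], [3, 4, 2, 4, 2, 2, 0, 3, 3, 5, 2, 0, 4], 6, false⟩) (lall (memL L) [6, 2, 2, 3, 4, 2, 2, 3, 4, 3, 6, 2, 2, 3, 4, 3, 6, 3, 6, 2, 2, 3, 4]) = true := by decide +kernel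

theorem rot3_73 : T.rot 3 [4, 2, 2, 3, 4, 3, 6, 2, 2, 3, 4, 3, 6, 3, 6, 2, 2, 3, 4, 3, 6, 2, 2] (sel (ones 1755) ip3 73) = true := by decide +kernel

theorem rot3_73r : band (Rule.ok (2 * 1) EX RL ⟨3 :: [4, 2, 2, 3, 4, 3, 6, 2, 2, 3, 4, 3, 6, 3, 6, 2, 2, 3, 4, 3, 6, 2, 2], [3, 4, 2, 4], 6, false⟩) (lall (memL L) [4, 2, 2, 3, 4, 3, 6, 2, 2, 3, 4, 3, 6, 3, 6, 2, 2, 3, 4, 3, 6, 2, 2]) = true := by decide +kernel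

theorem rot3_74 : T.rot 3 [4, 3, 6, 2, 2, 3, 4, 3, 6, 3, 6, 2, 2, 3, 4, 3, 6, 2, 2, 3, 4, 2, 2] (sel (ones 1755) ip3 74) = true := by decide +kernel

theorem rot3_74r : band (Rule.ok (2 * 1) EX RL ⟨3 :: [4, 3, 6, 2, 2, 3, 4, 3, 6, 3, 6, 2, 2, 3, 4, 3, 6, 2, 2, 3, 4, 2, 2], [3, 4], 6, false⟩) (lall (memL L) [4, 3, 6, 2, 2, 3, 4, 3, 6, 3, 6, 2, 2, 3, 4, 3, 6, 2, 2, 3, 4, 2, 2]) = true := by decide +kernel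

theorem rot3_75 : T.rot 3 [6, 2, 2, 3, 4, 3, 6, 2, 2, 3, 4, 3, 6, 2, 2, 3, 4, 3, 6, 2, 2, 3, 4] (sel (ones 1755) ip3 75) = true := by decide +kernel

theorem rot3_75r : band (Rule.ok (2 * 1) EX RL ⟨3 :: [6, 2, 2, 3, 4, 3, 6, 2, 2, 3, 4, 3, 6, 2, 2, 3, 4, 3, 6, 2, 2, 3, 4], [], 7, false⟩) (lall (memL L) [6, 2, 2, 3, 4, 3, 6, 2, 2, 3, 4, 3, 6, 2, 2, 3, 4, 3, 6, 2, 2, 3, 4]) = true := by decide +kernel

theorem rot3_76 : T.rot 3 [4, 3, 6, 2, 2, 3, 4, 3, 6, 2, 2, 3, 4, 3, 6, 2, 2, 3, 4, 3, 6, 2, 2] (sel (ones 1755) ip3 76) = true := by decide +kernel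

theorem rot3_76r : band (Rule.ok (2 * 1) EX RL ⟨3 :: [4, 3, 6, 2, 2, 3, 4, 3, 6, 2, 2, 3, 4, 3, 6, 2, 2, 3, 4, 3, 6, 2, 2], [3, 4], 7, false⟩) (lall (memL L) [4, 3, 6, 2, 2, 3, 4, 3, 6, 2, 2, 3, 4, 3, 6, 2, 2, 3, 4, 3, 6, 2, 2]) = true := by decide +kernel

theorem cov3 : T.cover 3 [(sel (ones 1755) ip3 1), (sel (ones 1755) ip3 2), (sel (ones 1755) ip3 3), (sel (ones 1755) ip3 4), (sel (ones 1755) ip3 5), (sel (ones 1755) ip3 6), (sel (ones 1755) ip3 7), (sel (ones 1755) ip3 8), (sel (ones 1755) ip3 9), (sel (ones 1755) ip3 10), (sel (ones 1755) ip3 11), (sel (ones 1755) ip3 12), (sel (ones 1755) ip3 13), (sel (ones 1755) ip3 14), (sel (ones 1755) ip3 15), (sel (ones 1755) ip3 16), (sel (ones 1755) ip3 17), (sel (ones 1755) ip3 18), (sel (ones 1755) ip3 19), (sel (ones 1755) ip3 20), (sel (ones 1755)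 ip3 21), (sel (ones 1755) ip3 22), (sel (ones 1755) ip3 23), (sel (ones 1755) ip3 24), (sel (ones 1755) ip3 25), (sel (ones 1755) ip3 26), (sel (ones 1755) ip3 27), (sel (ones 1755) ip3 28), (sel (ones 1755) ip3 29), (sel (ones 1755) ip3 30), (sel (ones 1755) ip3 31), (sel (ones 1755) ip3 32), (sel (ones 1755) ip3 33), (sel (ones 1755) ip3 34), (sel (ones 1755) ip3 35), (sel (ones 1755) ip3 36), (sel (ones 1755) ip3 37), (sel (ones 1755) ip3 38), (sel (ones 1755) ip3 39), (sel (ones 1755) ip3 40), (sel (ones 1755) ip3 41), (sel (ones 1755) ip3 42), (sel (ones 1755) ip3 43), (sel (ones 1755) ip3 44), (sel (ones 1755) ip3 45), (sel (ones 1755) ip3 46), (sel (ones 1755) ip3 47), (sel (ones 1755) ip3 48), (sel (ones 1755) ip3 49), (sel (ones 1755) ip3 50), (sel (ones 1755) ip3 51), (sel (ones 1755) ip3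 52), (sel (ones 1755) ip3 53), (sel (ones 1755) ip3 54), (sel (ones 1755) ip3 55), (sel (ones 1755) ip3 56), (sel (ones 1755) ip3 57), (sel (ones 1755) ip3 58), (sel (ones 1755) ip3 59), (sel (ones 1755) ip3 60), (sel (ones 1755) ip3 61), (sel (ones 1755) ip3 62), (sel (ones 1755) ip3 63), (sel (ones 1755) ip3 64), (sel (ones 1755) ip3 65), (sel (ones 1755) ip3 66), (sel (ones 1755) ip3 67), (sel (ones 1755) ip3 68), (sel (ones 1755) ip3 69), (sel (ones 1755) ip3 70), (sel (ones 1755) ip3 71), (sel (ones 1755) ip3 72), (sel (ones 1755) ip3 73), (sel (ones 1755) ip3 74), (sel (ones 1755) ip3 75), (sel (ones 1755) ip3 76), 1] = true := by decide +kernel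

theorem tl3 : T.treeLt 11 3 = true := by decide +kernel

theorem rot4_1 : T.rot 4 [2] (sel (ones 1755) ip4 1) = true := by decide +kernel

theorem rot4_1r : band (Rule.ok (2 * 1) EX RL ⟨4 :: [2], [], 18, false⟩) (lall (memL L) [2]) = true := by decide +kernel

theorem rot4_2 : T.rot 4 [4, 1, 7, 1, 2, 5] (sel (ones 1755) ip4 2) = true := by decide +kernel

theorem rot4_2r : band (Rule.ok (2 * 1) EX RL ⟨4 :: [4, 1, 7, 1, 2, 5], [], 18, false⟩) (lall (memL L) [4, 1, 7, 1, 2, 5]) = true := by decide +kernel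

theorem rot4_3 : T.rot 4 [1, 7, 1, 2, 5, 4] (sel (ones 1755) ip4 3) = true := by decide +kernel

theorem rot4_3r : band (Rule.ok (2 * 1) EX RL ⟨4 :: [1, 7, 1, 2, 5, 4], [], 18, false⟩) (lall (memL L) [1, 7, 1, 2, 5, 4]) = true := by decide +kernel

theorem rot4_4 : T.rot 4 [1, 6, 1, 2, 2, 3] (sel (ones 1755) ip4 4) = true := by decide +kernel

theorem rot4_4r : band (Rule.ok (2 * 1) EX RL ⟨4 :: [1, 6, 1, 2, 2, 3], [], 18, false⟩) (lall (memL L) [1, 6, 1, 2, 2, 3]) = true := by decide +kernel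

theorem rot4_5 : T.rot 4 [7, 2, 3, 3, 2, 6, 3, 2, 2, 3] (sel (ones 1755) ip4 5) = true := by decide +kernel

theorem rot4_5r : band (Rule.ok (2 * 1) EX RL ⟨4 :: [7, 2, 3, 3, 2, 6, 3, 2, 2, 3], [0, 3, 4, 2, 2, 0, 3], 13, true⟩) (lall (memL L) [7, 2, 3, 3, 2, 6, 3, 2, 2, 3]) = true := by decide +kernel

theorem rot4_6 : T.rot 4 [4, 5, 7, 4, 5, 5, 4, 6, 2, 5] (sel (ones 1755) ip4 6) = true := by decide +kernel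

theorem rot4_6r : band (Rule.ok (2 * 1) EX RL ⟨4 :: [4, 5, 7, 4, 5, 5, 4, 6, 2, 5], [0, 3, 4, 2, 2, 0, 3, 4], 13, false⟩) (lall (memL L) [4, 5, 7, 4, 5, 5, 4, 6, 2, 5]) = true := by decide +kernel

theorem rot4_7 : T.rot 4 [5, 7, 4, 5, 5, 4, 6, 2, 5, 4] (sel (ones 1755) ip4 7) = true := by decide +kernel

theorem rot4_7r : band (Rule.ok (2 * 1) EX RL ⟨4 :: [5, 7, 4, 5, 5, 4, 6, 2, 5, 4], [0, 3, 4, 2, 2, 0, 3, 4, 2], 13, false⟩) (lall (memL L) [5, 7, 4, 5, 5, 4, 6, 2, 5, 4]) = true := by decide +kernel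

theorem rot4_8 : T.rot 4 [5, 5, 4, 6, 2, 5, 4, 4, 5, 7] (sel (ones 1755) ip4 8) = true := by decide +kernel

theorem rot4_8r : band (Rule.ok (2 * 1) EX RL ⟨4 :: [5, 5, 4, 6, 2, 5, 4, 4, 5, 7], [3, 5, 5, 3], 13, false⟩) (lall (memL L) [5, 5, 4, 6, 2, 5, 4, 4, 5, 7]) = true := by decide +kernel

theorem rot4_9 : T.rot 4 [6, 2, 5, 4, 4, 5, 7, 4, 5, 5] (sel (ones 1755) ip4 9) = true := by decide +kernel

theorem rot4_9r : band (Rule.ok (2 * 1) EX RL ⟨4 :: [6, 2, 5, 4, 4, 5, 7, 4, 5, 5], [3], 13, false⟩) (lall (memL L) [6, 2, 5, 4, 4, 5, 7, 4, 5, 5]) = true := by decide +kernel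

theorem rot4_10 : T.rot 4 [4, 1, 5, 1, 5, 4, 3, 2, 2, 3] (sel (ones 1755) ip4 10) = true := by decide +kernel

theorem rot4_10r : band (Rule.ok (2 * 1) EX RL ⟨4 :: [4, 1, 5, 1, 5, 4, 3, 2, 2, 3], [3, 5], 15, true⟩) (lall (memL L) [4, 1, 5, 1, 5, 4, 3, 2, 2, 3]) = true := by decide +kernel

theorem rot4_11 : T.rot 4 [1, 5, 1, 5, 4, 3, 2, 2, 3, 4] (sel (ones 1755) ip4 11) = true := by decide +kernel

theorem rot4_11r : band (Rule.ok (2 * 1) EX RL ⟨4 :: [1, 5, 1, 5, 4, 3, 2, 2, 3, 4], [3, 5, 2], 15, true⟩) (lall (memL L) [1, 5, 1, 5, 4, 3, 2, 2, 3, 4]) = true := by decide +kernel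

theorem rot4_12 : T.rot 4 [3, 2, 2, 3, 4, 4, 1, 5, 1, 5] (sel (ones 1755) ip4 12) = true := by decide +kernel

theorem rot4_12r : band (Rule.ok (2 * 1) EX RL ⟨4 :: [3, 2, 2, 3, 4, 4, 1, 5, 1, 5], [2, 4, 3], 15, true⟩) (lall (memL L) [3, 2, 2, 3, 4, 4, 1, 5, 1, 5]) = true := by decide +kernel

theorem rot4_13 : T.rot 4 [5, 2, 3, 1, 3, 1, 2, 2, 5, 4] (sel (ones 1755) ip4 13) = true := by decide +kernel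

theorem rot4_13r : band (Rule.ok (2 * 1) EX RL ⟨4 :: [5, 2, 3, 1, 3, 1, 2, 2, 5, 4], [], 15, false⟩) (lall (memL L) [5, 2, 3, 1, 3, 1, 2, 2, 5, 4]) = true := by decide +kernel

theorem rot4_14 : T.rot 4 [4, 5, 2, 3, 1, 3, 1, 2, 2, 5] (sel (ones 1755) ip4 14) = true := by decide +kernel

theorem rot4_14r : band (Rule.ok (2 * 1) EX RL ⟨4 :: [4, 5, 2, 3, 1, 3, 1, 2, 2, 5], [3], 15, false⟩) (lall (memL L) [4, 5, 2, 3, 1, 3, 1, 2, 2, 5]) = true := by decide +kernel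

theorem rot4_15 : T.rot 4 [7, 2, 2, 3, 4, 5, 7, 7, 2, 3, 6, 5] (sel (ones 1755) ip4 15) = true := by decide +kernel

theorem rot4_15r : band (Rule.ok (2 * 1) EX RL ⟨4 :: [7, 2, 2, 3, 4, 5, 7, 7, 2, 3, 6, 5], [3, 5, 0, 3, 4, 2, 2, 0, 4], 14, true⟩) (lall (memL L) [7, 2, 2, 3, 4, 5, 7, 7, 2, 3, 6, 5]) = true := by decide +kernel

theorem rot4_16 : T.rot 4 [5, 7, 7, 2, 3, 6, 5, 4, 7, 2, 2, 3] (sel (ones 1755) ip4 16) = true := by decide +kernel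

theorem rot4_16r : band (Rule.ok (2 * 1) EX RL ⟨4 :: [5, 7, 7, 2, 3, 6, 5, 4, 7, 2, 2, 3], [0, 3, 4, 2, 4, 2, 2, 0, 5, 3], 14, true⟩) (lall (memL L) [5, 7, 7, 2, 3, 6, 5, 4, 7, 2, 2, 3]) = true := by decide +kernel

theorem rot4_17 : T.rot 4 [4, 6, 2, 3, 7, 5, 4, 6, 6, 3, 2, 5] (sel (ones 1755) ip4 17) = true := by decide +kernel

theorem rot4_17r : band (Rule.ok (2 * 1) EX RL ⟨4 :: [4, 6, 2, 3, 7, 5, 4, 6, 6, 3, 2, 5], [0, 3, 4, 2, 4, 2, 2, 0, 5, 3, 4], 14, false⟩) (lall (memL L) [4, 6, 2, 3, 7, 5, 4, 6, 6, 3, 2, 5]) = true := by decide +kernel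

theorem rot4_18 : T.rot 4 [6, 2, 3, 7, 5, 4, 6, 6, 3, 2, 5, 4] (sel (ones 1755) ip4 18) = true := by decide +kernel

theorem rot4_18r : band (Rule.ok (2 * 1) EX RL ⟨4 :: [6, 2, 3, 7, 5, 4, 6, 6, 3, 2, 5, 4], [0, 3, 4, 2, 4, 2, 2, 0, 5, 3, 4, 2], 14, false⟩) (lall (memL L) [6, 2, 3, 7, 5, 4, 6, 6, 3, 2, 5, 4]) = true := by decide +kernel

theorem rot4_19 : T.rot 4 [6, 6, 3, 2, 5, 4, 4, 6, 2, 3, 7, 5] (sel (ones 1755) ip4 19) = true := by decide +kernel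

theorem rot4_19r : band (Rule.ok (2 * 1) EX RL ⟨4 :: [6, 6, 3, 2, 5, 4, 4, 6, 2, 3, 7, 5], [3], 14, false⟩) (lall (memL L) [6, 6, 3, 2, 5, 4, 4, 6, 2, 3, 7, 5]) = true := by decide +kernel

theorem rot4_20 : T.rot 4 [4, 5, 5, 7, 2, 2, 3, 4, 3, 6, 3, 2, 5] (sel (ones 1755) ip4 20) = true := by decide +kernel

theorem rot4_20r : band (Rule.ok (2 * 1) EX RL ⟨4 :: [4, 5, 5, 7, 2, 2, 3, 4, 3, 6, 3, 2, 5], [5, 3, 4], 9, true⟩) (lall (memL L) [4, 5, 5, 7, 2, 2, 3, 4, 3, 6, 3, 2, 5]) = true := by decide +kernel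

theorem rot4_21 : T.rot 4 [5, 5, 7, 2, 2, 3, 4, 3, 6, 3, 2, 5, 4] (sel (ones 1755) ip4 21) = true := by decide +kernel

theorem rot4_21r : band (Rule.ok (2 * 1) EX RL ⟨4 :: [5, 5, 7, 2, 2, 3, 4, 3, 6, 3, 2, 5, 4], [5, 3, 4, 2], 9, true⟩) (lall (memL L) [5, 5, 7, 2, 2, 3, 4, 3, 6, 3, 2, 5, 4]) = true := by decide +kernel

theorem rot4_22 : T.rot 4 [3, 6, 3, 2, 5, 4, 4, 5, 5, 7, 2, 2, 3] (sel (ones 1755) ip4 22) = true := by decide +kernel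

theorem rot4_22r : band (Rule.ok (2 * 1) EX RL ⟨4 :: [3, 6, 3, 2, 5, 4, 4, 5, 5, 7, 2, 2, 3], [0, 3, 3, 5, 2, 0, 4, 3], 9, true⟩) (lall (memL L) [3, 6, 3, 2, 5, 4, 4, 5, 5, 7, 2, 2, 3]) = true := by decide +kernel

theorem rot4_23 : T.rot 4 [4, 6, 3, 3, 2, 2, 3, 4, 5, 7, 5, 2, 5] (sel (ones 1755) ip4 23) = true := by decide +kernel

theorem rot4_23r : band (Rule.ok (2 * 1) EX RL ⟨4 :: [4, 6, 3, 3, 2, 2, 3, 4, 5, 7, 5, 2, 5], [0, 3, 3, 5, 2, 0, 4, 3, 4], 9, false⟩) (lall (memL L) [4, 6, 3, 3, 2, 2, 3, 4, 5, 7, 5, 2, 5]) = true := by decide +kernel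

theorem rot4_24 : T.rot 4 [6, 3, 3, 2, 2, 3, 4, 5, 7, 5, 2, 5, 4] (sel (ones 1755) ip4 24) = true := by decide +kernel

theorem rot4_24r : band (Rule.ok (2 * 1) EX RL ⟨4 :: [6, 3, 3, 2, 2, 3, 4, 5, 7, 5, 2, 5, 4], [0, 3, 3, 5, 2, 0, 4, 3, 4, 2], 9, false⟩) (lall (memL L) [6, 3, 3, 2, 2, 3, 4, 5, 7, 5, 2, 5, 4]) = true := by decide +kernel

theorem rot4_25 : T.rot 4 [5, 7, 5, 2, 5, 4, 4, 6, 3, 3, 2, 2, 3] (sel (ones 1755) ip4 25) = true := by decide +kernel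

theorem rot4_25r : band (Rule.ok (2 * 1) EX RL ⟨4 :: [5, 7, 5, 2, 5, 4, 4, 6, 3, 3, 2, 2, 3], [5, 3], 9, false⟩) (lall (memL L) [5, 7, 5, 2, 5, 4, 4, 6, 3, 3, 2, 2, 3]) = true := by decide +kernel

theorem rot4_26 : T.rot 4 [4, 5, 7, 3, 2, 2, 3, 4, 2, 6, 4, 2, 5] (sel (ones 1755) ip4 26) = true := by decide +kernel

theorem rot4_26r : band (Rule.ok (2 * 1) EX RL ⟨4 :: [4, 5, 7, 3, 2, 2, 3, 4, 2, 6, 4, 2, 5], [3, 0, 3, 4, 2, 2, 0, 4], 12, true⟩) (lall (memL L) [4, 5, 7, 3, 2, 2, 3, 4, 2, 6, 4, 2, 5]) = true := by decide +kernel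

theorem rot4_27 : T.rot 4 [5, 7, 3, 2, 2, 3, 4, 2, 6, 4, 2, 5, 4] (sel (ones 1755) ip4 27) = true := by decide +kernel

theorem rot4_27r : band (Rule.ok (2 * 1) EX RL ⟨4 :: [5, 7, 3, 2, 2, 3, 4, 2, 6, 4, 2, 5, 4], [3, 0, 3, 4, 2, 2, 0, 4, 2], 12, true⟩) (lall (memL L) [5, 7, 3, 2, 2, 3, 4, 2, 6, 4, 2, 5, 4]) = true := by decide +kernel

theorem rot4_28 : T.rot 4 [4, 5, 6, 3, 2, 2, 3, 4, 2, 7, 4, 2, 5] (sel (ones 1755) ip4 28) = true := by decide +kernel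

theorem rot4_28r : band (Rule.ok (2 * 1) EX RL ⟨4 :: [4, 5, 6, 3, 2, 2, 3, 4, 2, 7, 4, 2, 5], [3, 4], 12, false⟩) (lall (memL L) [4, 5, 6, 3, 2, 2, 3, 4, 2, 7, 4, 2, 5]) = true := by decide +kernel

theorem rot4_29 : T.rot 4 [5, 6, 3, 2, 2, 3, 4, 2, 7, 4, 2, 5, 4] (sel (ones 1755) ip4 29) = true := by decide +kernel

theorem rot4_29r : band (Rule.ok (2 * 1) EX RL ⟨4 :: [5, 6, 3, 2, 2, 3, 4, 2, 7, 4, 2, 5, 4], [3, 4, 2], 12, false⟩) (lall (memL L) [5, 6, 3, 2, 2, 3, 4, 2, 7, 4, 2, 5, 4]) = true := by decide +kernel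

theorem rot4_30 : T.rot 4 [4, 5, 7, 2, 2, 3, 4, 7, 5, 6, 3, 3, 6, 2, 5] (sel (ones 1755) ip4 30) = true := by decide +kernel

theorem rot4_30r : band (Rule.ok (2 * 1) EX RL ⟨4 :: [4, 5, 7, 2, 2, 3, 4, 7, 5, 6, 3, 3, 6, 2, 5], [3, 4], 1, true⟩) (lall (memL L) [4, 5, 7, 2, 2, 3, 4, 7, 5, 6, 3, 3, 6, 2, 5]) = true := by decide +kernel

theorem rot4_31 : T.rot 4 [5, 7, 2, 2, 3, 4, 7, 5, 6, 3, 3, 6, 2, 5, 4] (sel (ones 1755) ip4 31) = true := by decide +kernel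

theorem rot4_31r : band (Rule.ok (2 * 1) EX RL ⟨4 :: [5, 7, 2, 2, 3, 4, 7, 5, 6, 3, 3, 6, 2, 5, 4], [3, 4, 2], 1, true⟩) (lall (memL L) [5, 7, 2, 2, 3, 4, 7, 5, 6, 3, 3, 6, 2, 5, 4]) = true := by decide +kernel

theorem rot4_32 : T.rot 4 [7, 5, 6, 3, 3, 6, 2, 5, 4, 4, 5, 7, 2, 2, 3] (sel (ones 1755) ip4 32) = true := by decide +kernel

theorem rot4_32r : band (Rule.ok (2 * 1) EX RL ⟨4 :: [7, 5, 6, 3, 3, 6, 2, 5, 4, 4, 5, 7, 2, 2, 3], [3, 4, 2, 2, 4, 0, 3, 3, 5, 2, 0, 3, 3, 5], 1, true⟩) (lall (memL L) [7, 5, 6, 3, 3, 6, 2, 5, 4, 4, 5, 7, 2, 2, 3]) = true := by decide +kernel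

theorem rot4_33 : T.rot 4 [4, 6, 3, 2, 2, 3, 4, 7, 5, 5, 7, 3, 6, 2, 5] (sel (ones 1755) ip4 33) = true := by decide +kernel

theorem rot4_33r : band (Rule.ok (2 * 1) EX RL ⟨4 :: [4, 6, 3, 2, 2, 3, 4, 7, 5, 5, 7, 3, 6, 2, 5], [3, 4, 2, 2, 4, 0, 3, 3, 5, 2, 0, 3, 3], 1, false⟩) (lall (memL L) [4, 6, 3, 2, 2, 3, 4, 7, 5, 5, 7, 3, 6, 2, 5]) = true := by decide +kernel

theorem rot4_34 : T.rot 4 [6, 3, 2, 2, 3, 4, 7, 5, 5, 7, 3, 6, 2, 5, 4] (sel (ones 1755) ip4 34) = true := by decide +kernel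

theorem rot4_34r : band (Rule.ok (2 * 1) EX RL ⟨4 :: [6, 3, 2, 2, 3, 4, 7, 5, 5, 7, 3, 6, 2, 5, 4], [3, 4, 2, 2, 4, 0, 3, 3, 5, 2, 0, 3], 1, false⟩) (lall (memL L) [6, 3, 2, 2, 3, 4, 7, 5, 5, 7, 3, 6, 2, 5, 4]) = true := by decide +kernel

theorem rot4_35 : T.rot 4 [7, 5, 5, 7, 3, 6, 2, 5, 4, 4, 6, 3, 2, 2, 3] (sel (ones 1755) ip4 35) = true := by decide +kernel

theorem rot4_35r : band (Rule.ok (2 * 1) EX RL ⟨4 :: [7, 5, 5, 7, 3, 6, 2, 5, 4, 4, 6, 3, 2, 2, 3], [3], 1, false⟩) (lall (memL L) [7, 5, 5, 7, 3, 6, 2, 5, 4, 4, 6, 3, 2, 2, 3]) = true := by decide +kernel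

theorem rot4_36 : T.rot 4 [4, 5, 7, 5, 7, 2, 2, 3, 4, 5, 7, 5, 7, 2, 5] (sel (ones 1755) ip4 36) = true := by decide +kernel

theorem rot4_36r : band (Rule.ok (2 * 1) EX RL ⟨4 :: [4, 5, 7, 5, 7, 2, 2, 3, 4, 5, 7, 5, 7, 2, 5], [4, 0, 3, 3, 5, 2, 0, 3, 4], 3, true⟩) (lall (memL L) [4, 5, 7, 5, 7, 2, 2, 3, 4, 5, 7, 5, 7, 2, 5]) = true := by decide +kernel

theorem rot4_37 : T.rot 4 [5, 7, 5, 7, 2, 5, 4, 4, 5, 7, 5, 7, 2, 2, 3] (sel (ones 1755) ip4 37) = true := by decide +kernel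

theorem rot4_37r : band (Rule.ok (2 * 1) EX RL ⟨4 :: [5, 7, 5, 7, 2, 5, 4, 4, 5, 7, 5, 7, 2, 2, 3], [0, 3, 4, 2, 2, 0, 5, 3], 3, true⟩) (lall (memL L) [5, 7, 5, 7, 2, 5, 4, 4, 5, 7, 5, 7, 2, 2, 3]) = true := by decide +kernel

theorem rot4_38 : T.rot 4 [4, 6, 3, 6, 3, 2, 2, 3, 4, 6, 3, 6, 3, 2, 5] (sel (ones 1755) ip4 38) = true := by decide +kernel

theorem rot4_38r : band (Rule.ok (2 * 1) EX RL ⟨4 :: [4, 6, 3, 6, 3, 2, 2, 3, 4, 6, 3, 6, 3, 2, 5], [0, 3, 4, 2, 2, 0, 5, 3, 4], 3, false⟩) (lall (memL L) [4, 6, 3, 6, 3, 2, 2, 3, 4, 6, 3, 6, 3, 2, 5]) = true := by decide +kernel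

theorem rot4_39 : T.rot 4 [6, 3, 6, 3, 2, 5, 4, 4, 6, 3, 6, 3, 2, 2, 3] (sel (ones 1755) ip4 39) = true := by decide +kernel

theorem rot4_39r : band (Rule.ok (2 * 1) EX RL ⟨4 :: [6, 3, 6, 3, 2, 5, 4, 4, 6, 3, 6, 3, 2, 2, 3], [4, 0, 3, 3, 5, 2, 0, 3], 3, false⟩) (lall (memL L) [6, 3, 6, 3, 2, 5, 4, 4, 6, 3, 6, 3, 2, 2, 3]) = true := by decide +kernel

theorem rot4_40 : T.rot 4 [4, 2, 5, 4, 4, 5, 7, 3, 6, 5, 7, 7, 5, 2, 5] (sel (ones 1755) ip4 40) = true := by decide +kernel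

theorem rot4_40r : band (Rule.ok (2 * 1) EX RL ⟨4 :: [4, 2, 5, 4, 4, 5, 7, 3, 6, 5, 7, 7, 5, 2, 5], [3, 4], 4, true⟩) (lall (memL L) [4, 2, 5, 4, 4, 5, 7, 3, 6, 5, 7, 7, 5, 2, 5]) = true := by decide +kernel

theorem rot4_41 : T.rot 4 [4, 5, 7, 3, 6, 5, 7, 7, 5, 2, 5, 4, 4, 2, 5] (sel (ones 1755) ip4 41) = true := by decide +kernel

theorem rot4_41r : band (Rule.ok (2 * 1) EX RL ⟨4 :: [4, 5, 7, 3, 6, 5, 7, 7, 5, 2, 5, 4, 4, 2, 5], [3, 4, 2, 4], 4, true⟩) (lall (memL L) [4, 5, 7, 3, 6, 5, 7, 7, 5, 2, 5, 4, 4, 2, 5]) = true := by decide +kernel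

theorem rot4_42 : T.rot 4 [5, 7, 3, 6, 5, 7, 7, 5, 2, 5, 4, 4, 2, 5, 4] (sel (ones 1755) ip4 42) = true := by decide +kernel

theorem rot4_42r : band (Rule.ok (2 * 1) EX RL ⟨4 :: [5, 7, 3, 6, 5, 7, 7, 5, 2, 5, 4, 4, 2, 5, 4], [3, 4, 2, 4, 2], 4, true⟩) (lall (memL L) [5, 7, 3, 6, 5, 7, 7, 5, 2, 5, 4, 4, 2, 5, 4]) = true := by decide +kernel

theorem rot4_43 : T.rot 4 [3, 6, 6, 3, 7, 5, 6, 3, 2, 2, 3, 4, 2, 2, 3] (sel (ones 1755) ip4 43) = true := by decide +kernel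

theorem rot4_43r : band (Rule.ok (2 * 1) EX RL ⟨4 :: [3, 6, 6, 3, 7, 5, 6, 3, 2, 2, 3, 4, 2, 2, 3], [3], 4, false⟩) (lall (memL L) [3, 6, 6, 3, 7, 5, 6, 3, 2, 2, 3, 4, 2, 2, 3]) = true := by decide +kernel

theorem rot4_44 : T.rot 4 [4, 2, 5, 4, 4, 2, 5, 4, 4, 2, 5, 4, 4, 2, 5] (sel (ones 1755) ip4 44) = true := by decide +kernel

theorem rot4_44r : band (Rule.ok (2 * 1) EX RL ⟨4 :: [4, 2, 5, 4, 4, 2, 5, 4, 4, 2, 5, 4, 4, 2, 5], [3, 3], 5, true⟩) (lall (memL L) [4, 2, 5, 4, 4, 2, 5, 4, 4, 2, 5, 4, 4, 2, 5]) = true := by decide +kernel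

theorem rot4_45 : T.rot 4 [4, 6, 5, 3, 6, 6, 3, 3, 6, 2, 2, 3, 4, 3, 3, 2, 5] (sel (ones 1755) ip4 45) = true := by decide +kernel

theorem rot4_45r : band (Rule.ok (2 * 1) EX RL ⟨4 :: [4, 6, 5, 3, 6, 6, 3, 3, 6, 2, 2, 3, 4, 3, 3, 2, 5], [5, 5, 3, 4], 10, true⟩) (lall (memL L) [4, 6, 5, 3, 6, 6, 3, 3, 6, 2, 2, 3, 4, 3, 3, 2, 5]) = true := by decide +kernel

theorem rot4_46 : T.rot 4 [6, 5, 3, 6, 6, 3, 3, 6, 2, 2, 3, 4, 3, 3, 2, 5, 4] (sel (ones 1755) ip4 46) = true := by decide +kernel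

theorem rot4_46r : band (Rule.ok (2 * 1) EX RL ⟨4 :: [6, 5, 3, 6, 6, 3, 3, 6, 2, 2, 3, 4, 3, 3, 2, 5, 4], [5, 5, 3, 4, 2], 10, true⟩) (lall (memL L) [6, 5, 3, 6, 6, 3, 3, 6, 2, 2, 3, 4, 3, 3, 2, 5, 4]) = true := by decide +kernel

theorem rot4_47 : T.rot 4 [3, 3, 2, 5, 4, 4, 6, 5, 3, 6, 6, 3, 3, 6, 2, 2, 3] (sel (ones 1755) ip4 47) = true := by decide +kernel

theorem rot4_47r : band (Rule.ok (2 * 1) EX RL ⟨4 :: [3, 3, 2, 5, 4, 4, 6, 5, 3, 6, 6, 3, 3, 6, 2, 2, 3], [3], 10, true⟩) (lall (memL L) [3, 3, 2, 5, 4, 4, 6, 5, 3, 6, 6, 3, 3, 6, 2, 2, 3]) = true := by decide +kernel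

theorem rot4_48 : T.rot 4 [4, 7, 5, 5, 7, 7, 5, 3, 7, 2, 2, 3, 4, 5, 5, 2, 5] (sel (ones 1755) ip4 48) = true := by decide +kernel

theorem rot4_48r : band (Rule.ok (2 * 1) EX RL ⟨4 :: [4, 7, 5, 5, 7, 7, 5, 3, 7, 2, 2, 3, 4, 5, 5, 2, 5], [3, 4], 10, false⟩) (lall (memL L) [4, 7, 5, 5, 7, 7, 5, 3, 7, 2, 2, 3, 4, 5, 5, 2, 5]) = true := by decide +kernel

theorem rot4_49 : T.rot 4 [7, 5, 5, 7, 7, 5, 3, 7, 2, 2, 3, 4, 5, 5, 2, 5, 4] (sel (ones 1755) ip4 49) = true := by decide +kernel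

theorem rot4_49r : band (Rule.ok (2 * 1) EX RL ⟨4 :: [7, 5, 5, 7, 7, 5, 3, 7, 2, 2, 3, 4, 5, 5, 2, 5, 4], [3, 4, 2], 10, false⟩) (lall (memL L) [7, 5, 5, 7, 7, 5, 3, 7, 2, 2, 3, 4, 5, 5, 2, 5, 4]) = true := by decide +kernel

theorem rot4_50 : T.rot 4 [5, 5, 2, 5, 4, 4, 7, 5, 5, 7, 7, 5, 3, 7, 2, 2, 3] (sel (ones 1755) ip4 50) = true := by decide +kernel

theorem rot4_50r : band (Rule.ok (2 * 1) EX RL ⟨4 :: [5, 5, 2, 5, 4, 4, 7, 5, 5, 7, 7, 5, 3, 7, 2, 2, 3], [5, 5, 3], 10, false⟩) (lall (memL L) [5, 5, 2, 5, 4, 4, 7, 5, 5, 7, 7, 5, 3, 7, 2, 2, 3]) = true := by decide +kernel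

theorem rot4_51 : T.rot 4 [4, 5, 4, 1, 2, 3, 7, 4, 6, 2, 5, 4, 1, 2, 3, 2, 2, 1] (sel (ones 1755) ip4 51) = true := by decide +kernel

theorem rot4_51r : band (Rule.ok (2 * 1) EX RL ⟨4 :: [4, 5, 4, 1, 2, 3, 7, 4, 6, 2, 5, 4, 1, 2, 3, 2, 2, 1], [0, 3, 5, 3, 3, 0], 17, true⟩) (lall (memL L) [4, 5, 4, 1, 2, 3, 7, 4, 6, 2, 5, 4, 1, 2, 3, 2, 2, 1]) = true := by decide +kernel

theorem rot4_52 : T.rot 4 [5, 4, 1, 2, 3, 7, 4, 6, 2, 5, 4, 1, 2, 3, 2, 2, 1, 4] (sel (ones 1755) ip4 52) = true := by decide +kernel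

theorem rot4_52r : band (Rule.ok (2 * 1) EX RL ⟨4 :: [5, 4, 1, 2, 3, 7, 4, 6, 2, 5, 4, 1, 2, 3, 2, 2, 1, 4], [0, 3, 5, 3, 3, 0, 2], 17, true⟩) (lall (memL L) [5, 4, 1, 2, 3, 7, 4, 6, 2, 5, 4, 1, 2, 3, 2, 2, 1, 4]) = true := by decide +kernel

theorem rot4_53 : T.rot 4 [1, 2, 3, 7, 4, 6, 2, 5, 4, 1, 2, 3, 2, 2, 1, 4, 4, 5] (sel (ones 1755) ip4 53) = true := by decide +kernel

theorem rot4_53r : band (Rule.ok (2 * 1) EX RL ⟨4 :: [1, 2, 3, 7, 4, 6, 2, 5, 4, 1, 2, 3, 2, 2, 1, 4, 4, 5], [0, 3, 5, 3, 3, 0, 2, 2, 4], 17, true⟩) (lall (memL L) [1, 2, 3, 7, 4, 6, 2, 5, 4, 1, 2, 3, 2, 2, 1, 4, 4, 5]) = true := by decide +kernel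

theorem rot4_54 : T.rot 4 [6, 2, 5, 4, 1, 2, 3, 2, 2, 1, 4, 4, 5, 4, 1, 2, 3, 7] (sel (ones 1755) ip4 54) = true := by decide +kernel

theorem rot4_54r : band (Rule.ok (2 * 1) EX RL ⟨4 :: [6, 2, 5, 4, 1, 2, 3, 2, 2, 1, 4, 4, 5, 4, 1, 2, 3, 7], [3, 5, 2, 0, 3, 3, 5, 2, 0, 3], 17, true⟩) (lall (memL L) [6, 2, 5, 4, 1, 2, 3, 2, 2, 1, 4, 4, 5, 4, 1, 2, 3, 7]) = true := by decide +kernel

theorem rot4_55 : T.rot 4 [1, 2, 3, 2, 2, 1, 4, 4, 5, 4, 1, 2, 3, 7, 4, 6, 2, 5] (sel (ones 1755) ip4 55) = true := by decide +kernel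

theorem rot4_55r : band (Rule.ok (2 * 1) EX RL ⟨4 :: [1, 2, 3, 2, 2, 1, 4, 4, 5, 4, 1, 2, 3, 7, 4, 6, 2, 5], [3], 17, true⟩) (lall (memL L) [1, 2, 3, 2, 2, 1, 4, 4, 5, 4, 1, 2, 3, 7, 4, 6, 2, 5]) = true := by decide +kernel

theorem rot4_56 : T.rot 4 [7, 2, 6, 5, 4, 1, 2, 3, 2, 2, 1, 4, 4, 5, 4, 1, 2, 3] (sel (ones 1755) ip4 56) = true := by decide +kernel

theorem rot4_56r : band (Rule.ok (2 * 1) EX RL ⟨4 :: [7, 2, 6, 5, 4, 1, 2, 3, 2, 2, 1, 4, 4, 5, 4, 1, 2, 3], [3, 5], 17, false⟩) (lall (memL L) [7, 2, 6, 5, 4, 1, 2, 3, 2, 2, 1, 4, 4, 5, 4, 1, 2, 3]) = true := by decide +kernel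

theorem rot4_57 : T.rot 4 [4, 5, 4, 1, 2, 3, 4, 7, 2, 6, 5, 4, 1, 2, 3, 2, 2, 1] (sel (ones 1755) ip4 57) = true := by decide +kernel

theorem rot4_57r : band (Rule.ok (2 * 1) EX RL ⟨4 :: [4, 5, 4, 1, 2, 3, 4, 7, 2, 6, 5, 4, 1, 2, 3, 2, 2, 1], [0, 3, 5, 3, 3], 17, false⟩) (lall (memL L) [4, 5, 4, 1, 2, 3, 4, 7, 2, 6, 5, 4, 1, 2, 3, 2, 2, 1]) = true := by decide +kernel

theorem rot4_58 : T.rot 4 [5, 4, 1, 2, 3, 4, 7, 2, 6, 5, 4, 1, 2, 3, 2, 2, 1, 4] (sel (ones 1755) ip4 58) = true := by decide +kernel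

theorem rot4_58r : band (Rule.ok (2 * 1) EX RL ⟨4 :: [5, 4, 1, 2, 3, 4, 7, 2, 6, 5, 4, 1, 2, 3, 2, 2, 1, 4], [0, 3, 5, 3], 17, false⟩) (lall (memL L) [5, 4, 1, 2, 3, 4, 7, 2, 6, 5, 4, 1, 2, 3, 2, 2, 1, 4]) = true := by decide +kernel

theorem rot4_59 : T.rot 4 [1, 2, 3, 4, 7, 2, 6, 5, 4, 1, 2, 3, 2, 2, 1, 4, 4, 5] (sel (ones 1755) ip4 59) = true := by decide +kernel

theorem rot4_59r : band (Rule.ok (2 * 1) EX RL ⟨4 :: [1, 2, 3, 4, 7, 2, 6, 5, 4, 1, 2, 3, 2, 2, 1, 4, 4, 5], [0, 3], 17, false⟩) (lall (memL L) [1, 2, 3, 4, 7, 2, 6, 5, 4, 1, 2, 3, 2, 2, 1, 4, 4, 5]) = true := by decide +kernel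

theorem rot4_60 : T.rot 4 [1, 4, 4, 1, 5, 2, 5, 1, 4, 1, 4, 1, 2, 3, 1, 2, 1, 2, 1, 3] (sel (ones 1755) ip4 60) = true := by decide +kernel

theorem rot4_60r : band (Rule.ok (2 * 1) EX RL ⟨4 :: [1, 4, 4, 1, 5, 2, 5, 1, 4, 1, 4, 1, 2, 3, 1, 2, 1, 2, 1, 3], [0, 3, 0, 3, 0, 5], 16, true⟩) (lall (memL L) [1, 4, 4, 1, 5, 2, 5, 1, 4, 1, 4, 1, 2, 3, 1, 2, 1, 2, 1, 3]) = true := by decide +kernel

theorem rot4_61 : T.rot 4 [4, 1, 5, 2, 5, 1, 4, 1, 4, 1, 2, 3, 1, 2, 1, 2, 1, 3, 4, 1] (sel (ones 1755) ip4 61) = true := by decide +kernel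

theorem rot4_61r : band (Rule.ok (2 * 1) EX RL ⟨4 :: [4, 1, 5, 2, 5, 1, 4, 1, 4, 1, 2, 3, 1, 2, 1, 2, 1, 3, 4, 1], [0, 3, 0, 3, 0, 5, 2, 0], 16, true⟩) (lall (memL L) [4, 1, 5, 2, 5, 1, 4, 1, 4, 1, 2, 3, 1, 2, 1, 2, 1, 3, 4, 1]) = true := by decide +kernel

theorem rot4_62 : T.rot 4 [1, 5, 2, 5, 1, 4, 1, 4, 1, 2, 3, 1, 2, 1, 2, 1, 3, 4, 1, 4] (sel (ones 1755) ip4 62) = true := by decide +kernel

theorem rot4_62r : band (Rule.ok (2 * 1) EX RL ⟨4 :: [1, 5, 2, 5, 1, 4, 1, 4, 1, 2, 3, 1, 2, 1, 2, 1, 3, 4, 1, 4], [0, 3, 0, 3, 0, 5, 2, 0, 2], 16, true⟩) (lall (memL L) [1, 5, 2, 5, 1, 4, 1, 4, 1, 2, 3, 1, 2, 1, 2, 1, 3, 4, 1, 4]) = true := by decide +kernel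

theorem rot4_63 : T.rot 4 [1, 4, 1, 2, 3, 1, 2, 1, 2, 1, 3, 4, 1, 4, 4, 1, 5, 2, 5, 1] (sel (ones 1755) ip4 63) = true := by decide +kernel

theorem rot4_63r : band (Rule.ok (2 * 1) EX RL ⟨4 :: [1, 4, 1, 2, 3, 1, 2, 1, 2, 1, 3, 4, 1, 4, 4, 1, 5, 2, 5, 1], [4, 2, 0, 3, 0, 3], 16, true⟩) (lall (memL L) [1, 4, 1, 2, 3, 1, 2, 1, 2, 1, 3, 4, 1, 4, 4, 1, 5, 2, 5, 1]) = true := by decide +kernel

theorem rot4_64 : T.rot 4 [1, 2, 3, 1, 2, 1, 2, 1, 3, 4, 1, 4, 4, 1, 5, 2, 5, 1, 4, 1] (sel (ones 1755) ip4 64) = true := by decide +kernel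

theorem rot4_64r : band (Rule.ok (2 * 1) EX RL ⟨4 :: [1, 2, 3, 1, 2, 1, 2, 1, 3, 4, 1, 4, 4, 1, 5, 2, 5, 1, 4, 1], [4, 2, 0, 3], 16, true⟩) (lall (memL L) [1, 2, 3, 1, 2, 1, 2, 1, 3, 4, 1, 4, 4, 1, 5, 2, 5, 1, 4, 1]) = true := by decide +kernel

theorem rot4_65 : T.rot 4 [1, 2, 1, 2, 1, 3, 4, 3, 1, 2, 2, 1, 2, 5, 1, 4, 1, 4, 1, 5] (sel (ones 1755) ip4 65) = true := by decide +kernel

theorem rot4_65r : band (Rule.ok (2 * 1) EX RL ⟨4 :: [1, 2, 1, 2, 1, 3, 4, 3, 1, 2, 2, 1, 2, 5, 1, 4, 1, 4, 1, 5], [4], 16, false⟩) (lall (memL L) [1, 2, 1, 2, 1, 3, 4, 3, 1, 2, 2, 1, 2, 5, 1, 4, 1, 4, 1, 5]) = true := by decide +kernel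

theorem rot4_66 : T.rot 4 [3, 1, 2, 2, 1, 2, 5, 1, 4, 1, 4, 1, 5, 4, 1, 2, 1, 2, 1, 3] (sel (ones 1755) ip4 66) = true := by decide +kernel

theorem rot4_66r : band (Rule.ok (2 * 1) EX RL ⟨4 :: [3, 1, 2, 2, 1, 2, 5, 1, 4, 1, 4, 1, 5, 4, 1, 2, 1, 2, 1, 3], [4, 2, 0, 3, 0, 3, 0, 5], 16, false⟩) (lall (memL L) [3, 1, 2, 2, 1, 2, 5, 1, 4, 1, 4, 1, 5, 4, 1, 2, 1, 2, 1, 3]) = true := by decide +kernel

theorem rot4_67 : T.rot 4 [1, 4, 1, 5, 4, 1, 2, 1, 2, 1, 3, 4, 3, 1, 2, 2, 1, 2, 5, 1] (sel (ones 1755) ip4 67) = true := by decide +kernel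

theorem rot4_67r : band (Rule.ok (2 * 1) EX RL ⟨4 :: [1, 4, 1, 5, 4, 1, 2, 1, 2, 1, 3, 4, 3, 1, 2, 2, 1, 2, 5, 1], [0, 3, 0, 3], 16, false⟩) (lall (memL L) [1, 4, 1, 5, 4, 1, 2, 1, 2, 1, 3, 4, 3, 1, 2, 2, 1, 2, 5, 1]) = true := by decide +kernel

theorem rot4_68 : T.rot 4 [1, 5, 4, 1, 2, 1, 2, 1, 3, 4, 3, 1, 2, 2, 1, 2, 5, 1, 4, 1] (sel (ones 1755) ip4 68) = true := by decide +kernel

theorem rot4_68r : band (Rule.ok (2 * 1) EX RL ⟨4 :: [1, 5, 4, 1, 2, 1, 2, 1, 3, 4, 3, 1, 2, 2, 1, 2, 5, 1, 4, 1], [0, 3], 16, false⟩) (lall (memL L) [1, 5, 4, 1, 2, 1, 2, 1, 3, 4, 3, 1, 2, 2, 1, 2, 5, 1, 4, 1]) = true := by decide +kernel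

theorem rot4_69 : T.rot 4 [4, 2, 5, 4, 4, 7, 5, 2, 5, 4, 4, 7, 5, 7, 5, 2, 5, 4, 4, 7, 5, 2, 5] (sel (ones 1755) ip4 69) = true := by decide +kernel

theorem rot4_69r : band (Rule.ok (2 * 1) EX RL ⟨4 :: [4, 2, 5, 4, 4, 7, 5, 2, 5, 4, 4, 7, 5, 7, 5, 2, 5, 4, 4, 7, 5, 2, 5], [3, 4], 6, true⟩) (lall (memL L) [4, 2, 5, 4, 4, 7, 5, 2, 5, 4, 4, 7, 5, 7, 5, 2, 5, 4, 4, 7, 5, 2, 5]) = true := by decide +kernel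

theorem rot4_70 : T.rot 4 [4, 7, 5, 2, 5, 4, 4, 7, 5, 7, 5, 2, 5, 4, 4, 7, 5, 2, 5, 4, 4, 2, 5] (sel (ones 1755) ip4 70) = true := by decide +kernel

theorem rot4_70r : band (Rule.ok (2 * 1) EX RL ⟨4 :: [4, 7, 5, 2, 5, 4, 4, 7, 5, 7, 5, 2, 5, 4, 4, 7, 5, 2, 5, 4, 4, 2, 5], [3, 4, 2, 4], 6, true⟩) (lall (memL L) [4, 7, 5, 2, 5, 4, 4, 7, 5, 7, 5, 2, 5, 4, 4, 7, 5, 2, 5, 4, 4, 2, 5]) = true := by decide +kernel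

theorem rot4_71 : T.rot 4 [7, 5, 2, 5, 4, 4, 7, 5, 7, 5, 2, 5, 4, 4, 7, 5, 2, 5, 4, 4, 2, 5, 4] (sel (ones 1755) ip4 71) = true := by decide +kernel

theorem rot4_71r : band (Rule.ok (2 * 1) EX RL ⟨4 :: [7, 5, 2, 5, 4, 4, 7, 5, 7, 5, 2, 5, 4, 4, 7, 5, 2, 5, 4, 4, 2, 5, 4], [3, 4, 2, 4, 2], 6, true⟩) (lall (memL L) [7, 5, 2, 5, 4, 4, 7, 5, 7, 5, 2, 5, 4, 4, 7, 5, 2, 5, 4, 4, 2, 5, 4]) = true := by decide +kernel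

theorem rot4_72 : T.rot 4 [4, 7, 5, 7, 5, 2, 5, 4, 4, 7, 5, 2, 5, 4, 4, 2, 5, 4, 4, 7, 5, 2, 5] (sel (ones 1755) ip4 72) = true := by decide +kernel

theorem rot4_72r : band (Rule.ok (2 * 1) EX RL ⟨4 :: [4, 7, 5, 7, 5, 2, 5, 4, 4, 7, 5, 2, 5, 4, 4, 2, 5, 4, 4, 7, 5, 2, 5], [3, 4, 2, 4, 2, 2, 0, 3, 3, 5, 2, 0, 4, 3, 4], 6, true⟩) (lall (memL L) [4, 7, 5, 7, 5, 2, 5, 4, 4, 7, 5, 2, 5, 4, 4, 2, 5, 4, 4, 7, 5, 2, 5]) = true := by decide +kernel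

theorem rot4_73 : T.rot 4 [7, 5, 7, 5, 2, 5, 4, 4, 7, 5, 2, 5, 4, 4, 2, 5, 4, 4, 7, 5, 2, 5, 4] (sel (ones 1755) ip4 73) = true := by decide +kernel

theorem rot4_73r : band (Rule.ok (2 * 1) EX RL ⟨4 :: [7, 5, 7, 5, 2, 5, 4, 4, 7, 5, 2, 5, 4, 4, 2, 5, 4, 4, 7, 5, 2, 5, 4], [3, 4, 2, 4, 2, 2, 0, 3, 3, 5, 2, 0, 4, 3, 4, 2], 6, true⟩) (lall (memL L) [7, 5, 7, 5, 2, 5, 4, 4, 7, 5, 2, 5, 4, 4, 2, 5, 4, 4, 7, 5, 2, 5, 4]) = true := by decide +kernel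

theorem rot4_74 : T.rot 4 [4, 7, 5, 2, 5, 4, 4, 2, 5, 4, 4, 7, 5, 2, 5, 4, 4, 7, 5, 7, 5, 2, 5] (sel (ones 1755) ip4 74) = true := by decide +kernel

theorem rot4_74r : band (Rule.ok (2 * 1) EX RL ⟨4 :: [4, 7, 5, 2, 5, 4, 4, 2, 5, 4, 4, 7, 5, 2, 5, 4, 4, 7, 5, 7, 5, 2, 5], [5, 0, 3, 4, 2, 2, 0, 3, 3], 6, true⟩) (lall (memL L) [4, 7, 5, 2, 5, 4, 4, 2, 5, 4, 4, 7, 5, 2, 5, 4, 4, 7, 5, 7, 5, 2, 5]) = true := by decide +kernel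

theorem rot4_75 : T.rot 4 [7, 5, 2, 5, 4, 4, 2, 5, 4, 4, 7, 5, 2, 5, 4, 4, 7, 5, 7, 5, 2, 5, 4] (sel (ones 1755) ip4 75) = true := by decide +kernel

theorem rot4_75r : band (Rule.ok (2 * 1) EX RL ⟨4 :: [7, 5, 2, 5, 4, 4, 2, 5, 4, 4, 7, 5, 2, 5, 4, 4, 7, 5, 7, 5, 2, 5, 4], [5, 0, 3, 4, 2, 2, 0, 3], 6, true⟩) (lall (memL L) [7, 5, 2, 5, 4, 4, 2, 5, 4, 4, 7, 5, 2, 5, 4, 4, 7, 5, 7, 5, 2, 5, 4]) = true := by decide +kernel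

theorem rot4_76 : T.rot 4 [3, 6, 3, 6, 2, 2, 3, 4, 3, 6, 2, 2, 3, 4, 2, 2, 3, 4, 3, 6, 2, 2, 3] (sel (ones 1755) ip4 76) = true := by decide +kernel

theorem rot4_76r : band (Rule.ok (2 * 1) EX RL ⟨4 :: [3, 6, 3, 6, 2, 2, 3, 4, 3, 6, 2, 2, 3, 4, 2, 2, 3, 4, 3, 6, 2, 2, 3], [5, 0, 3, 4, 2, 2, 0, 3, 3, 5], 6, false⟩) (lall (memL L) [3, 6, 3, 6, 2, 2, 3, 4, 3, 6, 2, 2, 3, 4, 2, 2, 3, 4, 3, 6, 2, 2, 3]) = true := by decide +kernel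

theorem rot4_77 : T.rot 4 [3, 6, 2, 2, 3, 4, 2, 2, 3, 4, 3, 6, 2, 2, 3, 4, 3, 6, 3, 6, 2, 2, 3] (sel (ones 1755) ip4 77) = true := by decide +kernel

theorem rot4_77r : band (Rule.ok (2 * 1) EX RL ⟨4 :: [3, 6, 2, 2, 3, 4, 2, 2, 3, 4, 3, 6, 2, 2, 3, 4, 3, 6, 3, 6, 2, 2, 3], [3, 4, 2, 4, 2, 2, 0, 3, 3, 5, 2, 0, 4, 3], 6, false⟩) (lall (memL L) [3, 6, 2, 2, 3, 4, 2, 2, 3, 4, 3, 6, 2, 2, 3, 4, 3, 6, 3, 6, 2, 2, 3]) = true := by decide +kernel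

theorem rot4_78 : T.rot 4 [3, 6, 2, 2, 3, 4, 3, 6, 3, 6, 2, 2, 3, 4, 3, 6, 2, 2, 3, 4, 2, 2, 3] (sel (ones 1755) ip4 78) = true := by decide +kernel

theorem rot4_78r : band (Rule.ok (2 * 1) EX RL ⟨4 :: [3, 6, 2, 2, 3, 4, 3, 6, 3, 6, 2, 2, 3, 4, 3, 6, 2, 2, 3, 4, 2, 2, 3], [3], 6, false⟩) (lall (memL L) [3, 6, 2, 2, 3, 4, 3, 6, 3, 6, 2, 2, 3, 4, 3, 6, 2, 2, 3, 4, 2, 2, 3]) = true := by decide +kernel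

theorem rot4_79 : T.rot 4 [7, 5, 2, 5, 4, 4, 7, 5, 2, 5, 4, 4, 7, 5, 2, 5, 4, 4, 7, 5, 2, 5, 4] (sel (ones 1755) ip4 79) = true := by decide +kernel

theorem rot4_79r : band (Rule.ok (2 * 1) EX RL ⟨4 :: [7, 5, 2, 5, 4, 4, 7, 5, 2, 5, 4, 4, 7, 5, 2, 5, 4, 4, 7, 5, 2, 5, 4], [3, 4, 2], 7, true⟩) (lall (memL L) [7, 5, 2, 5, 4, 4, 7, 5, 2, 5, 4, 4, 7, 5, 2, 5, 4, 4, 7, 5, 2, 5, 4]) = true := by decide +kernel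

theorem rot4_80 : T.rot 4 [3, 6, 2, 2, 3, 4, 3, 6, 2, 2, 3, 4, 3, 6, 2, 2, 3, 4, 3, 6, 2, 2, 3] (sel (ones 1755) ip4 80) = true := by decide +kernel

theorem rot4_80r : band (Rule.ok (2 * 1) EX RL ⟨4 :: [3, 6, 2, 2, 3, 4, 3, 6, 2, 2, 3, 4, 3, 6, 2, 2, 3, 4, 3, 6, 2, 2, 3], [3], 7, false⟩) (lall (memL L) [3, 6, 2, 2, 3, 4, 3, 6, 2, 2, 3, 4, 3, 6, 2, 2, 3, 4, 3, 6, 2, 2, 3]) = true := by decide +kernel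

theorem cov4 : T.cover 4 [(sel (ones 1755) ip4 1), (sel (ones 1755) ip4 2), (sel (ones 1755) ip4 3), (sel (ones 1755) ip4 4), (sel (ones 1755) ip4 5), (sel (ones 1755) ip4 6), (sel (ones 1755) ip4 7), (sel (ones 1755) ip4 8), (sel (ones 1755) ip4 9), (sel (ones 1755) ip4 10), (sel (ones 1755) ip4 11), (sel (ones 1755) ip4 12), (sel (ones 1755) ip4 13), (sel (ones 1755) ip4 14), (sel (ones 1755) ip4 15), (sel (ones 1755) ip4 16), (sel (ones 1755) ip4 17), (sel (ones 1755) ip4 18), (sel (ones 1755) ip4 19), (sel (ones 1755) ip4 20), (sel (ones 1755) ip4 21), (sel (ones 1755) ip4 22), (sel (ones 1755) ip4 23), (sel (ones 1755) ip4 24), (sel (ones 1755) ip4 25), (sel (ones 1755) ip4 26), (sel (ones 1755) ip4 27), (sel (ones 1755) ip4 28), (sel (ones 1755) ip4 29), (sel (ones 1755) ip4 30), (sel (ones 1755)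 ip4 31), (sel (ones 1755) ip4 32), (sel (ones 1755) ip4 33), (sel (ones 1755) ip4 34), (sel (ones 1755) ip4 35), (sel (ones 1755) ip4 36), (sel (ones 1755) ip4 37), (sel (ones 1755) ip4 38), (sel (ones 1755) ip4 39), (sel (ones 1755) ip4 40), (sel (ones 1755) ip4 41), (sel (ones 1755) ip4 42), (sel (ones 1755) ip4 43), (sel (ones 1755) ip4 44), (sel (ones 1755) ip4 45), (sel (ones 1755) ip4 46), (sel (ones 1755) ip4 47), (sel (ones 1755) ip4 48), (sel (ones 1755) ip4 49), (sel (ones 1755) ip4 50), (sel (ones 1755) ip4 51), (sel (ones 1755) ip4 52), (sel (ones 1755) ip4 53), (sel (ones 1755) ip4 54), (sel (ones 1755) ip4 55), (sel (ones 1755) ip4 56), (sel (ones 1755) ip4 57), (sel (ones 1755) ip4 58), (sel (ones 1755) ip4 59), (sel (ones 1755) ip4 60), (sel (ones 1755) ip4 61), (sel (ones 1755) ip4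 62), (sel (ones 1755) ip4 63), (sel (ones 1755) ip4 64), (sel (ones 1755) ip4 65), (sel (ones 1755) ip4 66), (sel (ones 1755) ip4 67), (sel (ones 1755) ip4 68), (sel (ones 1755) ip4 69), (sel (ones 1755) ip4 70), (sel (ones 1755) ip4 71), (sel (ones 1755) ip4 72), (sel (ones 1755) ip4 73), (sel (ones 1755) ip4 74), (sel (ones 1755) ip4 75), (sel (ones 1755) ip4 76), (sel (ones 1755) ip4 77), (sel (ones 1755) ip4 78), (sel (ones 1755) ip4 79), (sel (ones 1755) ip4 80)] = true := by decide +kernel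

theorem tl4 : T.treeLt 11 4 = true := by decide +kernel

theorem rot5_1 : T.rot 5 [3] (sel (ones 1755) ip5 1) = true := by decide +kernel

theorem rot5_1r : band (Rule.ok (2 * 1) EX RL ⟨5 :: [3], [], 18, false⟩) (lall (memL L) [3]) = true := by decide +kernel

theorem rot5_2 : T.rot 5 [7, 6, 5, 5, 5] (sel (ones 1755) ip5 2) = true := by decide +kernel

theorem rot5_2r : band (Rule.ok (2 * 1) EX RL ⟨5 :: [7, 6, 5, 5, 5], [], 8, false⟩) (lall (memL L) [7, 6, 5, 5, 5]) = true := by decide +kernel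

theorem rot5_3 : T.rot 5 [5, 5, 5, 7, 6] (sel (ones 1755) ip5 3) = true := by decide +kernel

theorem rot5_3r : band (Rule.ok (2 * 1) EX RL ⟨5 :: [5, 5, 5, 7, 6], [], 8, false⟩) (lall (memL L) [5, 5, 5, 7, 6]) = true := by decide +kernel

theorem rot5_4 : T.rot 5 [5, 5, 7, 6, 5] (sel (ones 1755) ip5 4) = true := by decide +kernel

theorem rot5_4r : band (Rule.ok (2 * 1) EX RL ⟨5 :: [5, 5, 7, 6, 5], [], 8, false⟩) (lall (memL L) [5, 5, 7, 6, 5]) = true := by decide +kernel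

theorem rot5_5 : T.rot 5 [5, 7, 6, 5, 5] (sel (ones 1755) ip5 5) = true := by decide +kernel

theorem rot5_5r : band (Rule.ok (2 * 1) EX RL ⟨5 :: [5, 7, 6, 5, 5], [], 8, false⟩) (lall (memL L) [5, 7, 6, 5, 5]) = true := by decide +kernel

theorem rot5_6 : T.rot 5 [4, 4, 1, 7, 1, 2] (sel (ones 1755) ip5 6) = true := by decide +kernel

theorem rot5_6r : band (Rule.ok (2 * 1) EX RL ⟨5 :: [4, 4, 1, 7, 1, 2], [], 18, false⟩) (lall (memL L) [4, 4, 1, 7, 1, 2]) = true := by decide +kernel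

theorem rot5_7 : T.rot 5 [7, 5, 7, 5, 7, 5, 7] (sel (ones 1755) ip5 7) = true := by decide +kernel

theorem rot5_7r : band (Rule.ok (2 * 1) EX RL ⟨5 :: [7, 5, 7, 5, 7, 5, 7], [5], 0, true⟩) (lall (memL L) [7, 5, 7, 5, 7, 5, 7]) = true := by decide +kernel

theorem rot5_8 : T.rot 5 [4, 4, 5, 7, 4, 5, 5, 4, 6, 2] (sel (ones 1755) ip5 8) = true := by decide +kernel

theorem rot5_8r : band (Rule.ok (2 * 1) EX RL ⟨5 :: [4, 4, 5, 7, 4, 5, 5, 4, 6, 2], [0, 3, 4, 2, 2, 0, 3], 13, false⟩) (lall (memL L) [4, 4, 5, 7, 4, 5, 5, 4, 6, 2]) = true := by decide +kernel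

theorem rot5_9 : T.rot 5 [7, 4, 5, 5, 4, 6, 2, 5, 4, 4] (sel (ones 1755) ip5 9) = true := by decide +kernel

theorem rot5_9r : band (Rule.ok (2 * 1) EX RL ⟨5 :: [7, 4, 5, 5, 4, 6, 2, 5, 4, 4], [0, 3, 4, 2, 2, 0, 3, 4, 2, 2], 13, false⟩) (lall (memL L) [7, 4, 5, 5, 4, 6, 2, 5, 4, 4]) = true := by decide +kernel

theorem rot5_10 : T.rot 5 [5, 4, 6, 2, 5, 4, 4, 5, 7, 4] (sel (ones 1755) ip5 10) = true := by decide +kernel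

theorem rot5_10r : band (Rule.ok (2 * 1) EX RL ⟨5 :: [5, 4, 6, 2, 5, 4, 4, 5, 7, 4], [3, 5, 5], 13, false⟩) (lall (memL L) [5, 4, 6, 2, 5, 4, 4, 5, 7, 4]) = true := by decide +kernel

theorem rot5_11 : T.rot 5 [4, 6, 2, 5, 4, 4, 5, 7, 4, 5] (sel (ones 1755) ip5 11) = true := by decide +kernel

theorem rot5_11r : band (Rule.ok (2 * 1) EX RL ⟨5 :: [4, 6, 2, 5, 4, 4, 5, 7, 4, 5], [3, 5], 13, false⟩) (lall (memL L) [4, 6, 2, 5, 4, 4, 5, 7, 4, 5]) = true := by decide +kernel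

theorem rot5_12 : T.rot 5 [1, 5, 4, 3, 2, 2, 3, 4, 4, 1] (sel (ones 1755) ip5 12) = true := by decide +kernel

theorem rot5_12r : band (Rule.ok (2 * 1) EX RL ⟨5 :: [1, 5, 4, 3, 2, 2, 3, 4, 4, 1], [3, 5, 2, 2, 0], 15, true⟩) (lall (memL L) [1, 5, 4, 3, 2, 2, 3, 4, 4, 1]) = true := by decide +kernel

theorem rot5_13 : T.rot 5 [4, 3, 2, 2, 3, 4, 4, 1, 5, 1] (sel (ones 1755) ip5 13) = true := by decide +kernel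

theorem rot5_13r : band (Rule.ok (2 * 1) EX RL ⟨5 :: [4, 3, 2, 2, 3, 4, 4, 1, 5, 1], [2, 4, 3, 5], 15, true⟩) (lall (memL L) [4, 3, 2, 2, 3, 4, 4, 1, 5, 1]) = true := by decide +kernel

theorem rot5_14 : T.rot 5 [2, 3, 1, 3, 1, 2, 2, 5, 4, 4] (sel (ones 1755) ip5 14) = true := by decide +kernel

theorem rot5_14r : band (Rule.ok (2 * 1) EX RL ⟨5 :: [2, 3, 1, 3, 1, 2, 2, 5, 4, 4], [2], 15, false⟩) (lall (memL L) [2, 3, 1, 3, 1, 2, 2, 5, 4, 4]) = true := by decide +kernel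

theorem rot5_15 : T.rot 5 [4, 4, 5, 2, 3, 1, 3, 1, 2, 2] (sel (ones 1755) ip5 15) = true := by decide +kernel

theorem rot5_15r : band (Rule.ok (2 * 1) EX RL ⟨5 :: [4, 4, 5, 2, 3, 1, 3, 1, 2, 2], [3, 5], 15, false⟩) (lall (memL L) [4, 4, 5, 2, 3, 1, 3, 1, 2, 2]) = true := by decide +kernel

theorem rot5_16 : T.rot 5 [7, 5, 7, 7, 5, 6, 3, 6, 3, 3, 6] (sel (ones 1755) ip5 16) = true := by decide +kernel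

theorem rot5_16r : band (Rule.ok (2 * 1) EX RL ⟨5 :: [7, 5, 7, 7, 5, 6, 3, 6, 3, 3, 6], [], 2, true⟩) (lall (memL L) [7, 5, 7, 7, 5, 6, 3, 6, 3, 3, 6]) = true := by decide +kernel

theorem rot5_17 : T.rot 5 [7, 7, 5, 6, 3, 6, 3, 3, 6, 5, 7] (sel (ones 1755) ip5 17) = true := by decide +kernel

theorem rot5_17r : band (Rule.ok (2 * 1) EX RL ⟨5 :: [7, 7, 5, 6, 3, 6, 3, 3, 6, 5, 7], [4, 0, 3, 3, 5, 2, 0], 2, true⟩) (lall (memL L) [7, 7, 5, 6, 3, 6, 3, 3, 6, 5, 7]) = true := by decide +kernel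

theorem rot5_18 : T.rot 5 [6, 3, 6, 3, 3, 6, 5, 7, 5, 7, 7] (sel (ones 1755) ip5 18) = true := by decide +kernel

theorem rot5_18r : band (Rule.ok (2 * 1) EX RL ⟨5 :: [6, 3, 6, 3, 3, 6, 5, 7, 5, 7, 7], [4, 0, 3, 3, 5, 2, 0, 4, 0, 3, 3, 5, 3, 5, 2, 0], 2, true⟩) (lall (memL L) [6, 3, 6, 3, 3, 6, 5, 7, 5, 7, 7]) = true := by decide +kernel

theorem rot5_19 : T.rot 5 [5, 7, 5, 7, 3, 6, 6, 3, 6, 3, 7] (sel (ones 1755) ip5 19) = true := by decide +kernel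

theorem rot5_19r : band (Rule.ok (2 * 1) EX RL ⟨5 :: [5, 7, 5, 7, 3, 6, 6, 3, 6, 3, 7], [0, 3, 3, 5, 2, 0], 2, false⟩) (lall (memL L) [5, 7, 5, 7, 3, 6, 6, 3, 6, 3, 7]) = true := by decide +kernel

theorem rot5_20 : T.rot 5 [7, 5, 7, 3, 6, 6, 3, 6, 3, 7, 5] (sel (ones 1755) ip5 20) = true := by decide +kernel

theorem rot5_20r : band (Rule.ok (2 * 1) EX RL ⟨5 :: [7, 5, 7, 3, 6, 6, 3, 6, 3, 7, 5], [0, 3, 3, 5, 2, 0, 4], 2, false⟩) (lall (memL L) [7, 5, 7, 3, 6, 6, 3, 6, 3, 7, 5]) = true := by decide +kernel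

theorem rot5_21 : T.rot 5 [7, 3, 6, 6, 3, 6, 3, 7, 5, 5, 7] (sel (ones 1755) ip5 21) = true := by decide +kernel

theorem rot5_21r : band (Rule.ok (2 * 1) EX RL ⟨5 :: [7, 3, 6, 6, 3, 6, 3, 7, 5, 5, 7], [0, 3, 3, 5, 2, 0, 4, 4, 0, 3, 3, 5, 2, 0], 2, false⟩) (lall (memL L) [7, 3, 6, 6, 3, 6, 3, 7, 5, 5, 7]) = true := by decide +kernel

theorem rot5_22 : T.rot 5 [4, 7, 2, 2, 3, 4, 5, 7, 7, 2, 3, 6] (sel (ones 1755) ip5 22) = true := by decide +kernel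

theorem rot5_22r : band (Rule.ok (2 * 1) EX RL ⟨5 :: [4, 7, 2, 2, 3, 4, 5, 7, 7, 2, 3, 6], [3, 5, 0, 3, 4, 2, 2, 0], 14, true⟩) (lall (memL L) [4, 7, 2, 2, 3, 4, 5, 7, 7, 2, 3, 6]) = true := by decide +kernel

theorem rot5_23 : T.rot 5 [7, 7, 2, 3, 6, 5, 4, 7, 2, 2, 3, 4] (sel (ones 1755) ip5 23) = true := by decide +kernel

theorem rot5_23r : band (Rule.ok (2 * 1) EX RL ⟨5 :: [7, 7, 2, 3, 6, 5, 4, 7, 2, 2, 3, 4], [0, 3, 4, 2, 4, 2, 2, 0, 5], 14, true⟩) (lall (memL L) [7, 7, 2, 3, 6, 5, 4, 7, 2, 2, 3, 4]) = true := by decide +kernel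

theorem rot5_24 : T.rot 5 [4, 4, 6, 2, 3, 7, 5, 4, 6, 6, 3, 2] (sel (ones 1755) ip5 24) = true := by decide +kernel

theorem rot5_24r : band (Rule.ok (2 * 1) EX RL ⟨5 :: [4, 4, 6, 2, 3, 7, 5, 4, 6, 6, 3, 2], [0, 3, 4, 2, 4, 2, 2, 0, 5, 3], 14, false⟩) (lall (memL L) [4, 4, 6, 2, 3, 7, 5, 4, 6, 6, 3, 2]) = true := by decide +kernel

theorem rot5_25 : T.rot 5 [4, 6, 6, 3, 2, 5, 4, 4, 6, 2, 3, 7] (sel (ones 1755) ip5 25) = true := by decide +kernel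

theorem rot5_25r : band (Rule.ok (2 * 1) EX RL ⟨5 :: [4, 6, 6, 3, 2, 5, 4, 4, 6, 2, 3, 7], [3, 5], 14, false⟩) (lall (memL L) [4, 6, 6, 3, 2, 5, 4, 4, 6, 2, 3, 7]) = true := by decide +kernel

theorem rot5_26 : T.rot 5 [4, 4, 5, 5, 7, 2, 2, 3, 4, 3, 6, 3, 2] (sel (ones 1755) ip5 26) = true := by decide +kernel

theorem rot5_26r : band (Rule.ok (2 * 1) EX RL ⟨5 :: [4, 4, 5, 5, 7, 2, 2, 3, 4, 3, 6, 3, 2], [5, 3], 9, true⟩) (lall (memL L) [4, 4, 5, 5, 7, 2, 2, 3, 4, 3, 6, 3, 2]) = true := by decide +kernel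

theorem rot5_27 : T.rot 5 [5, 7, 2, 2, 3, 4, 3, 6, 3, 2, 5, 4, 4] (sel (ones 1755) ip5 27) = true := by decide +kernel

theorem rot5_27r : band (Rule.ok (2 * 1) EX RL ⟨5 :: [5, 7, 2, 2, 3, 4, 3, 6, 3, 2, 5, 4, 4], [5, 3, 4, 2, 2], 9, true⟩) (lall (memL L) [5, 7, 2, 2, 3, 4, 3, 6, 3, 2, 5, 4, 4]) = true := by decide +kernel

theorem rot5_28 : T.rot 5 [7, 2, 2, 3, 4, 3, 6, 3, 2, 5, 4, 4, 5] (sel (ones 1755) ip5 28) = true := by decide +kernel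

theorem rot5_28r : band (Rule.ok (2 * 1) EX RL ⟨5 :: [7, 2, 2, 3, 4, 3, 6, 3, 2, 5, 4, 4, 5], [5, 3, 4, 2, 2, 4], 9, true⟩) (lall (memL L) [7, 2, 2, 3, 4, 3, 6, 3, 2, 5, 4, 4, 5]) = true := by decide +kernel

theorem rot5_29 : T.rot 5 [2, 5, 4, 4, 6, 3, 3, 2, 2, 3, 4, 5, 7] (sel (ones 1755) ip5 29) = true := by decide +kernel

theorem rot5_29r : band (Rule.ok (2 * 1) EX RL ⟨5 :: [2, 5, 4, 4, 6, 3, 3, 2, 2, 3, 4, 5, 7], [0, 3, 3, 5, 2, 0], 9, false⟩) (lall (memL L) [2, 5, 4, 4, 6, 3, 3, 2, 2, 3, 4, 5, 7]) = true := by decide +kernel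

theorem rot5_30 : T.rot 5 [4, 4, 6, 3, 3, 2, 2, 3, 4, 5, 7, 5, 2] (sel (ones 1755) ip5 30) = true := by decide +kernel

theorem rot5_30r : band (Rule.ok (2 * 1) EX RL ⟨5 :: [4, 4, 6, 3, 3, 2, 2, 3, 4, 5, 7, 5, 2], [0, 3, 3, 5, 2, 0, 4, 3], 9, false⟩) (lall (memL L) [4, 4, 6, 3, 3, 2, 2, 3, 4, 5, 7, 5, 2]) = true := by decide +kernel

theorem rot5_31 : T.rot 5 [7, 5, 2, 5, 4, 4, 6, 3, 3, 2, 2, 3, 4] (sel (ones 1755) ip5 31) = true := by decide +kernel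

theorem rot5_31r : band (Rule.ok (2 * 1) EX RL ⟨5 :: [7, 5, 2, 5, 4, 4, 6, 3, 3, 2, 2, 3, 4], [5], 9, false⟩) (lall (memL L) [7, 5, 2, 5, 4, 4, 6, 3, 3, 2, 2, 3, 4]) = true := by decide +kernel

theorem rot5_32 : T.rot 5 [4, 4, 5, 7, 3, 2, 2, 3, 4, 2, 6, 4, 2] (sel (ones 1755) ip5 32) = true := by decide +kernel

theorem rot5_32r : band (Rule.ok (2 * 1) EX RL ⟨5 :: [4, 4, 5, 7, 3, 2, 2, 3, 4, 2, 6, 4, 2], [3, 0, 3, 4, 2, 2, 0], 12, true⟩) (lall (memL L) [4, 4, 5, 7, 3, 2, 2, 3, 4, 2, 6, 4, 2]) = true := by decide +kernel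

theorem rot5_33 : T.rot 5 [7, 3, 2, 2, 3, 4, 2, 6, 4, 2, 5, 4, 4] (sel (ones 1755) ip5 33) = true := by decide +kernel

theorem rot5_33r : band (Rule.ok (2 * 1) EX RL ⟨5 :: [7, 3, 2, 2, 3, 4, 2, 6, 4, 2, 5, 4, 4], [3, 0, 3, 4, 2, 2, 0, 4, 2, 2], 12, true⟩) (lall (memL L) [7, 3, 2, 2, 3, 4, 2, 6, 4, 2, 5, 4, 4]) = true := by decide +kernel

theorem rot5_34 : T.rot 5 [4, 4, 5, 6, 3, 2, 2, 3, 4, 2, 7, 4, 2] (sel (ones 1755) ip5 34) = true := by decide +kernel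

theorem rot5_34r : band (Rule.ok (2 * 1) EX RL ⟨5 :: [4, 4, 5, 6, 3, 2, 2, 3, 4, 2, 7, 4, 2], [3], 12, false⟩) (lall (memL L) [4, 4, 5, 6, 3, 2, 2, 3, 4, 2, 7, 4, 2]) = true := by decide +kernel

theorem rot5_35 : T.rot 5 [6, 3, 2, 2, 3, 4, 2, 7, 4, 2, 5, 4, 4] (sel (ones 1755) ip5 35) = true := by decide +kernel

theorem rot5_35r : band (Rule.ok (2 * 1) EX RL ⟨5 :: [6, 3, 2, 2, 3, 4, 2, 7, 4, 2, 5, 4, 4], [3, 4, 2, 2], 12, false⟩) (lall (memL L) [6, 3, 2, 2, 3, 4, 2, 7, 4, 2, 5, 4, 4]) = true := by decide +kernel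

theorem rot5_36 : T.rot 5 [4, 4, 5, 7, 2, 2, 3, 4, 7, 5, 6, 3, 3, 6, 2] (sel (ones 1755) ip5 36) = true := by decide +kernel

theorem rot5_36r : band (Rule.ok (2 * 1) EX RL ⟨5 :: [4, 4, 5, 7, 2, 2, 3, 4, 7, 5, 6, 3, 3, 6, 2], [3], 1, true⟩) (lall (memL L) [4, 4, 5, 7, 2, 2, 3, 4, 7, 5, 6, 3, 3, 6, 2]) = true := by decide +kernel

theorem rot5_37 : T.rot 5 [7, 2, 2, 3, 4, 7, 5, 6, 3, 3, 6, 2, 5, 4, 4] (sel (ones 1755) ip5 37) = true := by decide +kernel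

theorem rot5_37r : band (Rule.ok (2 * 1) EX RL ⟨5 :: [7, 2, 2, 3, 4, 7, 5, 6, 3, 3, 6, 2, 5, 4, 4], [3, 4, 2, 2], 1, true⟩) (lall (memL L) [7, 2, 2, 3, 4, 7, 5, 6, 3, 3, 6, 2, 5, 4, 4]) = true := by decide +kernel

theorem rot5_38 : T.rot 5 [6, 3, 3, 6, 2, 5, 4, 4, 5, 7, 2, 2, 3, 4, 7] (sel (ones 1755) ip5 38) = true := by decide +kernel

theorem rot5_38r : band (Rule.ok (2 * 1) EX RL ⟨5 :: [6, 3, 3, 6, 2, 5, 4, 4, 5, 7, 2, 2, 3, 4, 7], [0, 3, 3, 5, 2, 0, 4, 4, 0, 3, 3, 5, 2, 0, 5], 1, true⟩) (lall (memL L) [6, 3, 3, 6, 2, 5, 4, 4, 5, 7, 2, 2, 3, 4, 7]) = true := by decide +kernel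

theorem rot5_39 : T.rot 5 [5, 7, 3, 6, 2, 5, 4, 4, 6, 3, 2, 2, 3, 4, 7] (sel (ones 1755) ip5 39) = true := by decide +kernel

theorem rot5_39r : band (Rule.ok (2 * 1) EX RL ⟨5 :: [5, 7, 3, 6, 2, 5, 4, 4, 6, 3, 2, 2, 3, 4, 7], [0, 3, 3, 5, 2, 0], 1, false⟩) (lall (memL L) [5, 7, 3, 6, 2, 5, 4, 4, 6, 3, 2, 2, 3, 4, 7]) = true := by decide +kernel

theorem rot5_40 : T.rot 5 [7, 3, 6, 2, 5, 4, 4, 6, 3, 2, 2, 3, 4, 7, 5] (sel (ones 1755) ip5 40) = true := by decide +kernel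

theorem rot5_40r : band (Rule.ok (2 * 1) EX RL ⟨5 :: [7, 3, 6, 2, 5, 4, 4, 6, 3, 2, 2, 3, 4, 7, 5], [0, 3, 3, 5, 2, 0, 4], 1, false⟩) (lall (memL L) [7, 3, 6, 2, 5, 4, 4, 6, 3, 2, 2, 3, 4, 7, 5]) = true := by decide +kernel

theorem rot5_41 : T.rot 5 [4, 4, 6, 3, 2, 2, 3, 4, 7, 5, 5, 7, 3, 6, 2] (sel (ones 1755) ip5 41) = true := by decide +kernel

theorem rot5_41r : band (Rule.ok (2 * 1) EX RL ⟨5 :: [4, 4, 6, 3, 2, 2, 3, 4, 7, 5, 5, 7, 3, 6, 2], [3, 4, 2, 2, 4, 0, 3, 3, 5, 2, 0, 3, 3, 5], 1, false⟩) (lall (memL L) [4, 4, 6, 3, 2, 2, 3, 4, 7, 5, 5, 7, 3, 6, 2]) = true := by decide +kernel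

theorem rot5_42 : T.rot 5 [4, 4, 5, 7, 5, 7, 2, 2, 3, 4, 5, 7, 5, 7, 2] (sel (ones 1755) ip5 42) = true := by decide +kernel

theorem rot5_42r : band (Rule.ok (2 * 1) EX RL ⟨5 :: [4, 4, 5, 7, 5, 7, 2, 2, 3, 4, 5, 7, 5, 7, 2], [4, 0, 3, 3, 5, 2, 0, 3], 3, true⟩) (lall (memL L) [4, 4, 5, 7, 5, 7, 2, 2, 3, 4, 5, 7, 5, 7, 2]) = true := by decide +kernel

theorem rot5_43 : T.rot 5 [7, 5, 7, 2, 2, 3, 4, 5, 7, 5, 7, 2, 5, 4, 4] (sel (ones 1755) ip5 43) = true := by decide +kernel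

theorem rot5_43r : band (Rule.ok (2 * 1) EX RL ⟨5 :: [7, 5, 7, 2, 2, 3, 4, 5, 7, 5, 7, 2, 5, 4, 4], [4, 0, 3, 3, 5, 2, 0, 3, 4, 2, 2], 3, true⟩) (lall (memL L) [7, 5, 7, 2, 2, 3, 4, 5, 7, 5, 7, 2, 5, 4, 4]) = true := by decide +kernel

theorem rot5_44 : T.rot 5 [7, 2, 2, 3, 4, 5, 7, 5, 7, 2, 5, 4, 4, 5, 7] (sel (ones 1755) ip5 44) = true := by decide +kernel

theorem rot5_44r : band (Rule.ok (2 * 1) EX RL ⟨5 :: [7, 2, 2, 3, 4, 5, 7, 5, 7, 2, 5, 4, 4, 5, 7], [0, 3, 4, 2, 2, 0, 5, 3, 4, 2, 2, 0, 3, 4, 2, 2, 0, 5], 3, true⟩) (lall (memL L) [7, 2, 2, 3, 4, 5, 7, 5, 7, 2, 5, 4, 4, 5, 7]) = true := by decide +kernel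

theorem rot5_45 : T.rot 5 [7, 5, 7, 2, 5, 4, 4, 5, 7, 5, 7, 2, 2, 3, 4] (sel (ones 1755) ip5 45) = true := by decide +kernel

theorem rot5_45r : band (Rule.ok (2 * 1) EX RL ⟨5 :: [7, 5, 7, 2, 5, 4, 4, 5, 7, 5, 7, 2, 2, 3, 4], [0, 3, 4, 2, 2, 0, 5], 3, true⟩) (lall (memL L) [7, 5, 7, 2, 5, 4, 4, 5, 7, 5, 7, 2, 2, 3, 4]) = true := by decide +kernel

theorem rot5_46 : T.rot 5 [4, 4, 6, 3, 6, 3, 2, 2, 3, 4, 6, 3, 6, 3, 2] (sel (ones 1755) ip5 46) = true := by decide +kernel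

theorem rot5_46r : band (Rule.ok (2 * 1) EX RL ⟨5 :: [4, 4, 6, 3, 6, 3, 2, 2, 3, 4, 6, 3, 6, 3, 2], [0, 3, 4, 2, 2, 0, 5, 3], 3, false⟩) (lall (memL L) [4, 4, 6, 3, 6, 3, 2, 2, 3, 4, 6, 3, 6, 3, 2]) = true := by decide +kernel

theorem rot5_47 : T.rot 5 [4, 4, 2, 5, 4, 4, 5, 7, 3, 6, 5, 7, 7, 5, 2] (sel (ones 1755) ip5 47) = true := by decide +kernel

theorem rot5_47r : band (Rule.ok (2 * 1) EX RL ⟨5 :: [4, 4, 2, 5, 4, 4, 5, 7, 3, 6, 5, 7, 7, 5, 2], [3], 4, true⟩) (lall (memL L) [4, 4, 2, 5, 4, 4, 5, 7, 3, 6, 5, 7, 7, 5, 2]) = true := by decide +kernel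

theorem rot5_48 : T.rot 5 [4, 4, 5, 7, 3, 6, 5, 7, 7, 5, 2, 5, 4, 4, 2] (sel (ones 1755) ip5 48) = true := by decide +kernel

theorem rot5_48r : band (Rule.ok (2 * 1) EX RL ⟨5 :: [4, 4, 5, 7, 3, 6, 5, 7, 7, 5, 2, 5, 4, 4, 2], [3, 4, 2], 4, true⟩) (lall (memL L) [4, 4, 5, 7, 3, 6, 5, 7, 7, 5, 2, 5, 4, 4, 2]) = true := by decide +kernel

theorem rot5_49 : T.rot 5 [7, 3, 6, 5, 7, 7, 5, 2, 5, 4, 4, 2, 5, 4, 4] (sel (ones 1755) ip5 49) = true := by decide +kernel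

theorem rot5_49r : band (Rule.ok (2 * 1) EX RL ⟨5 :: [7, 3, 6, 5, 7, 7, 5, 2, 5, 4, 4, 2, 5, 4, 4], [3, 4, 2, 4, 2, 2], 4, true⟩) (lall (memL L) [7, 3, 6, 5, 7, 7, 5, 2, 5, 4, 4, 2, 5, 4, 4]) = true := by decide +kernel

theorem rot5_50 : T.rot 5 [2, 5, 4, 4, 2, 5, 4, 4, 5, 7, 3, 6, 5, 7, 7] (sel (ones 1755) ip5 50) = true := by decide +kernel

theorem rot5_50r : band (Rule.ok (2 * 1) EX RL ⟨5 :: [2, 5, 4, 4, 2, 5, 4, 4, 5, 7, 3, 6, 5, 7, 7], [5], 4, true⟩) (lall (memL L) [2, 5, 4, 4, 2, 5, 4, 4, 5, 7, 3, 6, 5, 7, 7]) = true := by decide +kernel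

theorem rot5_51 : T.rot 5 [6, 3, 2, 2, 3, 4, 2, 2, 3, 4, 3, 6, 6, 3, 7] (sel (ones 1755) ip5 51) = true := by decide +kernel

theorem rot5_51r : band (Rule.ok (2 * 1) EX RL ⟨5 :: [6, 3, 2, 2, 3, 4, 2, 2, 3, 4, 3, 6, 6, 3, 7], [3, 4, 2, 4, 2, 2, 4, 0, 3, 3, 5, 2, 0, 5], 4, false⟩) (lall (memL L) [6, 3, 2, 2, 3, 4, 2, 2, 3, 4, 3, 6, 6, 3, 7]) = true := by decide +kernel

theorem rot5_52 : T.rot 5 [4, 4, 2, 5, 4, 4, 2, 5, 4, 4, 2, 5, 4, 4, 2] (sel (ones 1755) ip5 52) = true := by decide +kernel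

theorem rot5_52r : band (Rule.ok (2 * 1) EX RL ⟨5 :: [4, 4, 2, 5, 4, 4, 2, 5, 4, 4, 2, 5, 4, 4, 2], [3], 5, true⟩) (lall (memL L) [4, 4, 2, 5, 4, 4, 2, 5, 4, 4, 2, 5, 4, 4, 2]) = true := by decide +kernel

theorem rot5_53 : T.rot 5 [4, 4, 6, 5, 3, 6, 6, 3, 3, 6, 2, 2, 3, 4, 3, 3, 2] (sel (ones 1755) ip5 53) = true := by decide +kernel

theorem rot5_53r : band (Rule.ok (2 * 1) EX RL ⟨5 :: [4, 4, 6, 5, 3, 6, 6, 3, 3, 6, 2, 2, 3, 4, 3, 3, 2], [5, 5, 3], 10, true⟩) (lall (memL L) [4, 4, 6, 5, 3, 6, 6, 3, 3, 6, 2, 2, 3, 4, 3, 3, 2]) = true := by decide +kernel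

theorem rot5_54 : T.rot 5 [4, 4, 7, 5, 5, 7, 7, 5, 3, 7, 2, 2, 3, 4, 5, 5, 2] (sel (ones 1755) ip5 54) = true := by decide +kernel

theorem rot5_54r : band (Rule.ok (2 * 1) EX RL ⟨5 :: [4, 4, 7, 5, 5, 7, 7, 5, 3, 7, 2, 2, 3, 4, 5, 5, 2], [3], 10, false⟩) (lall (memL L) [4, 4, 7, 5, 5, 7, 7, 5, 3, 7, 2, 2, 3, 4, 5, 5, 2]) = true := by decide +kernel

theorem rot5_55 : T.rot 5 [5, 7, 7, 5, 3, 7, 2, 2, 3, 4, 5, 5, 2, 5, 4, 4, 7] (sel (ones 1755) ip5 55) = true := by decide +kernel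

theorem rot5_55r : band (Rule.ok (2 * 1) EX RL ⟨5 :: [5, 7, 7, 5, 3, 7, 2, 2, 3, 4, 5, 5, 2, 5, 4, 4, 7], [3, 4, 2, 2, 0, 3, 3, 5, 2, 0], 10, false⟩) (lall (memL L) [5, 7, 7, 5, 3, 7, 2, 2, 3, 4, 5, 5, 2, 5, 4, 4, 7]) = true := by decide +kernel

theorem rot5_56 : T.rot 5 [7, 7, 5, 3, 7, 2, 2, 3, 4, 5, 5, 2, 5, 4, 4, 7, 5] (sel (ones 1755) ip5 56) = true := by decide +kernel

theorem rot5_56r : band (Rule.ok (2 * 1) EX RL ⟨5 :: [7, 7, 5, 3, 7, 2, 2, 3, 4, 5, 5, 2, 5, 4, 4, 7, 5], [3, 4, 2, 2, 0, 3, 3, 5, 2, 0, 4], 10, false⟩) (lall (memL L) [7, 7, 5, 3, 7, 2, 2, 3, 4, 5, 5, 2, 5, 4, 4, 7, 5]) = true := by decide +kernel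

theorem rot5_57 : T.rot 5 [5, 2, 5, 4, 4, 7, 5, 5, 7, 7, 5, 3, 7, 2, 2, 3, 4] (sel (ones 1755) ip5 57) = true := by decide +kernel

theorem rot5_57r : band (Rule.ok (2 * 1) EX RL ⟨5 :: [5, 2, 5, 4, 4, 7, 5, 5, 7, 7, 5, 3, 7, 2, 2, 3, 4], [5, 5], 10, false⟩) (lall (memL L) [5, 2, 5, 4, 4, 7, 5, 5, 7, 7, 5, 3, 7, 2, 2, 3, 4]) = true := by decide +kernel

theorem rot5_58 : T.rot 5 [2, 5, 4, 4, 7, 5, 5, 7, 7, 5, 3, 7, 2, 2, 3, 4, 5] (sel (ones 1755) ip5 58) = true := by decide +kernel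

theorem rot5_58r : band (Rule.ok (2 * 1) EX RL ⟨5 :: [2, 5, 4, 4, 7, 5, 5, 7, 7, 5, 3, 7, 2, 2, 3, 4, 5], [5], 10, false⟩) (lall (memL L) [2, 5, 4, 4, 7, 5, 5, 7, 7, 5, 3, 7, 2, 2, 3, 4, 5]) = true := by decide +kernel

theorem rot5_59 : T.rot 5 [4, 1, 2, 3, 7, 4, 6, 2, 5, 4, 1, 2, 3, 2, 2, 1, 4, 4] (sel (ones 1755) ip5 59) = true := by decide +kernel

theorem rot5_59r : band (Rule.ok (2 * 1) EX RL ⟨5 :: [4, 1, 2, 3, 7, 4, 6, 2, 5, 4, 1, 2, 3, 2, 2, 1, 4, 4], [0, 3, 5, 3, 3, 0, 2, 2], 17, true⟩) (lall (memL L) [4, 1, 2, 3, 7, 4, 6, 2, 5, 4, 1, 2, 3, 2, 2, 1, 4, 4]) = true := by decide +kernel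

theorem rot5_60 : T.rot 5 [4, 1, 2, 3, 2, 2, 1, 4, 4, 5, 4, 1, 2, 3, 7, 4, 6, 2] (sel (ones 1755) ip5 60) = true := by decide +kernel

theorem rot5_60r : band (Rule.ok (2 * 1) EX RL ⟨5 :: [4, 1, 2, 3, 2, 2, 1, 4, 4, 5, 4, 1, 2, 3, 7, 4, 6, 2], [3, 5], 17, true⟩) (lall (memL L) [4, 1, 2, 3, 2, 2, 1, 4, 4, 5, 4, 1, 2, 3, 7, 4, 6, 2]) = true := by decide +kernel

theorem rot5_61 : T.rot 5 [4, 1, 2, 3, 2, 2, 1, 4, 4, 5, 4, 1, 2, 3, 4, 7, 2, 6] (sel (ones 1755) ip5 61) = true := by decide +kernel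

theorem rot5_61r : band (Rule.ok (2 * 1) EX RL ⟨5 :: [4, 1, 2, 3, 2, 2, 1, 4, 4, 5, 4, 1, 2, 3, 4, 7, 2, 6], [0, 3, 5, 3, 3, 0, 2, 2, 4, 2, 0, 3, 5], 17, false⟩) (lall (memL L) [4, 1, 2, 3, 2, 2, 1, 4, 4, 5, 4, 1, 2, 3, 4, 7, 2, 6]) = true := by decide +kernel

theorem rot5_62 : T.rot 5 [4, 1, 2, 3, 4, 7, 2, 6, 5, 4, 1, 2, 3, 2, 2, 1, 4, 4] (sel (ones 1755) ip5 62) = true := by decide +kernel

theorem rot5_62r : band (Rule.ok (2 * 1) EX RL ⟨5 :: [4, 1, 2, 3, 4, 7, 2, 6, 5, 4, 1, 2, 3, 2, 2, 1, 4, 4], [0, 3, 5], 17, false⟩) (lall (memL L) [4, 1, 2, 3, 4, 7, 2, 6, 5, 4, 1, 2, 3, 2, 2, 1, 4, 4]) = true := by decide +kernel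

theorem rot5_63 : T.rot 5 [2, 5, 1, 4, 1, 4, 1, 2, 3, 1, 2, 1, 2, 1, 3, 4, 1, 4, 4, 1] (sel (ones 1755) ip5 63) = true := by decide +kernel

theorem rot5_63r : band (Rule.ok (2 * 1) EX RL ⟨5 :: [2, 5, 1, 4, 1, 4, 1, 2, 3, 1, 2, 1, 2, 1, 3, 4, 1, 4, 4, 1], [4, 2, 0, 3, 0, 3, 0, 5, 2, 5], 16, true⟩) (lall (memL L) [2, 5, 1, 4, 1, 4, 1, 2, 3, 1, 2, 1, 2, 1, 3, 4, 1, 4, 4, 1]) = true := by decide +kernel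

theorem rot5_64 : T.rot 5 [1, 4, 1, 4, 1, 2, 3, 1, 2, 1, 2, 1, 3, 4, 1, 4, 4, 1, 5, 2] (sel (ones 1755) ip5 64) = true := by decide +kernel

theorem rot5_64r : band (Rule.ok (2 * 1) EX RL ⟨5 :: [1, 4, 1, 4, 1, 2, 3, 1, 2, 1, 2, 1, 3, 4, 1, 4, 4, 1, 5, 2], [4, 2, 0, 3, 0, 3, 0, 5], 16, true⟩) (lall (memL L) [1, 4, 1, 4, 1, 2, 3, 1, 2, 1, 2, 1, 3, 4, 1, 4, 4, 1, 5, 2]) = true := by decide +kernel

theorem rot5_65 : T.rot 5 [4, 1, 2, 1, 2, 1, 3, 4, 3, 1, 2, 2, 1, 2, 5, 1, 4, 1, 4, 1] (sel (ones 1755) ip5 65) = true := by decide +kernel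

theorem rot5_65r : band (Rule.ok (2 * 1) EX RL ⟨5 :: [4, 1, 2, 1, 2, 1, 3, 4, 3, 1, 2, 2, 1, 2, 5, 1, 4, 1, 4, 1], [], 16, false⟩) (lall (memL L) [4, 1, 2, 1, 2, 1, 3, 4, 3, 1, 2, 2, 1, 2, 5, 1, 4, 1, 4, 1]) = true := by decide +kernel

theorem rot5_66 : T.rot 5 [1, 4, 1, 4, 1, 5, 4, 1, 2, 1, 2, 1, 3, 4, 3, 1, 2, 2, 1, 2] (sel (ones 1755) ip5 66) = true := by decide +kernel

theorem rot5_66r : band (Rule.ok (2 * 1) EX RL ⟨5 :: [1, 4, 1, 4, 1, 5, 4, 1, 2, 1, 2, 1, 3, 4, 3, 1, 2, 2, 1, 2], [0, 3, 0, 3, 0, 5], 16, false⟩) (lall (memL L) [1, 4, 1, 4, 1, 5, 4, 1, 2, 1, 2, 1, 3, 4, 3, 1, 2, 2, 1, 2]) = true := by decide +kernel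

theorem rot5_67 : T.rot 5 [4, 4, 2, 5, 4, 4, 7, 5, 2, 5, 4, 4, 7, 5, 7, 5, 2, 5, 4, 4, 7, 5, 2] (sel (ones 1755) ip5 67) = true := by decide +kernel

theorem rot5_67r : band (Rule.ok (2 * 1) EX RL ⟨5 :: [4, 4, 2, 5, 4, 4, 7, 5, 2, 5, 4, 4, 7, 5, 7, 5, 2, 5, 4, 4, 7, 5, 2], [3], 6, true⟩) (lall (memL L) [4, 4, 2, 5, 4, 4, 7, 5, 2, 5, 4, 4, 7, 5, 7, 5, 2, 5, 4, 4, 7, 5, 2]) = true := by decide +kernel

theorem rot5_68 : T.rot 5 [4, 4, 7, 5, 2, 5, 4, 4, 7, 5, 7, 5, 2, 5, 4, 4, 7, 5, 2, 5, 4, 4, 2] (sel (ones 1755) ip5 68) = true := by decide +kernel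

theorem rot5_68r : band (Rule.ok (2 * 1) EX RL ⟨5 :: [4, 4, 7, 5, 2, 5, 4, 4, 7, 5, 7, 5, 2, 5, 4, 4, 7, 5, 2, 5, 4, 4, 2], [3, 4, 2], 6, true⟩) (lall (memL L) [4, 4, 7, 5, 2, 5, 4, 4, 7, 5, 7, 5, 2, 5, 4, 4, 7, 5, 2, 5, 4, 4, 2]) = true := by decide +kernel

theorem rot5_69 : T.rot 5 [2, 5, 4, 4, 7, 5, 7, 5, 2, 5, 4, 4, 7, 5, 2, 5, 4, 4, 2, 5, 4, 4, 7] (sel (ones 1755) ip5 69) = true := by decide +kernel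

theorem rot5_69r : band (Rule.ok (2 * 1) EX RL ⟨5 :: [2, 5, 4, 4, 7, 5, 7, 5, 2, 5, 4, 4, 7, 5, 2, 5, 4, 4, 2, 5, 4, 4, 7], [3, 4, 2, 4, 2, 2, 0, 3, 3, 5, 2, 0], 6, true⟩) (lall (memL L) [2, 5, 4, 4, 7, 5, 7, 5, 2, 5, 4, 4, 7, 5, 2, 5, 4, 4, 2, 5, 4, 4, 7]) = true := by decide +kernel

theorem rot5_70 : T.rot 5 [4, 4, 7, 5, 7, 5, 2, 5, 4, 4, 7, 5, 2, 5, 4, 4, 2, 5, 4, 4, 7, 5, 2] (sel (ones 1755) ip5 70) = true := by decide +kernel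

theorem rot5_70r : band (Rule.ok (2 * 1) EX RL ⟨5 :: [4, 4, 7, 5, 7, 5, 2, 5, 4, 4, 7, 5, 2, 5, 4, 4, 2, 5, 4, 4, 7, 5, 2], [3, 4, 2, 4, 2, 2, 0, 3, 3, 5, 2, 0, 4, 3], 6, true⟩) (lall (memL L) [4, 4, 7, 5, 7, 5, 2, 5, 4, 4, 7, 5, 2, 5, 4, 4, 2, 5, 4, 4, 7, 5, 2]) = true := by decide +kernel

theorem rot5_71 : T.rot 5 [2, 5, 4, 4, 7, 5, 2, 5, 4, 4, 2, 5, 4, 4, 7, 5, 2, 5, 4, 4, 7, 5, 7] (sel (ones 1755) ip5 71) = true := by decide +kernel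

theorem rot5_71r : band (Rule.ok (2 * 1) EX RL ⟨5 :: [2, 5, 4, 4, 7, 5, 2, 5, 4, 4, 2, 5, 4, 4, 7, 5, 2, 5, 4, 4, 7, 5, 7], [5, 0, 3, 4, 2, 2, 0, 3, 3, 5, 2, 5], 6, true⟩) (lall (memL L) [2, 5, 4, 4, 7, 5, 2, 5, 4, 4, 2, 5, 4, 4, 7, 5, 2, 5, 4, 4, 7, 5, 7]) = true := by decide +kernel

theorem rot5_72 : T.rot 5 [4, 4, 7, 5, 2, 5, 4, 4, 2, 5, 4, 4, 7, 5, 2, 5, 4, 4, 7, 5, 7, 5, 2] (sel (ones 1755) ip5 72) = true := by decide +kernel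

theorem rot5_72r : band (Rule.ok (2 * 1) EX RL ⟨5 :: [4, 4, 7, 5, 2, 5, 4, 4, 2, 5, 4, 4, 7, 5, 2, 5, 4, 4, 7, 5, 7, 5, 2], [5, 0, 3, 4, 2, 2, 0, 3, 3, 5], 6, true⟩) (lall (memL L) [4, 4, 7, 5, 2, 5, 4, 4, 2, 5, 4, 4, 7, 5, 2, 5, 4, 4, 7, 5, 7, 5, 2]) = true := by decide +kernel

theorem rot5_73 : T.rot 5 [2, 5, 4, 4, 2, 5, 4, 4, 7, 5, 2, 5, 4, 4, 7, 5, 7, 5, 2, 5, 4, 4, 7] (sel (ones 1755) ip5 73) = true := by decide +kernel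

theorem rot5_73r : band (Rule.ok (2 * 1) EX RL ⟨5 :: [2, 5, 4, 4, 2, 5, 4, 4, 7, 5, 2, 5, 4, 4, 7, 5, 7, 5, 2, 5, 4, 4, 7], [5], 6, true⟩) (lall (memL L) [2, 5, 4, 4, 2, 5, 4, 4, 7, 5, 2, 5, 4, 4, 7, 5, 7, 5, 2, 5, 4, 4, 7]) = true := by decide +kernel

theorem rot5_74 : T.rot 5 [2, 5, 4, 4, 7, 5, 2, 5, 4, 4, 7, 5, 2, 5, 4, 4, 7, 5, 2, 5, 4, 4, 7] (sel (ones 1755) ip5 74) = true := by decide +kernel

theorem rot5_74r : band (Rule.ok (2 * 1) EX RL ⟨5 :: [2, 5, 4, 4, 7, 5, 2, 5, 4, 4, 7, 5, 2, 5, 4, 4, 7, 5, 2, 5, 4, 4, 7], [5], 7, true⟩) (lall (memL L) [2, 5, 4, 4, 7, 5, 2, 5, 4, 4, 7, 5, 2, 5, 4, 4, 7, 5, 2, 5, 4, 4, 7]) = true := by decide +kernel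

theorem cov5 : T.cover 5 [(sel (ones 1755) ip5 1), (sel (ones 1755) ip5 2), (sel (ones 1755) ip5 3), (sel (ones 1755) ip5 4), (sel (ones 1755) ip5 5), (sel (ones 1755) ip5 6), (sel (ones 1755) ip5 7), (sel (ones 1755) ip5 8), (sel (ones 1755) ip5 9), (sel (ones 1755) ip5 10), (sel (ones 1755) ip5 11), (sel (ones 1755) ip5 12), (sel (ones 1755) ip5 13), (sel (ones 1755) ip5 14), (sel (ones 1755) ip5 15), (sel (ones 1755) ip5 16), (sel (ones 1755) ip5 17), (sel (ones 1755) ip5 18), (sel (ones 1755) ip5 19), (sel (ones 1755) ip5 20), (sel (ones 1755) ip5 21), (sel (ones 1755) ip5 22), (sel (ones 1755) ip5 23), (sel (ones 1755) ip5 24), (sel (ones 1755) ip5 25), (sel (ones 1755) ip5 26), (sel (ones 1755) ip5 27), (sel (ones 1755) ip5 28), (sel (ones 1755) ip5 29), (sel (ones 1755) ip5 30), (sel (ones 1755)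 ip5 31), (sel (ones 1755) ip5 32), (sel (ones 1755) ip5 33), (sel (ones 1755) ip5 34), (sel (ones 1755) ip5 35), (sel (ones 1755) ip5 36), (sel (ones 1755) ip5 37), (sel (ones 1755) ip5 38), (sel (ones 1755) ip5 39), (sel (ones 1755) ip5 40), (sel (ones 1755) ip5 41), (sel (ones 1755) ip5 42), (sel (ones 1755) ip5 43), (sel (ones 1755) ip5 44), (sel (ones 1755) ip5 45), (sel (ones 1755) ip5 46), (sel (ones 1755) ip5 47), (sel (ones 1755) ip5 48), (sel (ones 1755) ip5 49), (sel (ones 1755) ip5 50), (sel (ones 1755) ip5 51), (sel (ones 1755) ip5 52), (sel (ones 1755) ip5 53), (sel (ones 1755) ip5 54), (sel (ones 1755) ip5 55), (sel (ones 1755) ip5 56), (sel (ones 1755) ip5 57), (sel (ones 1755) ip5 58), (sel (ones 1755) ip5 59), (sel (ones 1755) ip5 60), (sel (ones 1755) ip5 61), (sel (ones 1755) ip5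 62), (sel (ones 1755) ip5 63), (sel (ones 1755) ip5 64), (sel (ones 1755) ip5 65), (sel (ones 1755) ip5 66), (sel (ones 1755) ip5 67), (sel (ones 1755) ip5 68), (sel (ones 1755) ip5 69), (sel (ones 1755) ip5 70), (sel (ones 1755) ip5 71), (sel (ones 1755) ip5 72), (sel (ones 1755) ip5 73), (sel (ones 1755) ip5 74)] = true := by decide +kernel

theorem tl5 : T.treeLt 11 5 = true := by decide +kernel

theorem rot6_1 : T.rot 6 [6, 6, 6, 5, 3] (sel (ones 1755) ip6 1) = true := by decide +kernel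

theorem rot6_1r : band (Rule.ok (2 * 1) EX RL ⟨6 :: [6, 6, 6, 5, 3], [0], 5, true⟩) (lall (memL L) [6, 6, 6, 5, 3]) = true := by decide +kernel

theorem rot6_2 : T.rot 6 [6, 6, 5, 3, 6] (sel (ones 1755) ip6 2) = true := by decide +kernel

theorem rot6_2r : band (Rule.ok (2 * 1) EX RL ⟨6 :: [6, 6, 5, 3, 6], [0], 5, true⟩) (lall (memL L) [6, 6, 5, 3, 6]) = true := by decide +kernel

theorem rot6_3 : T.rot 6 [6, 5, 3, 6, 6] (sel (ones 1755) ip6 3) = true := by decide +kernel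

theorem rot6_3r : band (Rule.ok (2 * 1) EX RL ⟨6 :: [6, 5, 3, 6, 6], [0], 5, true⟩) (lall (memL L) [6, 5, 3, 6, 6]) = true := by decide +kernel

theorem rot6_4 : T.rot 6 [5, 3, 6, 6, 6] (sel (ones 1755) ip6 4) = true := by decide +kernel

theorem rot6_4r : band (Rule.ok (2 * 1) EX RL ⟨6 :: [5, 3, 6, 6, 6], [0], 5, true⟩) (lall (memL L) [5, 3, 6, 6, 6]) = true := by decide +kernel

theorem rot6_5 : T.rot 6 [1, 2, 2, 3, 4, 1] (sel (ones 1755) ip6 5) = true := by decide +kernel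

theorem rot6_5r : band (Rule.ok (2 * 1) EX RL ⟨6 :: [1, 2, 2, 3, 4, 1], [], 18, false⟩) (lall (memL L) [1, 2, 2, 3, 4, 1]) = true := by decide +kernel

theorem rot6_6 : T.rot 6 [3, 6, 3, 6, 3, 6, 3] (sel (ones 1755) ip6 6) = true := by decide +kernel

theorem rot6_6r : band (Rule.ok (2 * 1) EX RL ⟨6 :: [3, 6, 3, 6, 3, 6, 3], [5], 0, false⟩) (lall (memL L) [3, 6, 3, 6, 3, 6, 3]) = true := by decide +kernel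

theorem rot6_7 : T.rot 6 [3, 2, 2, 3, 4, 7, 2, 3, 3, 2] (sel (ones 1755) ip6 7) = true := by decide +kernel

theorem rot6_7r : band (Rule.ok (2 * 1) EX RL ⟨6 :: [3, 2, 2, 3, 4, 7, 2, 3, 3, 2], [3, 5, 5, 3], 13, true⟩) (lall (memL L) [3, 2, 2, 3, 4, 7, 2, 3, 3, 2]) = true := by decide +kernel

theorem rot6_8 : T.rot 6 [2, 5, 4, 4, 5, 7, 4, 5, 5, 4] (sel (ones 1755) ip6 8) = true := by decide +kernel

theorem rot6_8r : band (Rule.ok (2 * 1) EX RL ⟨6 :: [2, 5, 4, 4, 5, 7, 4, 5, 5, 4], [], 13, false⟩) (lall (memL L) [2, 5, 4, 4, 5, 7, 4, 5, 5, 4]) = true := by decide +kernel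

theorem rot6_9 : T.rot 6 [3, 6, 3, 3, 6, 5, 7, 5, 7, 7, 5] (sel (ones 1755) ip6 9) = true := by decide +kernel

theorem rot6_9r : band (Rule.ok (2 * 1) EX RL ⟨6 :: [3, 6, 3, 3, 6, 5, 7, 5, 7, 7, 5], [4, 0, 3, 3, 5, 2, 0, 4, 0, 3, 3, 5, 3, 5, 2, 0, 4], 2, true⟩) (lall (memL L) [3, 6, 3, 3, 6, 5, 7, 5, 7, 7, 5]) = true := by decide +kernel

theorem rot6_10 : T.rot 6 [3, 3, 6, 5, 7, 5, 7, 7, 5, 6, 3] (sel (ones 1755) ip6 10) = true := by decide +kernel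

theorem rot6_10r : band (Rule.ok (2 * 1) EX RL ⟨6 :: [3, 3, 6, 5, 7, 5, 7, 7, 5, 6, 3], [0, 3, 3, 5, 2, 0, 4, 4, 0, 3, 3, 5, 2, 0], 2, true⟩) (lall (memL L) [3, 3, 6, 5, 7, 5, 7, 7, 5, 6, 3]) = true := by decide +kernel

theorem rot6_11 : T.rot 6 [5, 7, 5, 7, 7, 5, 6, 3, 6, 3, 3] (sel (ones 1755) ip6 11) = true := by decide +kernel

theorem rot6_11r : band (Rule.ok (2 * 1) EX RL ⟨6 :: [5, 7, 5, 7, 7, 5, 6, 3, 6, 3, 3], [0, 3, 3, 5, 2, 0], 2, true⟩) (lall (memL L) [5, 7, 5, 7, 7, 5, 6, 3, 6, 3, 3]) = true := by decide +kernel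

theorem rot6_12 : T.rot 6 [6, 3, 6, 3, 7, 5, 5, 7, 5, 7, 3] (sel (ones 1755) ip6 12) = true := by decide +kernel

theorem rot6_12r : band (Rule.ok (2 * 1) EX RL ⟨6 :: [6, 3, 6, 3, 7, 5, 5, 7, 5, 7, 3], [4, 0, 3, 3, 5, 2, 0, 4, 0, 3, 3, 5, 3, 5, 2, 0], 2, false⟩) (lall (memL L) [6, 3, 6, 3, 7, 5, 5, 7, 5, 7, 3]) = true := by decide +kernel

theorem rot6_13 : T.rot 6 [3, 6, 3, 7, 5, 5, 7, 5, 7, 3, 6] (sel (ones 1755) ip6 13) = true := by decide +kernel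

theorem rot6_13r : band (Rule.ok (2 * 1) EX RL ⟨6 :: [3, 6, 3, 7, 5, 5, 7, 5, 7, 3, 6], [4, 0, 3, 3, 5, 2, 0, 4, 0, 3, 3, 5, 2, 0], 2, false⟩) (lall (memL L) [3, 6, 3, 7, 5, 5, 7, 5, 7, 3, 6]) = true := by decide +kernel

theorem rot6_14 : T.rot 6 [3, 7, 5, 5, 7, 5, 7, 3, 6, 6, 3] (sel (ones 1755) ip6 14) = true := by decide +kernel

theorem rot6_14r : band (Rule.ok (2 * 1) EX RL ⟨6 :: [3, 7, 5, 5, 7, 5, 7, 3, 6, 6, 3], [4, 0, 3, 3, 5, 2, 0], 2, false⟩) (lall (memL L) [3, 7, 5, 5, 7, 5, 7, 3, 6, 6, 3]) = true := by decide +kernel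

theorem rot6_15 : T.rot 6 [5, 4, 7, 2, 2, 3, 4, 5, 7, 7, 2, 3] (sel (ones 1755) ip6 15) = true := by decide +kernel

theorem rot6_15r : band (Rule.ok (2 * 1) EX RL ⟨6 :: [5, 4, 7, 2, 2, 3, 4, 5, 7, 7, 2, 3], [3, 5], 14, true⟩) (lall (memL L) [5, 4, 7, 2, 2, 3, 4, 5, 7, 7, 2, 3]) = true := by decide +kernel

theorem rot6_16 : T.rot 6 [6, 3, 2, 5, 4, 4, 6, 2, 3, 7, 5, 4] (sel (ones 1755) ip6 16) = true := by decide +kernel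

theorem rot6_16r : band (Rule.ok (2 * 1) EX RL ⟨6 :: [6, 3, 2, 5, 4, 4, 6, 2, 3, 7, 5, 4], [], 14, false⟩) (lall (memL L) [6, 3, 2, 5, 4, 4, 6, 2, 3, 7, 5, 4]) = true := by decide +kernel

theorem rot6_17 : T.rot 6 [3, 2, 5, 4, 4, 6, 2, 3, 7, 5, 4, 6] (sel (ones 1755) ip6 17) = true := by decide +kernel

theorem rot6_17r : band (Rule.ok (2 * 1) EX RL ⟨6 :: [3, 2, 5, 4, 4, 6, 2, 3, 7, 5, 4, 6], [0, 3, 4, 2, 2, 0], 14, false⟩) (lall (memL L) [3, 2, 5, 4, 4, 6, 2, 3, 7, 5, 4, 6]) = true := by decide +kernel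

theorem rot6_18 : T.rot 6 [2, 3, 7, 5, 4, 6, 6, 3, 2, 5, 4, 4] (sel (ones 1755) ip6 18) = true := by decide +kernel

theorem rot6_18r : band (Rule.ok (2 * 1) EX RL ⟨6 :: [2, 3, 7, 5, 4, 6, 6, 3, 2, 5, 4, 4], [0, 3, 4, 2, 4, 2, 2, 0, 5, 3, 4, 2, 2], 14, false⟩) (lall (memL L) [2, 3, 7, 5, 4, 6, 6, 3, 2, 5, 4, 4]) = true := by decide +kernel

theorem rot6_19 : T.rot 6 [3, 2, 5, 4, 4, 5, 5, 7, 2, 2, 3, 4, 3] (sel (ones 1755) ip6 19) = true := by decide +kernel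

theorem rot6_19r : band (Rule.ok (2 * 1) EX RL ⟨6 :: [3, 2, 5, 4, 4, 5, 5, 7, 2, 2, 3, 4, 3], [0, 3, 3, 5, 2, 0], 9, true⟩) (lall (memL L) [3, 2, 5, 4, 4, 5, 5, 7, 2, 2, 3, 4, 3]) = true := by decide +kernel

theorem rot6_20 : T.rot 6 [3, 3, 2, 2, 3, 4, 5, 7, 5, 2, 5, 4, 4] (sel (ones 1755) ip6 20) = true := by decide +kernel

theorem rot6_20r : band (Rule.ok (2 * 1) EX RL ⟨6 :: [3, 3, 2, 2, 3, 4, 5, 7, 5, 2, 5, 4, 4], [0, 3, 3, 5, 2, 0, 4, 3, 4, 2, 2], 9, false⟩) (lall (memL L) [3, 3, 2, 2, 3, 4, 5, 7, 5, 2, 5, 4, 4]) = true := by decide +kernel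

theorem rot6_21 : T.rot 6 [4, 2, 5, 4, 4, 5, 7, 3, 2, 2, 3, 4, 2] (sel (ones 1755) ip6 21) = true := by decide +kernel

theorem rot6_21r : band (Rule.ok (2 * 1) EX RL ⟨6 :: [4, 2, 5, 4, 4, 5, 7, 3, 2, 2, 3, 4, 2], [3], 12, true⟩) (lall (memL L) [4, 2, 5, 4, 4, 5, 7, 3, 2, 2, 3, 4, 2]) = true := by decide +kernel

theorem rot6_22 : T.rot 6 [3, 2, 2, 3, 4, 2, 7, 4, 2, 5, 4, 4, 5] (sel (ones 1755) ip6 22) = true := by decide +kernel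

theorem rot6_22r : band (Rule.ok (2 * 1) EX RL ⟨6 :: [3, 2, 2, 3, 4, 2, 7, 4, 2, 5, 4, 4, 5], [3, 4, 2, 2, 4], 12, false⟩) (lall (memL L) [3, 2, 2, 3, 4, 2, 7, 4, 2, 5, 4, 4, 5]) = true := by decide +kernel

theorem rot6_23 : T.rot 6 [3, 3, 6, 2, 5, 4, 4, 5, 7, 2, 2, 3, 4, 7, 5] (sel (ones 1755) ip6 23) = true := by decide +kernel

theorem rot6_23r : band (Rule.ok (2 * 1) EX RL ⟨6 :: [3, 3, 6, 2, 5, 4, 4, 5, 7, 2, 2, 3, 4, 7, 5], [0, 3, 3, 5, 2, 0, 4, 4, 0, 3, 3, 5, 2, 0], 1, true⟩) (lall (memL L) [3, 3, 6, 2, 5, 4, 4, 5, 7, 2, 2, 3, 4, 7, 5]) = true := by decide +kernel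

theorem rot6_24 : T.rot 6 [2, 5, 4, 4, 5, 7, 2, 2, 3, 4, 7, 5, 6, 3, 3] (sel (ones 1755) ip6 24) = true := by decide +kernel

theorem rot6_24r : band (Rule.ok (2 * 1) EX RL ⟨6 :: [2, 5, 4, 4, 5, 7, 2, 2, 3, 4, 7, 5, 6, 3, 3], [0, 3, 3, 5, 2, 0], 1, true⟩) (lall (memL L) [2, 5, 4, 4, 5, 7, 2, 2, 3, 4, 7, 5, 6, 3, 3]) = true := by decide +kernel

theorem rot6_25 : T.rot 6 [2, 5, 4, 4, 6, 3, 2, 2, 3, 4, 7, 5, 5, 7, 3] (sel (ones 1755) ip6 25) = true := by decide +kernel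

theorem rot6_25r : band (Rule.ok (2 * 1) EX RL ⟨6 :: [2, 5, 4, 4, 6, 3, 2, 2, 3, 4, 7, 5, 5, 7, 3], [0, 3, 3, 5, 2, 0, 4, 4, 0, 3, 3, 5, 2, 0, 5], 1, false⟩) (lall (memL L) [2, 5, 4, 4, 6, 3, 2, 2, 3, 4, 7, 5, 5, 7, 3]) = true := by decide +kernel

theorem rot6_26 : T.rot 6 [3, 2, 2, 3, 4, 7, 5, 5, 7, 3, 6, 2, 5, 4, 4] (sel (ones 1755) ip6 26) = true := by decide +kernel

theorem rot6_26r : band (Rule.ok (2 * 1) EX RL ⟨6 :: [3, 2, 2, 3, 4, 7, 5, 5, 7, 3, 6, 2, 5, 4, 4], [3, 4, 2, 2, 4, 0, 3, 3, 5, 2, 0], 1, false⟩) (lall (memL L) [3, 2, 2, 3, 4, 7, 5, 5, 7, 3, 6, 2, 5, 4, 4]) = true := by decide +kernel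

theorem rot6_27 : T.rot 6 [3, 2, 5, 4, 4, 6, 3, 6, 3, 2, 2, 3, 4, 6, 3] (sel (ones 1755) ip6 27) = true := by decide +kernel

theorem rot6_27r : band (Rule.ok (2 * 1) EX RL ⟨6 :: [3, 2, 5, 4, 4, 6, 3, 6, 3, 2, 2, 3, 4, 6, 3], [], 3, false⟩) (lall (memL L) [3, 2, 5, 4, 4, 6, 3, 6, 3, 2, 2, 3, 4, 6, 3]) = true := by decide +kernel

theorem rot6_28 : T.rot 6 [3, 6, 3, 2, 2, 3, 4, 6, 3, 6, 3, 2, 5, 4, 4] (sel (ones 1755) ip6 28) = true := by decide +kernel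

theorem rot6_28r : band (Rule.ok (2 * 1) EX RL ⟨6 :: [3, 6, 3, 2, 2, 3, 4, 6, 3, 6, 3, 2, 5, 4, 4], [0, 3, 4, 2, 2, 0, 5, 3, 4, 2, 2], 3, false⟩) (lall (memL L) [3, 6, 3, 2, 2, 3, 4, 6, 3, 6, 3, 2, 5, 4, 4]) = true := by decide +kernel

theorem rot6_29 : T.rot 6 [3, 2, 2, 3, 4, 6, 3, 6, 3, 2, 5, 4, 4, 6, 3] (sel (ones 1755) ip6 29) = true := by decide +kernel

theorem rot6_29r : band (Rule.ok (2 * 1) EX RL ⟨6 :: [3, 2, 2, 3, 4, 6, 3, 6, 3, 2, 5, 4, 4, 6, 3], [4, 0, 3, 3, 5, 2, 0, 3, 4, 2, 2, 4, 0, 3, 3, 5, 2, 0], 3, false⟩) (lall (memL L) [3, 2, 2, 3, 4, 6, 3, 6, 3, 2, 5, 4, 4, 6, 3]) = true := by decide +kernel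

theorem rot6_30 : T.rot 6 [3, 6, 3, 2, 5, 4, 4, 6, 3, 6, 3, 2, 2, 3, 4] (sel (ones 1755) ip6 30) = true := by decide +kernel

theorem rot6_30r : band (Rule.ok (2 * 1) EX RL ⟨6 :: [3, 6, 3, 2, 5, 4, 4, 6, 3, 6, 3, 2, 2, 3, 4], [4, 0, 3, 3, 5, 2, 0], 3, false⟩) (lall (memL L) [3, 6, 3, 2, 5, 4, 4, 6, 3, 6, 3, 2, 2, 3, 4]) = true := by decide +kernel

theorem rot6_31 : T.rot 6 [5, 7, 7, 5, 2, 5, 4, 4, 2, 5, 4, 4, 5, 7, 3] (sel (ones 1755) ip6 31) = true := by decide +kernel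

theorem rot6_31r : band (Rule.ok (2 * 1) EX RL ⟨6 :: [5, 7, 7, 5, 2, 5, 4, 4, 2, 5, 4, 4, 5, 7, 3], [3, 4, 2, 4, 2, 2, 4, 0, 3, 3, 5, 2, 0, 5], 4, true⟩) (lall (memL L) [5, 7, 7, 5, 2, 5, 4, 4, 2, 5, 4, 4, 5, 7, 3]) = true := by decide +kernel

theorem rot6_32 : T.rot 6 [6, 3, 7, 5, 6, 3, 2, 2, 3, 4, 2, 2, 3, 4, 3] (sel (ones 1755) ip6 32) = true := by decide +kernel

theorem rot6_32r : band (Rule.ok (2 * 1) EX RL ⟨6 :: [6, 3, 7, 5, 6, 3, 2, 2, 3, 4, 2, 2, 3, 4, 3], [5], 4, false⟩) (lall (memL L) [6, 3, 7, 5, 6, 3, 2, 2, 3, 4, 2, 2, 3, 4, 3]) = true := by decide +kernel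

theorem rot6_33 : T.rot 6 [3, 7, 5, 6, 3, 2, 2, 3, 4, 2, 2, 3, 4, 3, 6] (sel (ones 1755) ip6 33) = true := by decide +kernel

theorem rot6_33r : band (Rule.ok (2 * 1) EX RL ⟨6 :: [3, 7, 5, 6, 3, 2, 2, 3, 4, 2, 2, 3, 4, 3, 6], [5, 0, 3, 4, 2, 2, 0], 4, false⟩) (lall (memL L) [3, 7, 5, 6, 3, 2, 2, 3, 4, 2, 2, 3, 4, 3, 6]) = true := by decide +kernel

theorem rot6_34 : T.rot 6 [3, 2, 2, 3, 4, 2, 2, 3, 4, 3, 6, 6, 3, 7, 5] (sel (ones 1755) ip6 34) = true := by decide +kernel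

theorem rot6_34r : band (Rule.ok (2 * 1) EX RL ⟨6 :: [3, 2, 2, 3, 4, 2, 2, 3, 4, 3, 6, 6, 3, 7, 5], [3, 4, 2, 4, 2, 2, 4, 0, 3, 3, 5, 2, 0], 4, false⟩) (lall (memL L) [3, 2, 2, 3, 4, 2, 2, 3, 4, 3, 6, 6, 3, 7, 5]) = true := by decide +kernel

theorem rot6_35 : T.rot 6 [5, 3, 6, 6, 3, 3, 6, 2, 2, 3, 4, 3, 3, 2, 5, 4, 4] (sel (ones 1755) ip6 35) = true := by decide +kernel

theorem rot6_35r : band (Rule.ok (2 * 1) EX RL ⟨6 :: [5, 3, 6, 6, 3, 3, 6, 2, 2, 3, 4, 3, 3, 2, 5, 4, 4], [5, 5, 3, 4, 2, 2], 10, true⟩) (lall (memL L) [5, 3, 6, 6, 3, 3, 6, 2, 2, 3, 4, 3, 3, 2, 5, 4, 4]) = true := by decide +kernel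

theorem rot6_36 : T.rot 6 [6, 3, 3, 6, 2, 2, 3, 4, 3, 3, 2, 5, 4, 4, 6, 5, 3] (sel (ones 1755) ip6 36) = true := by decide +kernel

theorem rot6_36r : band (Rule.ok (2 * 1) EX RL ⟨6 :: [6, 3, 3, 6, 2, 2, 3, 4, 3, 3, 2, 5, 4, 4, 6, 5, 3], [5, 5, 3, 4, 2, 2, 0, 3, 4, 2, 2, 0], 10, true⟩) (lall (memL L) [6, 3, 3, 6, 2, 2, 3, 4, 3, 3, 2, 5, 4, 4, 6, 5, 3]) = true := by decide +kernel

theorem rot6_37 : T.rot 6 [3, 3, 6, 2, 2, 3, 4, 3, 3, 2, 5, 4, 4, 6, 5, 3, 6] (sel (ones 1755) ip6 37) = true := by decide +kernel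

theorem rot6_37r : band (Rule.ok (2 * 1) EX RL ⟨6 :: [3, 3, 6, 2, 2, 3, 4, 3, 3, 2, 5, 4, 4, 6, 5, 3, 6], [5, 5, 3, 4, 2, 2, 0, 3, 4, 2, 4, 2, 2, 0], 10, true⟩) (lall (memL L) [3, 3, 6, 2, 2, 3, 4, 3, 3, 2, 5, 4, 4, 6, 5, 3, 6]) = true := by decide +kernel

theorem rot6_38 : T.rot 6 [2, 2, 3, 4, 3, 3, 2, 5, 4, 4, 6, 5, 3, 6, 6, 3, 3] (sel (ones 1755) ip6 38) = true := by decide +kernel

theorem rot6_38r : band (Rule.ok (2 * 1) EX RL ⟨6 :: [2, 2, 3, 4, 3, 3, 2, 5, 4, 4, 6, 5, 3, 6, 6, 3, 3], [3, 4, 2, 2, 0, 3, 3, 5, 2, 0], 10, true⟩) (lall (memL L) [2, 2, 3, 4, 3, 3, 2, 5, 4, 4, 6, 5, 3, 6, 6, 3, 3]) = true := by decide +kernel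

theorem rot6_39 : T.rot 6 [2, 5, 4, 1, 2, 3, 2, 2, 1, 4, 4, 5, 4, 1, 2, 3, 7, 4] (sel (ones 1755) ip6 39) = true := by decide +kernel

theorem rot6_39r : band (Rule.ok (2 * 1) EX RL ⟨6 :: [2, 5, 4, 1, 2, 3, 2, 2, 1, 4, 4, 5, 4, 1, 2, 3, 7, 4], [3, 5, 2, 0, 3, 3, 5, 2, 0], 17, true⟩) (lall (memL L) [2, 5, 4, 1, 2, 3, 2, 2, 1, 4, 4, 5, 4, 1, 2, 3, 7, 4]) = true := by decide +kernel

theorem rot6_40 : T.rot 6 [5, 4, 1, 2, 3, 2, 2, 1, 4, 4, 5, 4, 1, 2, 3, 4, 7, 2] (sel (ones 1755) ip6 40) = true := by decide +kernel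

theorem rot6_40r : band (Rule.ok (2 * 1) EX RL ⟨6 :: [5, 4, 1, 2, 3, 2, 2, 1, 4, 4, 5, 4, 1, 2, 3, 4, 7, 2], [3, 5, 2, 0, 3, 3, 5, 2, 0, 3], 17, false⟩) (lall (memL L) [5, 4, 1, 2, 3, 2, 2, 1, 4, 4, 5, 4, 1, 2, 3, 4, 7, 2]) = true := by decide +kernel

theorem rot6_41 : T.rot 6 [2, 2, 3, 4, 3, 6, 3, 6, 2, 2, 3, 4, 3, 6, 2, 2, 3, 4, 2, 2, 3, 4, 3] (sel (ones 1755) ip6 41) = true := by decide +kernel

theorem rot6_41r : band (Rule.ok (2 * 1) EX RL ⟨6 :: [2, 2, 3, 4, 3, 6, 3, 6, 2, 2, 3, 4, 3, 6, 2, 2, 3, 4, 2, 2, 3, 4, 3], [5], 6, false⟩) (lall (memL L) [2, 2, 3, 4, 3, 6, 3, 6, 2, 2, 3, 4, 3, 6, 2, 2, 3, 4, 2, 2, 3, 4, 3]) = true := by decide +kernel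

theorem rot6_42 : T.rot 6 [3, 6, 2, 2, 3, 4, 3, 6, 2, 2, 3, 4, 2, 2, 3, 4, 3, 6, 2, 2, 3, 4, 3] (sel (ones 1755) ip6 42) = true := by decide +kernel

theorem rot6_42r : band (Rule.ok (2 * 1) EX RL ⟨6 :: [3, 6, 2, 2, 3, 4, 3, 6, 2, 2, 3, 4, 2, 2, 3, 4, 3, 6, 2, 2, 3, 4, 3], [5, 0, 3, 4, 2, 2, 0, 3, 3, 5, 2, 5], 6, false⟩) (lall (memL L) [3, 6, 2, 2, 3, 4, 3, 6, 2, 2, 3, 4, 2, 2, 3, 4, 3, 6, 2, 2, 3, 4, 3]) = true := by decide +kernel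

theorem rot6_43 : T.rot 6 [2, 2, 3, 4, 3, 6, 2, 2, 3, 4, 2, 2, 3, 4, 3, 6, 2, 2, 3, 4, 3, 6, 3] (sel (ones 1755) ip6 43) = true := by decide +kernel

theorem rot6_43r : band (Rule.ok (2 * 1) EX RL ⟨6 :: [2, 2, 3, 4, 3, 6, 2, 2, 3, 4, 2, 2, 3, 4, 3, 6, 2, 2, 3, 4, 3, 6, 3], [5, 0, 3, 4, 2, 2, 0, 3, 3, 5, 2, 5, 0, 3, 4, 2, 2, 0, 5], 6, false⟩) (lall (memL L) [2, 2, 3, 4, 3, 6, 2, 2, 3, 4, 2, 2, 3, 4, 3, 6, 2, 2, 3, 4, 3, 6, 3]) = true := by decide +kernel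

theorem rot6_44 : T.rot 6 [2, 2, 3, 4, 2, 2, 3, 4, 3, 6, 2, 2, 3, 4, 3, 6, 3, 6, 2, 2, 3, 4, 3] (sel (ones 1755) ip6 44) = true := by decide +kernel

theorem rot6_44r : band (Rule.ok (2 * 1) EX RL ⟨6 :: [2, 2, 3, 4, 2, 2, 3, 4, 3, 6, 2, 2, 3, 4, 3, 6, 3, 6, 2, 2, 3, 4, 3], [3, 4, 2, 4, 2, 2, 0, 3, 3, 5, 2, 0], 6, false⟩) (lall (memL L) [2, 2, 3, 4, 2, 2, 3, 4, 3, 6, 2, 2, 3, 4, 3, 6, 3, 6, 2, 2, 3, 4, 3]) = true := by decide +kernel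

theorem rot6_45 : T.rot 6 [2, 2, 3, 4, 3, 6, 2, 2, 3, 4, 3, 6, 2, 2, 3, 4, 3, 6, 2, 2, 3, 4, 3] (sel (ones 1755) ip6 45) = true := by decide +kernel

theorem rot6_45r : band (Rule.ok (2 * 1) EX RL ⟨6 :: [2, 2, 3, 4, 3, 6, 2, 2, 3, 4, 3, 6, 2, 2, 3, 4, 3, 6, 2, 2, 3, 4, 3], [5], 7, false⟩) (lall (memL L) [2, 2, 3, 4, 3, 6, 2, 2, 3, 4, 3, 6, 2, 2, 3, 4, 3, 6, 2, 2, 3, 4, 3]) = true := by decide +kernel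

theorem cov6 : T.cover 6 [(sel (ones 1755) ip6 1), (sel (ones 1755) ip6 2), (sel (ones 1755) ip6 3), (sel (ones 1755) ip6 4), (sel (ones 1755) ip6 5), (sel (ones 1755) ip6 6), (sel (ones 1755) ip6 7), (sel (ones 1755) ip6 8), (sel (ones 1755) ip6 9), (sel (ones 1755) ip6 10), (sel (ones 1755) ip6 11), (sel (ones 1755) ip6 12), (sel (ones 1755) ip6 13), (sel (ones 1755) ip6 14), (sel (ones 1755) ip6 15), (sel (ones 1755) ip6 16), (sel (ones 1755) ip6 17), (sel (ones 1755) ip6 18), (sel (ones 1755) ip6 19), (sel (ones 1755) ip6 20), (sel (ones 1755) ip6 21), (sel (ones 1755) ip6 22), (sel (ones 1755) ip6 23), (sel (ones 1755) ip6 24), (sel (ones 1755) ip6 25), (sel (ones 1755) ip6 26), (sel (ones 1755) ip6 27), (sel (ones 1755) ip6 28), (sel (ones 1755) ip6 29), (sel (ones 1755) ip6 30), (sel (ones 1755)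 ip6 31), (sel (ones 1755) ip6 32), (sel (ones 1755) ip6 33), (sel (ones 1755) ip6 34), (sel (ones 1755) ip6 35), (sel (ones 1755) ip6 36), (sel (ones 1755) ip6 37), (sel (ones 1755) ip6 38), (sel (ones 1755) ip6 39), (sel (ones 1755) ip6 40), (sel (ones 1755) ip6 41), (sel (ones 1755) ip6 42), (sel (ones 1755) ip6 43), (sel (ones 1755) ip6 44), (sel (ones 1755) ip6 45), 1] = true := by decide +kernel

theorem tl6 : Nat.beq (T.let 6).tt 0 = true := by decide +kernel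

theorem rot7_1 : T.rot 7 [6, 3, 3, 3, 3] (sel (ones 1755) ip7 1) = true := by decide +kernel

theorem rot7_1r : band (Rule.ok (2 * 1) EX RL ⟨7 :: [6, 3, 3, 3, 3], [], 8, true⟩) (lall (memL L) [6, 3, 3, 3, 3]) = true := by decide +kernel

theorem rot7_2 : T.rot 7 [7, 7, 7, 5, 3] (sel (ones 1755) ip7 2) = true := by decide +kernel

theorem rot7_2r : band (Rule.ok (2 * 1) EX RL ⟨7 :: [7, 7, 7, 5, 3], [0], 5, false⟩) (lall (memL L) [7, 7, 7, 5, 3]) = true := by decide +kernel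

theorem rot7_3 : T.rot 7 [7, 7, 5, 3, 7] (sel (ones 1755) ip7 3) = true := by decide +kernel

theorem rot7_3r : band (Rule.ok (2 * 1) EX RL ⟨7 :: [7, 7, 5, 3, 7], [0], 5, false⟩) (lall (memL L) [7, 7, 5, 3, 7]) = true := by decide +kernel

theorem rot7_4 : T.rot 7 [7, 5, 3, 7, 7] (sel (ones 1755) ip7 4) = true := by decide +kernel

theorem rot7_4r : band (Rule.ok (2 * 1) EX RL ⟨7 :: [7, 5, 3, 7, 7], [0], 5, false⟩) (lall (memL L) [7, 5, 3, 7, 7]) = true := by decide +kernel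

theorem rot7_5 : T.rot 7 [5, 3, 7, 7, 7] (sel (ones 1755) ip7 5) = true := by decide +kernel

theorem rot7_5r : band (Rule.ok (2 * 1) EX RL ⟨7 :: [5, 3, 7, 7, 7], [0], 5, false⟩) (lall (memL L) [5, 3, 7, 7, 7]) = true := by decide +kernel

theorem rot7_6 : T.rot 7 [1, 2, 5, 4, 4, 1] (sel (ones 1755) ip7 6) = true := by decide +kernel

theorem rot7_6r : band (Rule.ok (2 * 1) EX RL ⟨7 :: [1, 2, 5, 4, 4, 1], [], 18, false⟩) (lall (memL L) [1, 2, 5, 4, 4, 1]) = true := by decide +kernel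

theorem rot7_7 : T.rot 7 [5, 7, 5, 7, 5, 7, 5] (sel (ones 1755) ip7 7) = true := by decide +kernel

theorem rot7_7r : band (Rule.ok (2 * 1) EX RL ⟨7 :: [5, 7, 5, 7, 5, 7, 5], [], 0, true⟩) (lall (memL L) [5, 7, 5, 7, 5, 7, 5]) = true := by decide +kernel

theorem rot7_8 : T.rot 7 [2, 3, 3, 2, 6, 3, 2, 2, 3, 4] (sel (ones 1755) ip7 8) = true := by decide +kernel

theorem rot7_8r : band (Rule.ok (2 * 1) EX RL ⟨7 :: [2, 3, 3, 2, 6, 3, 2, 2, 3, 4], [0, 3, 4, 2, 2, 0], 13, true⟩) (lall (memL L) [2, 3, 3, 2, 6, 3, 2, 2, 3, 4]) = true := by decide +kernel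

theorem rot7_9 : T.rot 7 [4, 5, 5, 4, 6, 2, 5, 4, 4, 5] (sel (ones 1755) ip7 9) = true := by decide +kernel

theorem rot7_9r : band (Rule.ok (2 * 1) EX RL ⟨7 :: [4, 5, 5, 4, 6, 2, 5, 4, 4, 5], [3, 5, 5, 3, 0, 3, 4, 2, 2, 0], 13, false⟩) (lall (memL L) [4, 5, 5, 4, 6, 2, 5, 4, 4, 5]) = true := by decide +kernel

theorem rot7_10 : T.rot 7 [5, 7, 7, 5, 6, 3, 6, 3, 3, 6, 5] (sel (ones 1755) ip7 10) = true := by decide +kernel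

theorem rot7_10r : band (Rule.ok (2 * 1) EX RL ⟨7 :: [5, 7, 7, 5, 6, 3, 6, 3, 3, 6, 5], [4], 2, true⟩) (lall (memL L) [5, 7, 7, 5, 6, 3, 6, 3, 3, 6, 5]) = true := by decide +kernel

theorem rot7_11 : T.rot 7 [7, 5, 6, 3, 6, 3, 3, 6, 5, 7, 5] (sel (ones 1755) ip7 11) = true := by decide +kernel

theorem rot7_11r : band (Rule.ok (2 * 1) EX RL ⟨7 :: [7, 5, 6, 3, 6, 3, 3, 6, 5, 7, 5], [4, 0, 3, 3, 5, 2, 0, 4], 2, true⟩) (lall (memL L) [7, 5, 6, 3, 6, 3, 3, 6, 5, 7, 5]) = true := by decide +kernel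

theorem rot7_12 : T.rot 7 [5, 6, 3, 6, 3, 3, 6, 5, 7, 5, 7] (sel (ones 1755) ip7 12) = true := by decide +kernel

theorem rot7_12r : band (Rule.ok (2 * 1) EX RL ⟨7 :: [5, 6, 3, 6, 3, 3, 6, 5, 7, 5, 7], [4, 0, 3, 3, 5, 2, 0, 4, 0, 3, 3, 5, 2, 0], 2, true⟩) (lall (memL L) [5, 6, 3, 6, 3, 3, 6, 5, 7, 5, 7]) = true := by decide +kernel

theorem rot7_13 : T.rot 7 [5, 5, 7, 5, 7, 3, 6, 6, 3, 6, 3] (sel (ones 1755) ip7 13) = true := by decide +kernel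

theorem rot7_13r : band (Rule.ok (2 * 1) EX RL ⟨7 :: [5, 5, 7, 5, 7, 3, 6, 6, 3, 6, 3], [], 2, false⟩) (lall (memL L) [5, 5, 7, 5, 7, 3, 6, 6, 3, 6, 3]) = true := by decide +kernel

theorem rot7_14 : T.rot 7 [5, 7, 3, 6, 6, 3, 6, 3, 7, 5, 5] (sel (ones 1755) ip7 14) = true := by decide +kernel

theorem rot7_14r : band (Rule.ok (2 * 1) EX RL ⟨7 :: [5, 7, 3, 6, 6, 3, 6, 3, 7, 5, 5], [0, 3, 3, 5, 2, 0, 4, 4], 2, false⟩) (lall (memL L) [5, 7, 3, 6, 6, 3, 6, 3, 7, 5, 5]) = true := by decide +kernel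

theorem rot7_15 : T.rot 7 [3, 6, 6, 3, 6, 3, 7, 5, 5, 7, 5] (sel (ones 1755) ip7 15) = true := by decide +kernel

theorem rot7_15r : band (Rule.ok (2 * 1) EX RL ⟨7 :: [3, 6, 6, 3, 6, 3, 7, 5, 5, 7, 5], [0, 3, 3, 5, 2, 0, 4, 4, 0, 3, 3, 5, 2, 0, 4], 2, false⟩) (lall (memL L) [3, 6, 6, 3, 6, 3, 7, 5, 5, 7, 5]) = true := by decide +kernel

theorem rot7_16 : T.rot 7 [2, 2, 3, 4, 5, 7, 7, 2, 3, 6, 5, 4] (sel (ones 1755) ip7 16) = true := by decide +kernel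

theorem rot7_16r : band (Rule.ok (2 * 1) EX RL ⟨7 :: [2, 2, 3, 4, 5, 7, 7, 2, 3, 6, 5, 4], [3, 5, 0, 3, 4, 2, 2, 0, 4, 2], 14, true⟩) (lall (memL L) [2, 2, 3, 4, 5, 7, 7, 2, 3, 6, 5, 4]) = true := by decide +kernel

theorem rot7_17 : T.rot 7 [7, 2, 3, 6, 5, 4, 7, 2, 2, 3, 4, 5] (sel (ones 1755) ip7 17) = true := by decide +kernel

theorem rot7_17r : band (Rule.ok (2 * 1) EX RL ⟨7 :: [7, 2, 3, 6, 5, 4, 7, 2, 2, 3, 4, 5], [0, 3, 4, 2, 4, 2, 2, 0], 14, true⟩) (lall (memL L) [7, 2, 3, 6, 5, 4, 7, 2, 2, 3, 4, 5]) = true := by decide +kernel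

theorem rot7_18 : T.rot 7 [2, 3, 6, 5, 4, 7, 2, 2, 3, 4, 5, 7] (sel (ones 1755) ip7 18) = true := by decide +kernel

theorem rot7_18r : band (Rule.ok (2 * 1) EX RL ⟨7 :: [2, 3, 6, 5, 4, 7, 2, 2, 3, 4, 5, 7], [0, 3, 4, 2, 2, 0], 14, true⟩) (lall (memL L) [2, 3, 6, 5, 4, 7, 2, 2, 3, 4, 5, 7]) = true := by decide +kernel

theorem rot7_19 : T.rot 7 [5, 4, 6, 6, 3, 2, 5, 4, 4, 6, 2, 3] (sel (ones 1755) ip7 19) = true := by decide +kernel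

theorem rot7_19r : band (Rule.ok (2 * 1) EX RL ⟨7 :: [5, 4, 6, 6, 3, 2, 5, 4, 4, 6, 2, 3], [3, 5, 0, 3, 4, 2, 2, 0], 14, false⟩) (lall (memL L) [5, 4, 6, 6, 3, 2, 5, 4, 4, 6, 2, 3]) = true := by decide +kernel

theorem rot7_20 : T.rot 7 [2, 2, 3, 4, 3, 6, 3, 2, 5, 4, 4, 5, 5] (sel (ones 1755) ip7 20) = true := by decide +kernel

theorem rot7_20r : band (Rule.ok (2 * 1) EX RL ⟨7 :: [2, 2, 3, 4, 3, 6, 3, 2, 5, 4, 4, 5, 5], [5, 3, 4, 2, 2, 4, 4], 9, true⟩) (lall (memL L) [2, 2, 3, 4, 3, 6, 3, 2, 5, 4, 4, 5, 5]) = true := by decide +kernel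

theorem rot7_21 : T.rot 7 [5, 2, 5, 4, 4, 6, 3, 3, 2, 2, 3, 4, 5] (sel (ones 1755) ip7 21) = true := by decide +kernel

theorem rot7_21r : band (Rule.ok (2 * 1) EX RL ⟨7 :: [5, 2, 5, 4, 4, 6, 3, 3, 2, 2, 3, 4, 5], [], 9, false⟩) (lall (memL L) [5, 2, 5, 4, 4, 6, 3, 3, 2, 2, 3, 4, 5]) = true := by decide +kernel

theorem rot7_22 : T.rot 7 [3, 2, 2, 3, 4, 2, 6, 4, 2, 5, 4, 4, 5] (sel (ones 1755) ip7 22) = true := by decide +kernel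

theorem rot7_22r : band (Rule.ok (2 * 1) EX RL ⟨7 :: [3, 2, 2, 3, 4, 2, 6, 4, 2, 5, 4, 4, 5], [3, 4, 2, 2, 4, 0, 3, 4, 2, 2, 0], 12, true⟩) (lall (memL L) [3, 2, 2, 3, 4, 2, 6, 4, 2, 5, 4, 4, 5]) = true := by decide +kernel

theorem rot7_23 : T.rot 7 [4, 2, 5, 4, 4, 5, 6, 3, 2, 2, 3, 4, 2] (sel (ones 1755) ip7 23) = true := by decide +kernel

theorem rot7_23r : band (Rule.ok (2 * 1) EX RL ⟨7 :: [4, 2, 5, 4, 4, 5, 6, 3, 2, 2, 3, 4, 2], [3, 0, 3, 4, 2, 2, 0], 12, false⟩) (lall (memL L) [4, 2, 5, 4, 4, 5, 6, 3, 2, 2, 3, 4, 2]) = true := by decide +kernel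

theorem rot7_24 : T.rot 7 [2, 2, 3, 4, 7, 5, 6, 3, 3, 6, 2, 5, 4, 4, 5] (sel (ones 1755) ip7 24) = true := by decide +kernel

theorem rot7_24r : band (Rule.ok (2 * 1) EX RL ⟨7 :: [2, 2, 3, 4, 7, 5, 6, 3, 3, 6, 2, 5, 4, 4, 5], [3, 4, 2, 2, 4], 1, true⟩) (lall (memL L) [2, 2, 3, 4, 7, 5, 6, 3, 3, 6, 2, 5, 4, 4, 5]) = true := by decide +kernel

theorem rot7_25 : T.rot 7 [5, 6, 3, 3, 6, 2, 5, 4, 4, 5, 7, 2, 2, 3, 4] (sel (ones 1755) ip7 25) = true := by decide +kernel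

theorem rot7_25r : band (Rule.ok (2 * 1) EX RL ⟨7 :: [5, 6, 3, 3, 6, 2, 5, 4, 4, 5, 7, 2, 2, 3, 4], [3, 4, 2, 2, 4, 0, 3, 3, 5, 2, 0, 3, 3, 5, 2], 1, true⟩) (lall (memL L) [5, 6, 3, 3, 6, 2, 5, 4, 4, 5, 7, 2, 2, 3, 4]) = true := by decide +kernel

theorem rot7_26 : T.rot 7 [5, 5, 7, 3, 6, 2, 5, 4, 4, 6, 3, 2, 2, 3, 4] (sel (ones 1755) ip7 26) = true := by decide +kernel

theorem rot7_26r : band (Rule.ok (2 * 1) EX RL ⟨7 :: [5, 5, 7, 3, 6, 2, 5, 4, 4, 6, 3, 2, 2, 3, 4], [], 1, false⟩) (lall (memL L) [5, 5, 7, 3, 6, 2, 5, 4, 4, 6, 3, 2, 2, 3, 4]) = true := by decide +kernel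

theorem rot7_27 : T.rot 7 [3, 6, 2, 5, 4, 4, 6, 3, 2, 2, 3, 4, 7, 5, 5] (sel (ones 1755) ip7 27) = true := by decide +kernel

theorem rot7_27r : band (Rule.ok (2 * 1) EX RL ⟨7 :: [3, 6, 2, 5, 4, 4, 6, 3, 2, 2, 3, 4, 7, 5, 5], [0, 3, 3, 5, 2, 0, 4, 4], 1, false⟩) (lall (memL L) [3, 6, 2, 5, 4, 4, 6, 3, 2, 2, 3, 4, 7, 5, 5]) = true := by decide +kernel

theorem rot7_28 : T.rot 7 [2, 5, 4, 4, 5, 7, 5, 7, 2, 2, 3, 4, 5, 7, 5] (sel (ones 1755) ip7 28) = true := by decide +kernel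

theorem rot7_28r : band (Rule.ok (2 * 1) EX RL ⟨7 :: [2, 5, 4, 4, 5, 7, 5, 7, 2, 2, 3, 4, 5, 7, 5], [4], 3, true⟩) (lall (memL L) [2, 5, 4, 4, 5, 7, 5, 7, 2, 2, 3, 4, 5, 7, 5]) = true := by decide +kernel

theorem rot7_29 : T.rot 7 [5, 7, 2, 2, 3, 4, 5, 7, 5, 7, 2, 5, 4, 4, 5] (sel (ones 1755) ip7 29) = true := by decide +kernel

theorem rot7_29r : band (Rule.ok (2 * 1) EX RL ⟨7 :: [5, 7, 2, 2, 3, 4, 5, 7, 5, 7, 2, 5, 4, 4, 5], [4, 0, 3, 3, 5, 2, 0, 3, 4, 2, 2, 4], 3, true⟩) (lall (memL L) [5, 7, 2, 2, 3, 4, 5, 7, 5, 7, 2, 5, 4, 4, 5]) = true := by decide +kernel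

theorem rot7_30 : T.rot 7 [2, 2, 3, 4, 5, 7, 5, 7, 2, 5, 4, 4, 5, 7, 5] (sel (ones 1755) ip7 30) = true := by decide +kernel

theorem rot7_30r : band (Rule.ok (2 * 1) EX RL ⟨7 :: [2, 2, 3, 4, 5, 7, 5, 7, 2, 5, 4, 4, 5, 7, 5], [0, 3, 4, 2, 2, 0, 5, 3, 4, 2, 2, 0, 3, 4, 2, 2, 0], 3, true⟩) (lall (memL L) [2, 2, 3, 4, 5, 7, 5, 7, 2, 5, 4, 4, 5, 7, 5]) = true := by decide +kernel

theorem rot7_31 : T.rot 7 [5, 7, 2, 5, 4, 4, 5, 7, 5, 7, 2, 2, 3, 4, 5] (sel (ones 1755) ip7 31) = true := by decide +kernel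

theorem rot7_31r : band (Rule.ok (2 * 1) EX RL ⟨7 :: [5, 7, 2, 5, 4, 4, 5, 7, 5, 7, 2, 2, 3, 4, 5], [0, 3, 4, 2, 2, 0], 3, true⟩) (lall (memL L) [5, 7, 2, 5, 4, 4, 5, 7, 5, 7, 2, 2, 3, 4, 5]) = true := by decide +kernel

theorem rot7_32 : T.rot 7 [3, 6, 5, 7, 7, 5, 2, 5, 4, 4, 2, 5, 4, 4, 5] (sel (ones 1755) ip7 32) = true := by decide +kernel

theorem rot7_32r : band (Rule.ok (2 * 1) EX RL ⟨7 :: [3, 6, 5, 7, 7, 5, 2, 5, 4, 4, 2, 5, 4, 4, 5], [3, 4, 2, 4, 2, 2, 4], 4, true⟩) (lall (memL L) [3, 6, 5, 7, 7, 5, 2, 5, 4, 4, 2, 5, 4, 4, 5]) = true := by decide +kernel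

theorem rot7_33 : T.rot 7 [7, 5, 2, 5, 4, 4, 2, 5, 4, 4, 5, 7, 3, 6, 5] (sel (ones 1755) ip7 33) = true := by decide +kernel

theorem rot7_33r : band (Rule.ok (2 * 1) EX RL ⟨7 :: [7, 5, 2, 5, 4, 4, 2, 5, 4, 4, 5, 7, 3, 6, 5], [5, 0, 3, 4, 2, 4, 2, 2, 0], 4, true⟩) (lall (memL L) [7, 5, 2, 5, 4, 4, 2, 5, 4, 4, 5, 7, 3, 6, 5]) = true := by decide +kernel

theorem rot7_34 : T.rot 7 [5, 2, 5, 4, 4, 2, 5, 4, 4, 5, 7, 3, 6, 5, 7] (sel (ones 1755) ip7 34) = true := by decide +kernel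

theorem rot7_34r : band (Rule.ok (2 * 1) EX RL ⟨7 :: [5, 2, 5, 4, 4, 2, 5, 4, 4, 5, 7, 3, 6, 5, 7], [5, 0, 3, 4, 2, 2, 0], 4, true⟩) (lall (memL L) [5, 2, 5, 4, 4, 2, 5, 4, 4, 5, 7, 3, 6, 5, 7]) = true := by decide +kernel

theorem rot7_35 : T.rot 7 [5, 6, 3, 2, 2, 3, 4, 2, 2, 3, 4, 3, 6, 6, 3] (sel (ones 1755) ip7 35) = true := by decide +kernel

theorem rot7_35r : band (Rule.ok (2 * 1) EX RL ⟨7 :: [5, 6, 3, 2, 2, 3, 4, 2, 2, 3, 4, 3, 6, 6, 3], [5, 0, 3, 4, 2, 4, 2, 2, 0, 5], 4, false⟩) (lall (memL L) [5, 6, 3, 2, 2, 3, 4, 2, 2, 3, 4, 3, 6, 6, 3]) = true := by decide +kernel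

theorem rot7_36 : T.rot 7 [5, 5, 7, 7, 5, 3, 7, 2, 2, 3, 4, 5, 5, 2, 5, 4, 4] (sel (ones 1755) ip7 36) = true := by decide +kernel

theorem rot7_36r : band (Rule.ok (2 * 1) EX RL ⟨7 :: [5, 5, 7, 7, 5, 3, 7, 2, 2, 3, 4, 5, 5, 2, 5, 4, 4], [3, 4, 2, 2], 10, false⟩) (lall (memL L) [5, 5, 7, 7, 5, 3, 7, 2, 2, 3, 4, 5, 5, 2, 5, 4, 4]) = true := by decide +kernel

theorem rot7_37 : T.rot 7 [7, 5, 3, 7, 2, 2, 3, 4, 5, 5, 2, 5, 4, 4, 7, 5, 5] (sel (ones 1755) ip7 37) = true := by decide +kernel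

theorem rot7_37r : band (Rule.ok (2 * 1) EX RL ⟨7 :: [7, 5, 3, 7, 2, 2, 3, 4, 5, 5, 2, 5, 4, 4, 7, 5, 5], [3, 4, 2, 2, 0, 3, 3, 5, 2, 0, 4, 4], 10, false⟩) (lall (memL L) [7, 5, 3, 7, 2, 2, 3, 4, 5, 5, 2, 5, 4, 4, 7, 5, 5]) = true := by decide +kernel

theorem rot7_38 : T.rot 7 [5, 3, 7, 2, 2, 3, 4, 5, 5, 2, 5, 4, 4, 7, 5, 5, 7] (sel (ones 1755) ip7 38) = true := by decide +kernel

theorem rot7_38r : band (Rule.ok (2 * 1) EX RL ⟨7 :: [5, 3, 7, 2, 2, 3, 4, 5, 5, 2, 5, 4, 4, 7, 5, 5, 7], [5, 5, 3, 4, 2, 2, 0, 3, 4, 2, 4, 2, 2, 0], 10, false⟩) (lall (memL L) [5, 3, 7, 2, 2, 3, 4, 5, 5, 2, 5, 4, 4, 7, 5, 5, 7]) = true := by decide +kernel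

theorem rot7_39 : T.rot 7 [2, 2, 3, 4, 5, 5, 2, 5, 4, 4, 7, 5, 5, 7, 7, 5, 3] (sel (ones 1755) ip7 39) = true := by decide +kernel

theorem rot7_39r : band (Rule.ok (2 * 1) EX RL ⟨7 :: [2, 2, 3, 4, 5, 5, 2, 5, 4, 4, 7, 5, 5, 7, 7, 5, 3], [5, 5, 3, 4, 2, 2, 0, 3, 4, 2, 2, 0], 10, false⟩) (lall (memL L) [2, 2, 3, 4, 5, 5, 2, 5, 4, 4, 7, 5, 5, 7, 7, 5, 3]) = true := by decide +kernel

theorem rot7_40 : T.rot 7 [4, 6, 2, 5, 4, 1, 2, 3, 2, 2, 1, 4, 4, 5, 4, 1, 2, 3] (sel (ones 1755) ip7 40) = true := by decide +kernel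

theorem rot7_40r : band (Rule.ok (2 * 1) EX RL ⟨7 :: [4, 6, 2, 5, 4, 1, 2, 3, 2, 2, 1, 4, 4, 5, 4, 1, 2, 3], [0, 3, 5, 3, 3, 0, 2, 2, 4, 2, 0, 3, 5], 17, true⟩) (lall (memL L) [4, 6, 2, 5, 4, 1, 2, 3, 2, 2, 1, 4, 4, 5, 4, 1, 2, 3]) = true := by decide +kernel

theorem rot7_41 : T.rot 7 [2, 6, 5, 4, 1, 2, 3, 2, 2, 1, 4, 4, 5, 4, 1, 2, 3, 4] (sel (ones 1755) ip7 41) = true := by decide +kernel

theorem rot7_41r : band (Rule.ok (2 * 1) EX RL ⟨7 :: [2, 6, 5, 4, 1, 2, 3, 2, 2, 1, 4, 4, 5, 4, 1, 2, 3, 4], [3, 5, 2], 17, false⟩) (lall (memL L) [2, 6, 5, 4, 1, 2, 3, 2, 2, 1, 4, 4, 5, 4, 1, 2, 3, 4]) = true := by decide +kernel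

theorem rot7_42 : T.rot 7 [5, 2, 5, 4, 4, 7, 5, 7, 5, 2, 5, 4, 4, 7, 5, 2, 5, 4, 4, 2, 5, 4, 4] (sel (ones 1755) ip7 42) = true := by decide +kernel

theorem rot7_42r : band (Rule.ok (2 * 1) EX RL ⟨7 :: [5, 2, 5, 4, 4, 7, 5, 7, 5, 2, 5, 4, 4, 7, 5, 2, 5, 4, 4, 2, 5, 4, 4], [3, 4, 2, 4, 2, 2], 6, true⟩) (lall (memL L) [5, 2, 5, 4, 4, 7, 5, 7, 5, 2, 5, 4, 4, 7, 5, 2, 5, 4, 4, 2, 5, 4, 4]) = true := by decide +kernel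

theorem rot7_43 : T.rot 7 [5, 7, 5, 2, 5, 4, 4, 7, 5, 2, 5, 4, 4, 2, 5, 4, 4, 7, 5, 2, 5, 4, 4] (sel (ones 1755) ip7 43) = true := by decide +kernel

theorem rot7_43r : band (Rule.ok (2 * 1) EX RL ⟨7 :: [5, 7, 5, 2, 5, 4, 4, 7, 5, 2, 5, 4, 4, 2, 5, 4, 4, 7, 5, 2, 5, 4, 4], [3, 4, 2, 4, 2, 2, 0, 3, 3, 5, 2, 0, 4, 3, 4, 2, 2], 6, true⟩) (lall (memL L) [5, 7, 5, 2, 5, 4, 4, 7, 5, 2, 5, 4, 4, 2, 5, 4, 4, 7, 5, 2, 5, 4, 4]) = true := by decide +kernel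

theorem rot7_44 : T.rot 7 [5, 2, 5, 4, 4, 7, 5, 2, 5, 4, 4, 2, 5, 4, 4, 7, 5, 2, 5, 4, 4, 7, 5] (sel (ones 1755) ip7 44) = true := by decide +kernel

theorem rot7_44r : band (Rule.ok (2 * 1) EX RL ⟨7 :: [5, 2, 5, 4, 4, 7, 5, 2, 5, 4, 4, 2, 5, 4, 4, 7, 5, 2, 5, 4, 4, 7, 5], [5, 0, 3, 4, 2, 2, 0, 3, 3, 5, 2, 5, 0, 3, 4, 2, 2, 0], 6, true⟩) (lall (memL L) [5, 2, 5, 4, 4, 7, 5, 2, 5, 4, 4, 2, 5, 4, 4, 7, 5, 2, 5, 4, 4, 7, 5]) = true := by decide +kernel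

theorem rot7_45 : T.rot 7 [5, 2, 5, 4, 4, 2, 5, 4, 4, 7, 5, 2, 5, 4, 4, 7, 5, 7, 5, 2, 5, 4, 4] (sel (ones 1755) ip7 45) = true := by decide +kernel

theorem rot7_45r : band (Rule.ok (2 * 1) EX RL ⟨7 :: [5, 2, 5, 4, 4, 2, 5, 4, 4, 7, 5, 2, 5, 4, 4, 7, 5, 7, 5, 2, 5, 4, 4], [5, 0, 3, 4, 2, 2, 0], 6, true⟩) (lall (memL L) [5, 2, 5, 4, 4, 2, 5, 4, 4, 7, 5, 2, 5, 4, 4, 7, 5, 7, 5, 2, 5, 4, 4]) = true := by decide +kernel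

theorem rot7_46 : T.rot 7 [5, 2, 5, 4, 4, 7, 5, 2, 5, 4, 4, 7, 5, 2, 5, 4, 4, 7, 5, 2, 5, 4, 4] (sel (ones 1755) ip7 46) = true := by decide +kernel

theorem rot7_46r : band (Rule.ok (2 * 1) EX RL ⟨7 :: [5, 2, 5, 4, 4, 7, 5, 2, 5, 4, 4, 7, 5, 2, 5, 4, 4, 7, 5, 2, 5, 4, 4], [3, 4, 2, 2], 7, true⟩) (lall (memL L) [5, 2, 5, 4, 4, 7, 5, 2, 5, 4, 4, 7, 5, 2, 5, 4, 4, 7, 5, 2, 5, 4, 4]) = true := by decide +kernel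

theorem cov7 : T.cover 7 [(sel (ones 1755) ip7 1), (sel (ones 1755) ip7 2), (sel (ones 1755) ip7 3), (sel (ones 1755) ip7 4), (sel (ones 1755) ip7 5), (sel (ones 1755) ip7 6), (sel (ones 1755) ip7 7), (sel (ones 1755) ip7 8), (sel (ones 1755) ip7 9), (sel (ones 1755) ip7 10), (sel (ones 1755) ip7 11), (sel (ones 1755) ip7 12), (sel (ones 1755) ip7 13), (sel (ones 1755) ip7 14), (sel (ones 1755) ip7 15), (sel (ones 1755) ip7 16), (sel (ones 1755) ip7 17), (sel (ones 1755) ip7 18), (sel (ones 1755) ip7 19), (sel (ones 1755) ip7 20), (sel (ones 1755) ip7 21), (sel (ones 1755) ip7 22), (sel (ones 1755) ip7 23), (sel (ones 1755) ip7 24), (sel (ones 1755) ip7 25), (sel (ones 1755) ip7 26), (sel (ones 1755) ip7 27), (sel (ones 1755) ip7 28), (sel (ones 1755) ip7 29), (sel (ones 1755) ip7 30), (sel (ones 1755)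 ip7 31), (sel (ones 1755) ip7 32), (sel (ones 1755) ip7 33), (sel (ones 1755) ip7 34), (sel (ones 1755) ip7 35), (sel (ones 1755) ip7 36), (sel (ones 1755) ip7 37), (sel (ones 1755) ip7 38), (sel (ones 1755) ip7 39), (sel (ones 1755) ip7 40), (sel (ones 1755) ip7 41), (sel (ones 1755) ip7 42), (sel (ones 1755) ip7 43), (sel (ones 1755) ip7 44), (sel (ones 1755) ip7 45), (sel (ones 1755) ip7 46)] = true := by decide +kernel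

theorem tl7 : Nat.beq (T.let 7).tt 0 = true := by decide +kernel

end Cfsg.Agent.Spor.Rub
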