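import Cfsg.Agent.Spor.Sub3
import Cfsg.Agent.Spor.Rub.S.Main
import Cfsg.Agent.Spor.Rub.L.Main
import Cfsg.Agent.Spor.DC
import Cfsg.Agent.Spor.Ruc.Main
import Cfsg.Agent.Spor.Rud.Main
import Cfsg.Agent.Spor.Rue.Main
import Cfsg.Agent.Spor.Rank2
import Cfsg.Agent.Spor.Tia.Grp

set_option autoImplicit false
set_option maxRecDepth 100000

namespace Cfsg.Agent.Spor.Rub

theorem bound : Bound 3 1 RL 35942400 := show Bound 3 1 RL (1755 * (10 * (8 * (256)))) from (Rub.cert.bound' (Ruc.cert.bound (Rud.cert.bound Rue.cert.bound_nil (H := [([], 0, true), ([], 1, true), ([], 2, true), ([], 3, true), ([], 4, true), ([], 5, true), ([], 6, true), ([], 7, true)]) (by decide +kernel)) (H := [([], 0, true), ([], 1, true), ([], 2, true), ([], 3, true), ([], 4, true), ([], 5, true), ([], 6, true), ([], 7, true), ([], 8, true), ([], 9, true), ([], 10, true), ([], 11, true)]) (by decide +kernel)) (H := [([], 0, true), ([], 1, true), ([], 2, true), ([], 3, true), ([], 4, true), ([], 5, true), ([], 6, true), ([], 7, true), ([], 8, true), ([], 9, true),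 ([], 10, true), ([0, 4], 5, false), ([], 12, true), ([], 13, true), ([], 14, true), ([], 15, true), ([], 16, true), ([], 17, true)]) (H' := [([], 0, true), ([], 1, true), ([], 2, true), ([], 3, true), ([], 4, true), ([], 5, true), ([], 6, true), ([], 7, true), ([], 8, true), ([], 9, true), ([], 10, true), ([0, 4], 5, false), ([], 12, true), ([], 13, true), ([], 14, true)]) (by decide +kernel) (by decide +kernel))

/-- the permutation group -/
noncomputable abbrev P : Subgroup (Equiv.Perm ℕ) := gsub 3 fP
noncomputable abbrev p : ℕ → P := lift P fP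

theorem lbP : 35942400 ∣ Nat.card P := by
  rw [P, L.eG]; exact L.lb

theorem cardP : Nat.card P = 35942400 := Nat.dvd_antisymm (bound _ _ cert.pres) lbP

instance instFiniteP : Finite P := Nat.finite_of_card_ne_zero (by rw [cardP]; norm_num)

theorem coatomP : IsCoatom (wsub 3 p BW) :=
  cert.self.coatom (by norm_num) ((map_wsub_lift fP BW).trans S.eH)
    ((Subgroup.range_subtype _).trans S.eG) S.hX S.hXc S.hY

theorem coreP : (wsub 3 p BW).normalCore = ⊥ :=
  cert.self.core_eq_bot P.subtype_injective ((Subgroup.range_subtype P).symm ▸ S.hfix)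

theorem presP : Pres 3 1 RL p := cert.pres.lift

noncomputable abbrev TT : Subgroup P := wsub 3 p L.pTWD

theorem simpleT : IsSimpleGroup TT ∧ Nat.card TT = 17971200 :=
  simple_card_congr ((MulEquiv.subgroupCongr (map_wsub_lift fP L.pTWD).symm).trans
    (Subgroup.equivMapOfInjective _ _ P.subtype_injective).symm)
    (Tia.bound.simple (by norm_num) Tia.cert.pres L.pTW Tia.lbP Tia.simpleP
      (wv_ne_one (by norm_num) L.r_ne rfl))

theorem indexT : TT.index = 2 := index_of_card (cardP.trans (by norm_num)) simpleT.2 (by norm_num)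

theorem casesP : ∀ M : Subgroup P, M.Normal → M = ⊥ ∨ TT ≤ M :=
  cases_of_index_two indexT simpleT.1 coatomP coreP (by rw [cert.self.index]; norm_num)

end Cfsg.Agent.Spor.Rub
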